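import Cfsg.Agent.H36.OrderExceptions
import Cfsg.Agent.H36.NoSimple
import Cfsg.Agent.H36.FullNormalizer
import Cfsg.Agent.S0992
import Cfsg.Agent.S1010

/-!
# The exceptional orders between 1093 and 3640
-/

set_option autoImplicit false
set_option Elab.async false
set_option maxRecDepth 100000
set_option linter.unusedSectionVars false
set_option linter.style.haveILetI false

namespace Cfsg.Agent.H79.DegGraphSmall.MidOrders

open Subgroup Cfsg.Agent.H36 Cfsg.Agent.H36.OrderScreen

variable {G : Type*} [Group G] [Finite G] [IsSimpleGroup G]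

theorem card_normalizer_of {p : ℕ} {P : Subgroup G} {r c : ℕ}
    (hr : (centralizer (P : Set G)).relIndex (normalizer (P : Set G)) = r)
    (hc : Nat.card (centralizer (P : Set G)) = p * c) :
    Nat.card (normalizer (P : Set G)) = p * c * r := by
  rw [card_normalizer_eq_mul, hr, hc]

theorem false_of_card_1764 (hG : ¬ IsMulCommutative G) (hn : Nat.card G = 1764) : False := by
  haveI : Fact (Nat.Prime 7) := ⟨by norm_num⟩
  refine false_of_two_sylow_small hG (p := 7) (a := 1) (m := 36) (by rw [hn]; norm_num)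
    (by norm_num) one_ne_zero (OrderExceptions.not_modEq hG (a := 1) (m := 36)
      (by rw [hn]; norm_num) (by norm_num) (by norm_num) ?_) ?_
  · rw [hn]; decide +kernel
  · rw [hn]; decide +kernel

theorem false_of_card_3528 (hG : ¬ IsMulCommutative G) (hn : Nat.card G = 3528) : False := by
  haveI : Fact (Nat.Prime 7) := ⟨by norm_num⟩
  refine false_of_two_sylow_small hG (p := 7) (a := 1) (m := 72) (by rw [hn]; norm_num)
    (by norm_num) one_ne_zero (OrderExceptions.not_modEq hG (a := 1) (m := 72)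
      (by rw [hn]; norm_num) (by norm_num) (by norm_num) ?_) ?_
  · rw [hn]; decide +kernel
  · rw [hn]; decide +kernel

/-- When eight does not divide the order, a normalizer never induces a cyclic group of order four. -/
theorem false_of_four_normalizer (hG : ¬ IsMulCommutative G) (h4 : 4 ∣ Nat.card G)
    (h8 : ¬ 8 ∣ Nat.card G) {p : ℕ} [Fact p.Prime] {P : Subgroup G} (hP : Nat.card P = p)
    (hr : 4 ∣ (centralizer (P : Set G)).relIndex (normalizer (P : Set G))) : False := by
  haveI : IsCyclic P := isCyclic_of_prime_card hP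
  haveI : Fact (Nat.Prime 2) := ⟨Nat.prime_two⟩
  set f := P.normalizerMonoidHom
  have hidx : f.ker.index = (centralizer (P : Set G)).relIndex (normalizer (P : Set G)) := by
    rw [Subgroup.normalizerMonoidHom_ker]; rfl
  haveI : Finite (MulAut P) := Finite.of_injective (fun e => (e : P → P)) DFunLike.coe_injective
  haveI : IsCyclic (ZMod (Nat.card P))ˣ := by
    rw [hP]; exact ZMod.isCyclic_units_prime (Fact.out : p.Prime)
  haveI : IsCyclic (MulAut P) :=
    isCyclic_of_surjective _ (IsCyclic.mulAutMulEquiv P).symm.surjective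
  have hcard : 4 ∣ Nat.card f.range := by
    rwa [← Subgroup.index_ker, hidx]
  obtain ⟨g, hg⟩ := IsCyclic.exists_generator (α := f.range)
  obtain ⟨x, hx⟩ := g.2
  have h4x : 4 ∣ orderOf x := by
    refine (hcard.trans ?_).trans (orderOf_map_dvd f x)
    rw [hx, orderOf_coe, orderOf_eq_card_of_forall_mem_zpowers hg]
  obtain ⟨k, hk⟩ := h4x
  have hy : orderOf (x ^ k) = 4 := by
    rw [orderOf_pow, hk, Nat.gcd_mul_left_left]
    exact Nat.mul_div_cancel _ (Nat.pos_of_ne_zero fun h => by
      rw [h, mul_zero] at hk; exact (orderOf_pos x).ne' hk)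
  have hy' : orderOf ((x ^ k : normalizer (P : Set G)) : G) = 4 := by rw [orderOf_coe, hy]
  have hz : IsPGroup 2 (zpowers ((x ^ k : normalizer (P : Set G)) : G)) :=
    IsPGroup.of_card (n := 2) (by rw [Nat.card_zpowers, hy']; norm_num)
  obtain ⟨T, hT⟩ := hz.exists_le_sylow
  obtain ⟨hK, -⟩ := S0992.result hG (even_iff_two_dvd.2 ((by norm_num : 2 ∣ 4).trans h4)) h8 T
  haveI := hK
  have h2 := Monoid.order_dvd_exponent (⟨_, hT (mem_zpowers _)⟩ : (T : Subgroup G))
  rw [IsKleinFour.exponent_two, orderOf_mk, hy'] at h2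
  norm_num at h2

theorem false_of_card_1404 (hG : ¬ IsMulCommutative G) (hn : Nat.card G = 1404) : False := by
  haveI : Fact (Nat.Prime 13) := ⟨by norm_num⟩
  obtain ⟨P, r, c, hP, hr, -, hskip⟩ := exists_of_blockOnly hG (p := 13) (by omega)
    (fun _ => true) (fun _ _ _ _ => rfl) (fun r _ => r == 4) (by rw [hn]; decide +kernel)
  simp only [beq_iff_eq] at hskip
  exact false_of_four_normalizer hG (by rw [hn]; norm_num) (by rw [hn]; norm_num) hP
    (by rw [hr, hskip])

theorem false_of_card_1620 (hG : ¬ IsMulCommutative G) (hn : Nat.card G = 1620) : False := by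
  haveI : Fact (Nat.Prime 5) := ⟨by norm_num⟩
  obtain ⟨P, r, c, hP, hr, -, hskip⟩ := exists_of_blockOnly hG (p := 5) (by omega)
    (fun _ => true) (fun _ _ _ _ => rfl) (fun r _ => r == 4) (by rw [hn]; decide +kernel)
  simp only [beq_iff_eq] at hskip
  exact false_of_four_normalizer hG (by rw [hn]; norm_num) (by rw [hn]; norm_num) hP
    (by rw [hr, hskip])

theorem false_of_card_1680 (hG : ¬ IsMulCommutative G) (hn : Nat.card G = 1680) : False := by
  haveI : Fact (Nat.Prime 5) := ⟨by norm_num⟩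
  obtain ⟨P, r, c, hP, hr, hc, hskip⟩ := exists_of_blockOnly hG (p := 5) (by omega)
    (fun _ => true) (fun _ _ _ _ => rfl) (fun r c => r == 4 && c == 4) (by rw [hn]; decide +kernel)
  simp only [Bool.and_eq_true, beq_iff_eq] at hskip
  obtain ⟨rfl, rfl⟩ := hskip
  have h := card_sylow_mul_normalizer P
  rw [card_normalizer_of hr hc, hn] at h
  exact S1010.result (G := G) (by omega)

theorem search_1512 : ∀ c ∈ (divProds [8, 27, 7]).filter (fun c => 3 ∣ c),
    FullNormalizer.search 1512 7 c (divProds [8, 27, 7]) = true := by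
  rw [show (divProds [8, 27, 7]).filter (fun c => 3 ∣ c) = [3, 21, 9, 63, 27, 189, 6, 42, 18, 126, 54,
    378, 12, 84, 36, 252, 108, 756, 24, 168, 72, 504, 216, 1512] by decide +kernel]
  intro c hc
  simp only [List.mem_cons, List.not_mem_nil, or_false] at hc
  rcases hc with rfl | rfl | rfl | rfl | rfl | rfl | rfl | rfl | rfl | rfl | rfl | rfl | rfl | rfl |
    rfl | rfl | rfl | rfl | rfl | rfl | rfl | rfl | rfl | rfl <;> decide +kernel

theorem false_of_card_1512 (hG : ¬ IsMulCommutative G) (hn : Nat.card G = 1512) : False := by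
  haveI := Fintype.ofFinite G
  haveI : Fact (Nat.Prime 7) := ⟨by norm_num⟩
  haveI : Fact (Nat.Prime 2) := ⟨Nat.prime_two⟩
  obtain ⟨P, r, c, hP, hr, hc, hskip⟩ := exists_of_blockOnly hG (p := 7) (by omega)
    (fun _ => true) (fun _ _ _ _ => rfl) (fun r c => r == 6 && c == 1) (by rw [hn]; decide +kernel)
  simp only [Bool.and_eq_true, beq_iff_eq] at hskip
  obtain ⟨rfl, rfl⟩ := hskip
  have hC := OrderExceptions.centralizer_eq_self hP hc
  haveI : IsCyclic (P : Subgroup G) := isCyclic_of_prime_card hP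
  set N := normalizer ((P : Subgroup G) : Set G)
  set f := (P : Subgroup G).normalizerMonoidHom
  have hrange : Nat.card f.range = 6 := by
    rw [← Subgroup.index_ker, Subgroup.normalizerMonoidHom_ker]
    exact hr
  haveI : Finite (MulAut (P : Subgroup G)) :=
    Finite.of_injective (fun e : MulAut (P : Subgroup G) => ⇑e) DFunLike.coe_injective
  -- an element of `N(P)` inducing an automorphism of order six
  obtain ⟨g, hg⟩ := exists_prime_orderOf_dvd_card' (G := f.range) 2 (by rw [hrange]; norm_num)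
  haveI : Fact (Nat.Prime 3) := ⟨Nat.prime_three⟩
  obtain ⟨h, hh⟩ := exists_prime_orderOf_dvd_card' (G := f.range) 3 (by rw [hrange]; norm_num)
  have hgh : orderOf ((g : MulAut (P : Subgroup G)) * h) = 6 := by
    have hc : Commute (g : MulAut (P : Subgroup G)) h :=
      (IsCyclic.mulAutMulEquiv (P : Subgroup G)).injective (by rw [map_mul, map_mul, mul_comm])
    rw [hc.orderOf_mul_eq_mul_orderOf_of_coprime
      (by rw [orderOf_coe, orderOf_coe, hg, hh]; norm_num), orderOf_coe, orderOf_coe, hg, hh]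
  obtain ⟨x, hx⟩ := (mul_mem g.2 h.2 : (g : MulAut (P : Subgroup G)) * h ∈ f.range)
  have h6 : 6 ∣ orderOf x := hgh ▸ hx ▸ orderOf_map_dvd f x
  obtain ⟨k, hk⟩ := h6
  have hk0 : k ≠ 0 := fun h => by rw [h, mul_zero] at hk; exact (orderOf_pos x).ne' hk
  have ho : orderOf (x ^ (3 * k)) = 2 ∧ orderOf (x ^ (2 * k)) = 3 := by
    constructor <;> rw [orderOf_pow' _ (by positivity), hk, Nat.gcd_mul_right] <;>
      norm_num <;> exact Nat.div_eq_of_eq_mul_left (by omega) (by ring)
  set u : G := ((x ^ (3 * k) : N) : G) with hudef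
  have hu : orderOf u = 2 := by rw [hudef, orderOf_coe, ho.1]
  have huN : u ∈ N := (x ^ (3 * k) : N).2
  have hu1 : u ≠ 1 := fun h => by rw [h, orderOf_one] at hu; omega
  have huu : u * u = 1 := by rw [← pow_two, ← hu, pow_orderOf_eq_one]
  have h3 : 3 ∣ Nat.card (centralizer ({u} : Set G)) := by
    have hmem : ((x ^ (2 * k) : N) : G) ∈ centralizer ({u} : Set G) :=
      mem_centralizer_singleton_iff.2 (congrArg Subtype.val
        (((Commute.refl x).pow_pow (2 * k) (3 * k)).eq))
    have := Subgroup.orderOf_dvd_natCard _ hmem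
    rwa [orderOf_coe, ho.2] at this
  have hdiv : ∀ d, d ∣ 1512 → d ∈ divProds [8, 27, 7] := fun d hd =>
    mem_divProds _ (by simp) d (by simpa using hd)
  rw [hC] at hr
  exact FullNormalizer.false_of_search hG hP hC hr (by norm_num) huu hu1 huN hn rfl _ hdiv
    (search_1512 _ (List.mem_filter.2
      ⟨hdiv _ (hn ▸ card_subgroup_dvd_card _), decide_eq_true h3⟩))

theorem false_of_card_1344 (hG : ¬ IsMulCommutative G) (hn : Nat.card G = 1344) : False := by
  classical
  haveI := Fintype.ofFinite G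
  haveI : Fact (Nat.Prime 7) := ⟨by norm_num⟩
  haveI : Fact (Nat.Prime 3) := ⟨Nat.prime_three⟩
  haveI : Fact (Nat.Prime 2) := ⟨Nat.prime_two⟩
  obtain ⟨P, r, c, hP, hr, hc, hskip⟩ := exists_of_blockOnly hG (p := 7) (by omega)
    (fun _ => true) (fun _ _ _ _ => rfl) (fun r c => r == 3 && c == 1) (by rw [hn]; decide +kernel)
  simp only [Bool.and_eq_true, beq_iff_eq] at hskip
  obtain ⟨rfl, rfl⟩ := hskip
  obtain ⟨L, θ, hlen, hL, hθ2, hθd, hθr, -, hsum, hsq, χ, hχ⟩ :=
    BlockDegree.exists_data hG P hP hr hc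
  -- the exceptional degree is three
  have hθ : θ.natAbs = 3 := by
    obtain ⟨F₁, F₂, rfl⟩ := List.length_eq_two.1 (show L.length = 2 by omega)
    obtain ⟨a2, ad, am, -, -⟩ := hL F₁ (by simp)
    obtain ⟨b2, bd, bm, -, -⟩ := hL F₂ (by simp)
    rw [hn] at ad bd hsq hθd
    simp only [List.map_cons, List.map_nil, List.sum_cons, List.sum_nil, add_zero] at hsum hsq
    norm_num at hsq
    have hmem : ∀ F : ℤ, 2 ≤ F.natAbs → F.natAbs ∣ 1344 → (7 : ℤ) ∣ F - 1 → F ^ 2 ≤ 1344 →
        F ∈ ([8, -6, -27, 15, -20, -13, 22, 29, 36, -34] : List ℤ) ∧ F.natAbs ∣ 1344 := by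
      intro F h1 h2 h3 h4
      refine ⟨?_, h2⟩
      have h5 : F.natAbs < 37 := by
        have : (F.natAbs : ℤ) ^ 2 ≤ 1344 := by rwa [Int.natAbs_sq]
        by_contra hlt
        have h6 : (37 : ℤ) ≤ F.natAbs := by exact_mod_cast not_lt.1 hlt
        nlinarith
      simp only [List.mem_cons, List.not_mem_nil, or_false]
      omega
    obtain ⟨m1, -⟩ := hmem F₁ a2 ad am (by nlinarith [sq_nonneg F₂, sq_nonneg θ])
    obtain ⟨m2, -⟩ := hmem F₂ b2 bd bm (by nlinarith [sq_nonneg F₁, sq_nonneg θ])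
    have key : ∀ A ∈ ([8, -6, -27, 15, -20, -13, 22, 29, 36, -34] : List ℤ),
        ∀ B ∈ ([8, -6, -27, 15, -20, -13, 22, 29, 36, -34] : List ℤ),
        A.natAbs ∣ 1344 → B.natAbs ∣ 1344 → 2 ≤ (1 + (A + B)).natAbs →
        (1 + (A + B)).natAbs ∣ 1344 → (7 : ℤ) ∣ 1 + (A + B) - 3 →
        1 + (A ^ 2 + B ^ 2) + 2 * (1 + (A + B)) ^ 2 ≤ 1344 → (1 + (A + B)).natAbs = 3 := by
      decide +kernel
    rw [← hsum] at hθ2 hθd hθr hsq ⊢
    exact key _ m1 _ m2 ad bd hθ2 hθd (by simpa using hθr) (by linarith)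
  rw [hθ] at hχ
  -- the centraliser of an involution has no element of order three
  have hno : ∀ u : G, orderOf u = 2 → ¬ 3 ∣ Nat.card (centralizer ({u} : Set G)) := by
    intro u hu h3
    have hu1 : u ≠ 1 := fun h => by rw [h, orderOf_one] at hu; omega
    obtain ⟨x, hx, hxle, hx4⟩ := FullNormalizer.exists_int_involution hG χ
      (by rw [← pow_two, ← hu, pow_orderOf_eq_one]) hu1 (d := 3) (by exact_mod_cast hχ)
    have hx3 : x ≠ 3 := fun h => hu1 (SelfCentral.ker_trivial (χ := χ)
      (fun h' => by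
        have h1 : (1 : ℂ) = 3 := by
          have := congrArg (fun ψ : Cfsg.IrrCharacter G => (ψ : G → ℂ) 1) h'
          rw [hχ] at this
          simpa [SelfCentral.triv] using this.symm
        norm_num at h1)
      (by rw [hx, hχ, h]; norm_num))
    obtain rfl : x = -1 := by omega
    set k := (centralizer ({u} : Set G)).index
    have hk : (3 : ℤ) ∣ (k : ℤ) := by
      have h := H83.omega_class_isIntegral χ.2 u
      rw [hx, hχ] at h
      have h' := H83.int_dvd_of_isIntegral h (n := 3) (m := -(k : ℤ)) (by norm_num)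
        (by push_cast; ring)
      exact dvd_neg.1 h'
    have h9 : 3 * 3 ∣ Nat.card (centralizer ({u} : Set G)) * k :=
      mul_dvd_mul h3 (by exact_mod_cast hk)
    rw [card_mul_index, hn] at h9
    norm_num at h9
  obtain ⟨Q, r', c', hQ, -, hc', hskip'⟩ := exists_of_blockOnly hG (p := 3) (by omega)
    (fun _ => true) (fun _ _ _ _ => rfl) (fun _ c => c % 2 == 0) (by rw [hn]; decide +kernel)
  simp only [beq_iff_eq] at hskip'
  obtain ⟨t, ht⟩ := exists_prime_orderOf_dvd_card'
    (G := centralizer ((Q : Subgroup G) : Set G)) 2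
    (hc' ▸ dvd_mul_of_dvd_right (Nat.dvd_of_mod_eq_zero hskip') 3)
  refine hno t (by rw [orderOf_coe, ht]) ?_
  have hle : (Q : Subgroup G) ≤ centralizer ({(t : G)} : Set G) := fun q hq =>
    mem_centralizer_singleton_iff.2 (mem_centralizer_iff.1 t.2 q hq)
  have h := card_dvd_of_le hle
  rwa [hQ] at h

theorem check_2160 : ∀ j ∈ List.range 136, 135 % (j + 1) = 0 →
    ∀ Dd ∈ ([(9, 8), (4, 3)] : List (ℤ × ℤ)), ∀ i ∈ List.range 19,
      ((i : ℤ) - 9).natAbs ≤ Dd.1.natAbs → (i : ℤ) - 9 ≠ Dd.1 → (4 : ℤ) ∣ Dd.1 - ((i : ℤ) - 9) →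
      ((i : ℤ) - 10).natAbs ≤ Dd.2.natAbs →
      1 + ((i : ℤ) - 9) ^ 2 + ((i : ℤ) - 10) ^ 2 ≤ 16 * ((j + 1 : ℕ) : ℤ) →
      ¬ (2160 * (Dd.1 * Dd.2) : ℤ) ∣ ((135 / (j + 1) : ℕ) : ℤ) ^ 2 *
        (Dd.1 * Dd.2 - Dd.2 * ((i : ℤ) - 9) ^ 2 + Dd.1 * ((i : ℤ) - 10) ^ 2) := by
  decide +kernel

theorem degrees_2160 : ∀ D ∈ divProds [16, 27, 5], ∀ d ∈ divProds [16, 27, 5],
    ∀ s ∈ ([1, -1] : List ℤ), ∀ s' ∈ ([1, -1] : List ℤ), 2 ≤ D → 2 ≤ d →
    (5 : ℤ) ∣ (D : ℤ) - s → 1 + s * (D : ℤ) + s' * (d : ℤ) = 0 →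
      s = -1 ∧ s' = 1 ∧ ((D, d) = (9, 8) ∨ (D, d) = (4, 3)) := by
  decide +kernel

theorem false_of_card_2160 (hG : ¬ IsMulCommutative G) (hn : Nat.card G = 2160) : False := by
  classical
  haveI := Fintype.ofFinite G
  haveI : Fact (Nat.Prime 5) := ⟨by norm_num⟩
  obtain ⟨P, r, c, hP, hr, hc, hskip⟩ := exists_of_blockOnly hG (p := 5) (by omega)
    (fun _ => true) (fun _ _ _ _ => rfl) (fun r c => r == 2 && c == 1) (by rw [hn]; decide +kernel)
  simp only [Bool.and_eq_true, beq_iff_eq] at hskip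
  obtain ⟨rfl, rfl⟩ := hskip
  have hC := OrderExceptions.centralizer_eq_self hP hc
  rw [hC] at hr
  obtain ⟨z, hz, hz1, hzc⟩ := exists_central_involution (a := 4) (by norm_num)
    (hn ▸ (by norm_num) : 2 ^ 4 ∣ Nat.card G)
  obtain ⟨O, a, μ₀, s', htO, hμ0, hO, hs', hψO, heq, hsum⟩ :=
    SelfCentral.exists_equation hG hP hC hr (Or.inl rfl) (by norm_num)
  obtain ⟨ψ, rfl⟩ := Finset.card_eq_one.1 (show O.card = 1 by omega)
  obtain ⟨hs, m, hm⟩ := hψO ψ (Finset.mem_singleton_self _)
  have hψ : ψ ≠ SelfCentral.triv G := fun h => htO (by simp [h])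
  obtain ⟨D, hD2, hD, hDdvd⟩ := SelfCentral.exists_degree_two_le hG hψ
  obtain ⟨d, hd2, hd, hddvd⟩ := SelfCentral.exists_degree_two_le hG hμ0
  obtain ⟨X, hX, hXD, hX4⟩ := FullNormalizer.exists_int_involution hG ψ hz hz1 hD
  obtain ⟨Y, hY, hYd, -⟩ := FullNormalizer.exists_int_involution hG μ₀ hz hz1 hd
  have e1 := heq 1 (SelfCentral.off_one _)
  have e2 := heq z (SelfCentral.off_of_involution hP (by norm_num) hz)
  simp only [Finset.sum_singleton, hD, hd, hX, hY] at e1 e2
  have E1 : 1 + a ψ * (D : ℤ) + s' * (d : ℤ) = 0 := by exact_mod_cast e1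
  have E2 : 1 + a ψ * X + s' * Y = 0 := by exact_mod_cast e2
  rw [hn] at hDdvd hddvd
  rw [hD] at hm
  have hm' : (D : ℤ) = a ψ + 5 * m := by exact_mod_cast hm
  obtain ⟨ha, hb, hDd⟩ := degrees_2160 D (mem_divProds _ (by simp) _ (by simpa using hDdvd))
    d (mem_divProds _ (by simp) _ (by simpa using hddvd)) (a ψ)
    (by rcases hs with h | h <;> simp [h]) s' (by rcases hs' with h | h <;> simp [h]) hD2 hd2
    ⟨m, by omega⟩ E1
  subst hb
  rw [ha] at E2
  -- the class multiplication constant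
  haveI : Nontrivial (P : Subgroup G) :=
    Finite.one_lt_card_iff_nontrivial.1 (by rw [hP]; norm_num)
  obtain ⟨v, hv⟩ := exists_ne (1 : (P : Subgroup G))
  have hformula := H83.card_pairs_mul_card z z (v : G)
  have hF := hsum z (SelfCentral.off_of_involution hP (by norm_num) hz) v hv
    (fun X D => starRingEnd ℂ X * starRingEnd ℂ X / D)
  rw [Finset.sum_congr rfl (g := fun χ : Cfsg.IrrCharacter G =>
    starRingEnd ℂ ((χ : G → ℂ) z) * starRingEnd ℂ ((χ : G → ℂ) z) / (χ : G → ℂ) 1 *
      (χ : G → ℂ) v) (fun χ _ => by ring), hF] at hformula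
  simp only [Finset.sum_singleton, hX, hY, hD, hd, ha, map_intCast, map_one] at hformula
  set N := Nat.card {b : G // IsConj z b ∧ IsConj z (b⁻¹ * (v : G))}
  set k := (centralizer ({z} : Set G)).index
  have hDC : (D : ℂ) ≠ 0 := Nat.cast_ne_zero.2 (by omega)
  have hdC : (d : ℂ) ≠ 0 := Nat.cast_ne_zero.2 (by omega)
  have key : ((2160 : ℤ) * N) * (D * d) =
      (k : ℤ) ^ 2 * (D * d - d * X ^ 2 + D * Y ^ 2) := by
    have h' := congrArg (fun w : ℂ => w * ((D : ℂ) * d)) hformula
    have h2 : ((((2160 : ℤ) * N) * (D * d) : ℤ) : ℂ) =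
        (((k : ℤ) ^ 2 * (D * d - d * X ^ 2 + D * Y ^ 2) : ℤ) : ℂ) := by
      rw [hn] at h'
      push_cast at h' ⊢
      rw [h']
      field_simp
      ring
    exact_mod_cast h2
  -- the column of `z`
  have hcol : 1 + X ^ 2 + Y ^ 2 ≤ (Nat.card (centralizer ({z} : Set G)) : ℤ) := by
    have h := congrArg Complex.re (CharBasic.second_orthogonality_self (G := G) z)
    rw [Complex.re_sum, Complex.natCast_re] at h
    simp only [Complex.mul_conj, Complex.ofReal_re] at h
    have hne : ψ ≠ μ₀ := by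
      intro h0
      rw [h0, hd] at hD
      have : D = d := by exact_mod_cast hD.symm
      simp only [Prod.mk.injEq] at hDd
      omega
    have hle := Finset.sum_le_sum_of_subset_of_nonneg (f := fun χ : Cfsg.IrrCharacter G =>
      Complex.normSq ((χ : G → ℂ) z)) (Finset.subset_univ {SelfCentral.triv G, ψ, μ₀})
      fun _ _ _ => Complex.normSq_nonneg _
    rw [Finset.sum_insert (by simp [hψ.symm, hμ0.symm]), Finset.sum_pair hne, h,
      show (SelfCentral.triv G : G → ℂ) z = 1 from rfl, map_one, hX, hY] at hle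
    simp only [Complex.normSq_intCast] at hle
    have : ((1 + X ^ 2 + Y ^ 2 : ℤ) : ℝ) ≤
        ((Nat.card (centralizer ({z} : Set G)) : ℤ) : ℝ) := by
      push_cast; rw [pow_two, pow_two]; linarith
    exact_mod_cast this
  obtain ⟨j, hj⟩ := hzc
  have hk : k * (16 * j) = 2160 := by
    rw [show (16 : ℕ) = 2 ^ 4 from rfl, ← hj, index_mul_card, hn]
  have hkj : k * j = 135 := by nlinarith
  have hj0 : 0 < j := Nat.pos_of_ne_zero fun h => by rw [h, mul_zero] at hkj; omega
  have hjle : j ≤ 135 := Nat.le_of_dvd (by norm_num) ⟨k, by linarith⟩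
  have hXD' : X ≠ D := fun h => hz1 (SelfCentral.ker_trivial hψ
    (by rw [hX, hD, h, Int.cast_natCast]))
  have hx9 : X.natAbs ≤ 9 := by rcases hDd with h | h <;> simp only [Prod.mk.injEq] at h <;> omega
  refine check_2160 (j - 1) (List.mem_range.2 (by omega))
    (by rw [show j - 1 + 1 = j by omega]; exact Nat.mod_eq_zero_of_dvd ⟨k, by linarith⟩)
    ((D : ℤ), (d : ℤ)) (by rcases hDd with h | h <;> simp only [Prod.mk.injEq] at h <;>
      obtain ⟨rfl, rfl⟩ := h <;> simp)
    (X + 9).toNat (List.mem_range.2 (by omega)) (by omega) (by omega) ?_ ?_ ?_ ⟨(N : ℤ), ?_⟩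
  · rw [show ((X + 9).toNat : ℤ) - 9 = X by omega]; exact hX4
  · rw [show ((X + 9).toNat : ℤ) - 10 = Y by omega]; simpa using hYd
  · rw [show ((X + 9).toNat : ℤ) - 9 = X by omega, show ((X + 9).toNat : ℤ) - 10 = Y by omega,
      show j - 1 + 1 = j by omega]
    rw [hj] at hcol
    push_cast at hcol ⊢
    linarith
  · have hk' : 135 / j = k := Nat.div_eq_of_eq_mul_left hj0 hkj.symm
    rw [show ((X + 9).toNat : ℤ) - 9 = X by omega, show ((X + 9).toNat : ℤ) - 10 = Y by omega,
      show j - 1 + 1 = j by omega, hk']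
    linarith [key]

/-- No simple group of order `25 m` for these `m`. -/
theorem false_of_five_sq (hG : ¬ IsMulCommutative G) {m : ℕ}
    (hm : m ∈ [72, 96, 108, 144]) (hn₀ : Nat.card G = 25 * m) : False := by
  classical
  haveI : Fact (Nat.Prime 5) := ⟨by norm_num⟩
  have hm5 : ¬ 5 ∣ m := by simp only [List.mem_cons, List.not_mem_nil, or_false] at hm; omega
  have hn' : Nat.card G = 5 ^ (1 + 1) * m := by rw [hn₀]; norm_num
  have hmm : ∀ m ∈ [72, 96, 108, 144], ∀ k ∈ List.range (m / 5), m % ((k + 1) * 5 + 1) = 0 →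
      tooFew (25 * m) ((k + 1) * 5 + 1) = false → ((k + 1) * 5 + 1) % 5 ^ 2 ≠ 1 := by
    decide +kernel
  obtain ⟨D, P, R, hPR, hD, hDP, hDR, -, -⟩ := exists_two_sylow_normalizer hn' hm5
    (OrderExceptions.not_modEq hG hn' hm5 (by
      simp only [List.mem_cons, List.not_mem_nil, or_false] at hm; omega)
      (by rw [hn₀]; exact hmm m hm))
  rw [pow_one] at hD
  have hbig : ∀ H : Subgroup G, H ≠ ⊤ → 10 * Nat.card H ≤ 25 * m := by
    intro H hH
    by_contra hlt
    have h2 := H.card_mul_index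
    rw [hn₀] at h2
    have h3 : H.index ≤ 9 := by nlinarith
    have h4 := two_mul_card_dvd_factorial hG hH
    rw [hn₀] at h4
    have h5 : 25 ∣ H.index.factorial := (dvd_mul_of_dvd_right (dvd_mul_right _ _) _).trans h4
    have h6 : ∀ j ≤ 9, ¬ 25 ∣ j.factorial := by decide +kernel
    exact h6 _ h3 h5
  have hDbot : D ≠ ⊥ := fun h => by rw [h, card_bot] at hD; omega
  have hN : normalizer (D : Set G) ≠ ⊤ := normalizer_ne_top hDbot
    (fun h => by
      rw [h, card_top, hn₀] at hD
      simp only [List.mem_cons, List.not_mem_nil, or_false] at hm; omega)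
  set C := centralizer (D : Set G) with hCdef
  have hle : C ≤ normalizer (D : Set G) := centralizer_le_normalizer _
  have hcard : ∀ Q : Sylow 5 G, Nat.card (Q : Subgroup G) = 5 ^ 2 := fun Q =>
    card_sylow_eq hn' Q rfl hm5
  have habel : ∀ Q : Sylow 5 G, D ≤ (Q : Subgroup G) → (Q : Subgroup G) ≤ C := fun Q hQ a ha =>
    mem_centralizer_iff.2 fun d hd => comm_of_card_eq_sq (hcard Q) d (hQ hd) a ha
  have hn5 : 1 < Nat.card (Sylow 5 C) := one_lt_card_sylow_of_le hPR (habel P hDP) (habel R hDR)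
  -- the order of the centralizer
  have hC' : m = 144 ∧ Nat.card C = 300 := by
    obtain ⟨k, hk, hdvd⟩ := exists_mul_dvd_card hPR (habel P hDP) (habel R hDR)
    rw [hcard] at hdvd
    have h1 : 10 * Nat.card C ≤ 25 * m :=
      (Nat.mul_le_mul_left _ (Nat.le_of_dvd Nat.card_pos (card_dvd_of_le hle))).trans (hbig _ hN)
    have h2 : Nat.card C ∣ 25 * m := hn₀ ▸ card_subgroup_dvd_card _
    obtain ⟨i, hi⟩ := dvd_trans (dvd_mul_right (5 ^ 2) _) hdvd
    rw [hi] at h1 h2 hdvd
    have h3 : (1 + k * 5) ∣ i := Nat.dvd_of_mul_dvd_mul_left (by norm_num) hdvd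
    have h4 : i ∣ m := Nat.dvd_of_mul_dvd_mul_left (k := 25) (by norm_num) (by simpa using h2)
    have hi0 : 0 < i := by
      rcases Nat.eq_zero_or_pos i with rfl | h
      · simp only [mul_zero] at hi; exact absurd hi Nat.card_pos.ne'
      · exact h
    have key : ∀ m ∈ [72, 96, 108, 144], ∀ i ∈ List.range 15, ∀ k ∈ List.range 3, 0 < k → i ∣ m →
        (1 + k * 5) ∣ i → 10 * (5 ^ 2 * i) ≤ 25 * m → i = 6 ∨ (i = 12 ∧ m = 144) := by
      decide +kernel
    have hi15 : i < 15 := by simp only [List.mem_cons, List.not_mem_nil, or_false] at hm; omega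
    have hk3 : k < 3 := by have := Nat.le_of_dvd hi0 h3; omega
    rcases key m hm i (List.mem_range.2 hi15) k (List.mem_range.2 hk3) hk h4 h3 h1 with h | ⟨h, h'⟩
    · have := card_sylow_five_eq_one (K := C) (Or.inr (Or.inl (by rw [hi, h]; norm_num)))
      omega
    · exact ⟨h', by rw [hi, h]; norm_num⟩
  obtain ⟨rfl, hC⟩ := hC'
  have hn : Nat.card G = 3600 := hn₀
  have hM : normalizer (D : Set G) = C := by
    refine (eq_of_le_of_card_ge hle ?_).symm
    obtain ⟨i, hi⟩ := card_dvd_of_le hle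
    have := hbig _ hN
    rw [← hCdef] at *
    rw [hC] at hi ⊢
    rw [hi] at this ⊢
    have hi1 : i ≤ 1 := by omega
    nlinarith
  -- a conjugate of `D` outside the centralizer
  obtain ⟨g, hg⟩ : ∃ g : G, ¬ D.map (MulAut.conj g).toMonoidHom ≤ C := by
    by_contra hall
    push Not at hall
    have hclos : normalClosure (D : Set G) ≤ C := by
      refine (closure_le _).2 fun y hy => ?_
      obtain ⟨x, hx, hy'⟩ := Group.mem_conjugatesOfSet_iff.1 hy
      obtain ⟨h, rfl⟩ := isConj_iff.1 hy'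
      exact hall h ⟨x, hx, by simp⟩
    rcases (normalClosure_normal (s := (D : Set G))).eq_bot_or_eq_top with h | h
    · exact hDbot (le_bot_iff.1 (h ▸ subset_normalClosure))
    · rw [h, top_le_iff] at hclos
      exact hN (top_le_iff.1 (hclos ▸ hle))
  set e := (MulAut.conj g).toMonoidHom
  have hinj : Function.Injective e := (MulAut.conj g).injective
  set E := D.map e with hE
  set C' := C.map e with hC'
  have hcomm : ∀ c ∈ C', ∀ y ∈ E, y * c = c * y := by
    rintro _ ⟨c, hc, rfl⟩ _ ⟨y, hy, rfl⟩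
    rw [← map_mul, ← map_mul, mem_centralizer_iff.1 hc y hy]
  have hEC' : E ≤ C' := map_mono fun d hd => mem_centralizer_iff.2 fun d' hd' =>
    comm_of_card_eq_sq (hcard P) d' (hDP hd') d (hDP hd)
  have hC'card : Nat.card C' = 300 := by rw [hC', card_map_of_injective hinj, hC]
  have hEcard : Nat.card E = 5 := by rw [hE, card_map_of_injective hinj, hD]
  set S := C ⊓ C' with hSdef
  have hS17 : 25 ≤ Nat.card S := by
    have := card_mul_card_le (A := C) (B := C') (le_top : C ≤ ⊤) le_top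
    rw [hC, hC'card, card_top, hn, ← hSdef] at this
    omega
  have hinfD : D ⊓ S = ⊥ := by
    by_contra h0
    have h1 : Nat.card (D ⊓ S : Subgroup G) = 5 := ((Nat.dvd_prime (by norm_num)).1
      (hD ▸ card_dvd_of_le (inf_le_left : D ⊓ S ≤ D))).resolve_left (fun h => h0 (card_eq_one.1 h))
    have h2 : D ≤ S := inf_eq_left.1 (eq_of_le_of_card_ge inf_le_left (by omega))
    refine hg fun y hy => mem_centralizer_iff.2 fun d hd => ?_
    exact (hcomm d (h2 hd).2 y hy).symm
  have hinfE : E ⊓ S = ⊥ := by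
    by_contra h0
    have h1 : Nat.card (E ⊓ S : Subgroup G) = 5 := ((Nat.dvd_prime (by norm_num)).1
      (hEcard ▸ card_dvd_of_le (inf_le_left : E ⊓ S ≤ E))).resolve_left (fun h => h0 (card_eq_one.1 h))
    have h2 : E ⊓ S = E := eq_of_le_of_card_ge inf_le_left (by omega)
    exact hg ((inf_eq_left.1 h2).trans inf_le_left)
  have hDS : ∀ d ∈ D, ∀ s ∈ S, d * s = s * d := fun d hd s hs => mem_centralizer_iff.1 hs.1 d hd
  have hES : ∀ y ∈ E, ∀ s ∈ S, y * s = s * y := fun y hy s hs => hcomm s hs.2 y hy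
  have hDC : D ≤ C := hDP.trans (habel P hDP)
  have hL : Nat.card (D ⊔ S : Subgroup G) = 5 * Nat.card S := by
    rw [H41.card_sup_of_commute D S hDS hinfD, hD]
  have hLC : D ⊔ S ≤ C := sup_le hDC inf_le_left
  have hd300 : 5 * Nat.card S ∣ 300 := hL ▸ hC ▸ card_dvd_of_le hLC
  have hcases : Nat.card S = 30 ∨ Nat.card S = 60 := by
    have h60 : Nat.card S ∣ 60 := Nat.dvd_of_mul_dvd_mul_left (k := 5) (by norm_num) hd300
    have key : ∀ s ∈ List.range 61, 25 ≤ s → s ∣ 60 → s = 30 ∨ s = 60 := by decide +kernel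
    exact key _ (List.mem_range.2 (Nat.lt_succ_of_le (Nat.le_of_dvd (by norm_num) h60))) hS17 h60
  -- a subgroup of index two or three in `C`
  have hsmall : Nat.card S ≠ 30 := by
    have key : Nat.card (D ⊔ S : Subgroup G) = 150 → False := by
      intro h
      set L := (D ⊔ S).subgroupOf C
      have hLcard : Nat.card L = Nat.card (D ⊔ S : Subgroup G) :=
        Nat.card_congr (subgroupOfEquivOfLe hLC).toEquiv
      have hi := L.card_mul_index
      rw [hC, hLcard] at hi
      have hLidx : L.index < 5 := by rw [h] at hi; omega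
      have := card_sylow_eq_one_of_index_lt L hLidx
        (card_sylow_five_eq_one (K := L) (by rw [hLcard]; omega))
      omega
    intro h; exact key (by omega)
  have h60 : Nat.card S = 60 := by omega
  have hN1 : C ≤ normalizer (S : Set G) := by
    rw [← eq_of_le_of_card_ge hLC (by rw [hL, hC, h60])]
    exact sup_le (le_trans (fun d hd => mem_centralizer_iff.2 fun s hs => (hDS d hd s hs).symm)
      (centralizer_le_normalizer _)) le_normalizer
  have hN2 : C' ≤ normalizer (S : Set G) := by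
    have hLC' : E ⊔ S ≤ C' := sup_le hEC' inf_le_right
    rw [← eq_of_le_of_card_ge hLC' (by
      rw [H41.card_sup_of_commute E S hES hinfE, hEcard, hC'card, h60])]
    exact sup_le (le_trans (fun d hd => mem_centralizer_iff.2 fun s hs => (hES d hd s hs).symm)
      (centralizer_le_normalizer _)) le_normalizer
  have hNtop : normalizer (S : Set G) ≠ ⊤ := by
    refine normalizer_ne_top ?_ ?_
    · intro h; rw [h, card_bot] at h60; omega
    · intro h; rw [h, card_top, hn] at h60; omega
  have hsup : C < C ⊔ C' := lt_of_le_of_ne le_sup_left fun h =>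
    hg (hEC'.trans (h ▸ le_sup_right))
  have h1 := hbig _ hNtop
  obtain ⟨i, hi⟩ := card_dvd_of_le hN1
  rw [hi, hC] at h1
  have hi1 : i ≤ 1 := by omega
  have : C = normalizer (S : Set G) := eq_of_le_of_card_ge hN1 (by rw [hi]; nlinarith)
  exact hsup.not_ge (le_of_le_of_eq (sup_le hN1 hN2) this.symm)

theorem blockOnly_3360 : blockOnly 3360 5 (fun _ => true)
    (fun r c => (r == 4 && c == 8) || (r == 4 && c == 3) || (r == 2 && c == 1)) = true := by
  decide +kernel

theorem check_3360 : ∀ j ∈ List.range 106, 105 % (j + 1) = 0 →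
    ∀ B ∈ (divProds [32, 3, 5, 7]).flatMap (fun d : ℕ => [(d : ℤ), -(d : ℤ)]),
      2 ≤ B.natAbs → (5 : ℤ) ∣ B - 1 → (B + 1).natAbs ∣ 3360 → B = 6 ∨ B = -4 := by
  decide +kernel

theorem check_3360' : ∀ j ∈ List.range 106, 105 % (j + 1) = 0 →
    ∀ B ∈ ([6, -4] : List ℤ), ∀ i ∈ List.range 13, ((i : ℤ) - 6).natAbs ≤ B.natAbs →
      (B - ((i : ℤ) - 6)) ^ 2 * 3360 = 5 * (32 * ((j + 1 : ℕ) : ℤ)) ^ 2 * (B * (B + 1)) →
      j = 0 := by
  decide +kernel

theorem false_of_card_3360 (hG : ¬ IsMulCommutative G) (hn : Nat.card G = 3360) : False := by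
  classical
  haveI := Fintype.ofFinite G
  haveI : Fact (Nat.Prime 5) := ⟨by norm_num⟩
  haveI : Fact (Nat.Prime 3) := ⟨Nat.prime_three⟩
  haveI : Fact (Nat.Prime 2) := ⟨Nat.prime_two⟩
  obtain ⟨P, r, c, hP, hr, hc, hskip⟩ := exists_of_blockOnly hG (p := 5) (by omega)
    (fun _ => true) (fun _ _ _ _ => rfl)
    (fun r c => (r == 4 && c == 8) || (r == 4 && c == 3) || (r == 2 && c == 1))
    (by rw [hn]; exact blockOnly_3360)
  simp only [Bool.and_eq_true, Bool.or_eq_true, beq_iff_eq] at hskip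
  have hN := card_sylow_mul_normalizer P
  rw [card_normalizer_of hr hc, hn] at hN
  rcases hskip with (⟨rfl, rfl⟩ | ⟨rfl, rfl⟩) | ⟨rfl, rfl⟩
  · exact S1010.result (G := G) (by omega)
  · -- an element of order three centralizing the Sylow subgroup
    have hs5 : Nat.card (Sylow 5 G) = 56 := by omega
    obtain ⟨y, hy⟩ := exists_prime_orderOf_dvd_card'
      (G := centralizer ((P : Subgroup G) : Set G)) 3 (by rw [hc]; norm_num)
    rw [← orderOf_coe] at hy
    set Y := zpowers (y : G)
    have hY : IsPGroup 3 Y := IsPGroup.of_card (n := 1) (by rw [Nat.card_zpowers, hy, pow_one])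
    have hmod := hY.card_modEq_card_fixedPoints (Sylow 5 G)
    set C := centralizer (Y : Set G)
    have hQ5 : ∀ Q : Sylow 5 G, Nat.card (Q : Subgroup G) = 5 := fun Q => by
      simpa using card_sylow_eq hn Q (a := 1) (m := 672) rfl (by norm_num)
    have hiff : ∀ Q : Sylow 5 G,
        Q ∈ MulAction.fixedPoints Y (Sylow 5 G) ↔ (Q : Subgroup G) ≤ C := by
      intro Q
      rw [Subgroup.sylow_mem_fixedPoints_iff]
      refine ⟨fun h => le_centralizer_iff.1 ?_,
        fun h => (le_centralizer_iff.1 h).trans (centralizer_le_normalizer _)⟩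
      intro w hw
      haveI : IsCyclic (Q : Subgroup G) := isCyclic_of_prime_card (hQ5 Q)
      have h1 : orderOf ((Q : Subgroup G).normalizerMonoidHom ⟨w, h hw⟩) ∣ 3 := by
        refine (orderOf_map_dvd _ _).trans ?_
        rw [Subgroup.orderOf_mk]
        have := Subgroup.orderOf_dvd_natCard Y hw
        rwa [Nat.card_zpowers, hy] at this
      have h2 : orderOf ((Q : Subgroup G).normalizerMonoidHom ⟨w, h hw⟩) ∣ 4 := by
        refine _root_.orderOf_dvd_natCard _ |>.trans ?_
        rw [IsCyclic.card_mulAut, hQ5 Q]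
        decide
      have h3 : (⟨w, h hw⟩ : normalizer ((Q : Subgroup G) : Set G)) ∈
          (Q : Subgroup G).normalizerMonoidHom.ker :=
        orderOf_eq_one_iff.1 (Nat.eq_one_of_dvd_coprimes (by norm_num) h1 h2)
      rw [Subgroup.normalizerMonoidHom_ker] at h3
      exact h3
    have hcount : Nat.card (MulAction.fixedPoints Y (Sylow 5 G)) = Nat.card (Sylow 5 C) := by
      refine Nat.card_eq_of_bijective (fun Q => (Q : Sylow 5 G).subtype ((hiff _).1 Q.2)) ⟨?_, ?_⟩
      · exact fun Q Q' h => Subtype.ext (Sylow.subtype_injective h)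
      · intro R
        have hR : IsPGroup 5 ((R : Subgroup C).map C.subtype) := R.2.map _
        obtain ⟨Q, hQ⟩ := hR.exists_le_sylow
        have hPC : (P : Subgroup G) ≤ C := le_centralizer_iff.1 (zpowers_le.2 y.2)
        have h5 : 5 ∣ Nat.card (R : Subgroup C) :=
          R.dvd_card_of_dvd_card (hQ5 P ▸ card_dvd_of_le hPC)
        have heq : (R : Subgroup C).map C.subtype = (Q : Subgroup G) := by
          refine eq_of_le_of_card_ge hQ ?_
          rw [hQ5, card_map_of_injective (subtype_injective _)]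
          exact Nat.le_of_dvd Nat.card_pos h5
        have hQC : (Q : Subgroup G) ≤ C := heq ▸ map_subtype_le _
        refine ⟨⟨Q, (hiff Q).2 hQC⟩, Sylow.ext ?_⟩
        rw [Sylow.coe_subtype, ← heq]
        exact comap_map_eq_self_of_injective (subtype_injective _) _
    rw [hs5, hcount] at hmod
    have h5 := card_sylow_modEq_one 5 C
    obtain ⟨R⟩ := Sylow.nonempty (p := 5) (G := C)
    have hdvd : Nat.card (Sylow 5 C) ∣ 3360 :=
      (R.card_dvd_index.trans (index_dvd_card _)).trans (hn ▸ card_subgroup_dvd_card C)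
    have hle : Nat.card (Sylow 5 C) ≤ 56 := by
      rw [← hcount, ← hs5]
      exact Finite.card_subtype_le _
    have key : ∀ x ∈ List.range 57, x % 3 = 56 % 3 → x % 5 = 1 → x ∣ 3360 → x = 56 := by
      decide +kernel
    have h56 : Nat.card (Sylow 5 C) = 56 :=
      key _ (List.mem_range.2 (by omega)) hmod.symm (by rw [h5]) hdvd
    have hall : ∀ Q : Sylow 5 G, (Q : Subgroup G) ≤ C := by
      intro Q
      refine (hiff Q).1 ?_
      by_contra hQ
      have h := Finite.card_subtype_lt (p := fun Q => Q ∈ MulAction.fixedPoints Y (Sylow 5 G)) hQ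
      rw [show Nat.card {Q // Q ∈ MulAction.fixedPoints Y (Sylow 5 G)} = 56 from hcount.trans h56,
        hs5] at h
      exact lt_irrefl _ h
    set K : Subgroup G := ⨆ Q : Sylow 5 G, (Q : Subgroup G)
    have hKC : K ≤ C := iSup_le hall
    haveI hKn : K.Normal := by
      refine ⟨fun k hk g => ?_⟩
      refine Subgroup.iSup_induction (C := fun k => g * k * g⁻¹ ∈ K) _ hk ?_ ?_ ?_
      · intro Q q hq
        refine Subgroup.mem_iSup_of_mem (g • Q) ?_
        rw [Sylow.coe_subgroup_smul]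
        exact ⟨q, hq, rfl⟩
      · simp
      · intro a b ha hb
        rw [show g * (a * b) * g⁻¹ = g * a * g⁻¹ * (g * b * g⁻¹) by group]
        exact mul_mem ha hb
    have hKt : K = ⊤ := hKn.eq_bot_or_eq_top.resolve_left fun h => by
      have : (P : Subgroup G) ≤ ⊥ := h ▸ le_iSup (fun Q : Sylow 5 G => (Q : Subgroup G)) P
      rw [le_bot_iff] at this
      rw [this, card_bot] at hP
      norm_num at hP
    have hy1 : (y : G) ∈ center G := mem_center_iff.2 fun g => by
      exact (mem_centralizer_iff.1 (hKC (hKt ▸ mem_top g)) _ (mem_zpowers _)).symm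
    rw [center_eq_bot_of_simple hG, mem_bot] at hy1
    rw [hy1, orderOf_one] at hy
    norm_num at hy
  · have hC := OrderExceptions.centralizer_eq_self hP hc
    rw [hC] at hr
    obtain ⟨z, hz, hz1, hzc⟩ := exists_central_involution (a := 5) (by norm_num)
      (hn ▸ (by norm_num) : 2 ^ 5 ∣ Nat.card G)
    obtain ⟨u, huN, huP⟩ : ∃ u ∈ normalizer ((P : Subgroup G) : Set G), u ∉ (P : Subgroup G) := by
      by_contra h
      push Not at h
      have h1 : (P : Subgroup G).relIndex (normalizer ((P : Subgroup G) : Set G)) = 1 :=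
        relIndex_eq_one.2 h
      rw [hr] at h1
      omega
    obtain ⟨B, x, hB2, hBd, hB1, hmod, hx, heq, hconj⟩ :=
      SelfCentral.criterion_two' hG hP hC hr (by norm_num) hz hz1
    rw [hn] at hBd hB1 heq
    obtain ⟨j, hj⟩ := hzc
    have hjd : j ∣ 105 := by
      have := hn ▸ card_subgroup_dvd_card (centralizer ({z} : Set G))
      rw [hj] at this
      exact Nat.dvd_of_mul_dvd_mul_left (k := 32) (by norm_num) (by simpa using this)
    have hj0 : 0 < j := Nat.pos_of_dvd_of_pos hjd (by norm_num)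
    have hj1 : j - 1 ∈ List.range 106 :=
      List.mem_range.2 (by have := Nat.le_of_dvd (by norm_num) hjd; omega)
    have hjm : 105 % (j - 1 + 1) = 0 := by
      rw [show j - 1 + 1 = j by omega]; exact Nat.mod_eq_zero_of_dvd hjd
    have hB := check_3360 _ hj1 hjm B
      (int_mem_of_natAbs_mem (mem_divProds _ (by simp) _ (by simpa using hBd))) hB2 hmod hB1
    have hj' := check_3360' _ hj1 hjm B (by rcases hB with h | h <;> simp [h])
      (x + 6).toNat (List.mem_range.2 (by rcases hB with rfl | rfl <;> omega))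
      (by rw [show ((x + 6).toNat : ℤ) - 6 = x by rcases hB with rfl | rfl <;> omega]; exact hx)
      (by
        rw [show ((x + 6).toNat : ℤ) - 6 = x by rcases hB with rfl | rfl <;> omega,
          show j - 1 + 1 = j by omega]
        rw [hj] at heq
        push_cast at heq ⊢
        linarith)
    have h32 : Nat.card (centralizer ({z} : Set G)) = 32 := by
      rw [hj, show j = 1 by omega]; norm_num
    haveI : Fact (Nat.Prime 7) := ⟨by norm_num⟩
    obtain ⟨Q, r', c', hQ, -, hc', hskip'⟩ := exists_of_blockOnly hG (p := 7) (by omega)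
      (fun _ => true) (fun _ _ _ _ => rfl) (fun _ c => c % 2 == 0) (by rw [hn]; decide +kernel)
    simp only [beq_iff_eq] at hskip'
    obtain ⟨t, ht⟩ := exists_prime_orderOf_dvd_card'
      (G := centralizer ((Q : Subgroup G) : Set G)) 2
      (hc' ▸ dvd_mul_of_dvd_right (Nat.dvd_of_mod_eq_zero hskip') 7)
    rw [← orderOf_coe] at ht
    have ht2 : (t : G) * t = 1 := by rw [← pow_two, ← ht, pow_orderOf_eq_one]
    have ht1 : (t : G) ≠ 1 := fun h => by rw [h, orderOf_one] at ht; omega
    obtain ⟨-, -, -, -, -, -, -, -, hconj'⟩ :=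
      SelfCentral.criterion_two' hG hP hC hr (by norm_num) ht2 ht1
    obtain ⟨g, hg⟩ := isConj_iff.1 ((hconj' u huN huP).trans (hconj u huN huP).symm)
    have hle : ((Q : Subgroup G).map (MulAut.conj g).toMonoidHom) ≤ centralizer ({z} : Set G) := by
      rintro _ ⟨q, hq, rfl⟩
      refine mem_centralizer_singleton_iff.2 ?_
      have h := mem_centralizer_iff.1 t.2 q hq
      show g * q * g⁻¹ * z = z * (g * q * g⁻¹)
      rw [← hg, show g * q * g⁻¹ * (g * (t : G) * g⁻¹) = g * (q * (t : G)) * g⁻¹ by group, h]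
      group
    have h7 := card_dvd_of_le hle
    rw [card_map_of_injective (MulAut.conj g).injective, hQ, h32] at h7
    norm_num at h7

end Cfsg.Agent.H79.DegGraphSmall.MidOrders
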