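import Cfsg.Agent.H79.DegGraphSmall.MidTable
import Cfsg.Agent.H79.DegGraphSmall.MidOrders
import Cfsg.Agent.S0496
import Cfsg.Agent.S0983

/-!
# The orders of the non-abelian simple groups below 6000
-/

set_option autoImplicit false

namespace Cfsg.Agent.H79.DegGraphSmall

open Cfsg.Agent.H36 Cfsg.Agent.H36.OrderScreen MidTable MidOrders

theorem simple_order_cases {G : Type*} [Group G] [Finite G] [IsSimpleGroup G]
    (hG : ¬ IsMulCommutative G) (hlt : Nat.card G < 6000) :
    Nat.card G ∈ ({60, 168, 360, 504, 660, 1092, 2448, 2520, 3420, 4080, 5616} : Finset ℕ) := by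
  simp only [Finset.mem_insert, Finset.mem_singleton]
  rcases Nat.lt_or_ge (Nat.card G) 1093 with h | h
  · rcases Cfsg.Agent.S0496.result hG (by omega) with h | h | h | h | h | h <;> simp [h]
  rcases Nat.lt_or_ge 3640 (Nat.card G) with h' | h'
  · rcases Cfsg.Agent.S0983.result hG h' (by omega) with h | h | h | h <;> omega
  have hlt' : Nat.card G < 6400 := by omega
  have hc : covered (Nat.card G) = true := by
    rcases Nat.lt_or_ge (Nat.card G) 2393 with h2 | h2
    · exact List.all_eq_true.1 covered_low _ (List.mem_range'_1.2 (by omega))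
    · exact List.all_eq_true.1 covered_high _ (List.mem_range'_1.2 (by omega))
  simp only [covered, Bool.or_eq_true, List.contains_iff_mem] at hc
  rcases hc with (((hd | hd) | hd) | hd) | hd
  · exact (false_of_divFails hG hlt' hd).elim
  · exact (false_of_twoPrimes hG hlt' hd).elim
  · simp only [remainingOrders, List.mem_cons, List.not_mem_nil, or_false] at hd
    rcases hd with e | e | e | e | e | e | e | e | e | e | e | e | e | e | e | e
    · exact (false_of_card_1344 hG e).elim
    · exact (false_of_card_1404 hG e).elim
    · exact (false_of_card_1512 hG e).elim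
    · exact (false_of_card_1620 hG e).elim
    · exact (false_of_card_1680 hG e).elim
    · exact (false_of_card_1764 hG e).elim
    · exact (false_of_five_sq hG (m := 72) (by simp) e).elim
    · exact (false_of_card_2160 hG e).elim
    · exact (false_of_five_sq hG (m := 96) (by simp) e).elim
    · simp [e]
    · simp [e]
    · exact (false_of_five_sq hG (m := 108) (by simp) e).elim
    · exact (false_of_card_3360 hG e).elim
    · simp [e]
    · exact (false_of_card_3528 hG e).elim
    · exact (false_of_five_sq hG (m := 144) (by simp) e).elim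
  · obtain ⟨⟨n, p⟩, hx, hnp⟩ := List.mem_map.1 hd
    subst hnp
    exact (false_of_sylowFails hG (List.all_eq_true.1 MidTable.sylowTable_spec _ hx)).elim
  · obtain ⟨⟨n, p⟩, hx, hnp⟩ := List.mem_map.1 hd
    subst hnp
    exact (false_of_blockFails hG hlt' (List.all_eq_true.1 MidTable.blockTable_spec _ hx)).elim

end Cfsg.Agent.H79.DegGraphSmall
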