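import Cfsg.Agent.H79.DegGraphSmall.PSL33
import Cfsg.Agent.H61.ExtClosedParseval
import Cfsg.Agent.Linear.SLDegrees
import Cfsg.Agent.S0169

/-!
# Primes dividing a character degree
-/

set_option autoImplicit false
set_option linter.unusedSectionVars false
set_option linter.style.haveILetI false

open scoped ComplexConjugate
open Subgroup Cfsg

namespace Cfsg.Agent.H79.DegGraphSmall

open Cfsg.Agent.CharBasic

universe u

variable {G : Type u} [Group G] [Finite G]

theorem not_vertex_of_abelian_normal {p : ℕ} (H : Subgroup G) [H.Normal]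
    (hab : ∀ a ∈ H, ∀ b ∈ H, a * b = b * a) (hp : ¬ p ∣ H.index) :
    p ∉ degreePrimes G := by
  rintro ⟨-, d, ⟨χ, hd⟩, hdvd⟩
  obtain ⟨n, ρ, hρ, he⟩ := χ.2
  have := hρ
  have hn : d = n := by
    rw [← hd, Cfsg.charDegree, ← he, Representation.char_one, Module.finrank_fin_fun,
      Complex.natCast_re, Nat.floor_natCast]
  have h := Cfsg.Agent.S0169.result ρ H hab
  rw [Module.finrank_fin_fun, ← hn] at h
  exact hp (hdvd.trans h)

theorem not_vertex_of_sylow_unique {p : ℕ} [hp : Fact p.Prime] (hpG : p ∣ Nat.card G)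
    (hp2 : ¬ p ^ 2 ∣ Nat.card G) (h1 : Nat.card (Sylow p G) = 1) : p ∉ degreePrimes G := by
  obtain ⟨P⟩ := Sylow.nonempty (p := p) (G := G)
  haveI : Subsingleton (Sylow p G) := (Nat.card_eq_one_iff_unique.mp h1).1
  haveI : (P : Subgroup G).Normal := P.normal_of_subsingleton
  have hf : (Nat.card G).factorization p = 1 :=
    le_antisymm (Nat.le_of_lt_succ (by
      by_contra h
      exact hp2 ((hp.out.pow_dvd_iff_le_factorization Nat.card_pos.ne').2 (by omega))))
      ((hp.out.dvd_iff_one_le_factorization Nat.card_pos.ne').1 hpG)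
  have hP : Nat.card (P : Subgroup G) = p := by rw [P.card_eq_multiplicity, hf, pow_one]
  haveI : IsCyclic (P : Subgroup G) := isCyclic_of_prime_card hP
  refine not_vertex_of_abelian_normal (P : Subgroup G) (fun a ha b hb => ?_) P.not_dvd_index
  exact congrArg Subtype.val ((IsCyclic.isMulCommutative).is_comm.comm
    (⟨a, ha⟩ : (P : Subgroup G)) ⟨b, hb⟩)

theorem graph_congr {H : Type*} [Group H] [Finite H] (e : G ≃* H) :
    degreePrimes G = degreePrimes H ∧ ∀ r s, (degreeGraph G).Adj r s ↔ (degreeGraph H).Adj r s := by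
  refine ⟨?_, fun r s => ?_⟩
  · simp only [degreePrimes, Linear.SLDegrees.charDegrees_congr e]
  · simp only [degreeGraph, Linear.SLDegrees.charDegrees_congr e]

/-- The sum of a character over a subgroup is a multiple of its order. -/
theorem exists_sum_eq (P : Subgroup G) [Fintype P] (χ : IrrCharacter G) :
    ∃ n : ℕ, ∑ u : P, (χ : G → ℂ) u = (Nat.card P : ℂ) * n := by
  obtain ⟨m, ρ, -, he⟩ := χ.2
  have hc : Cfsg.IsCharacter P (fun u : P => (χ : G → ℂ) u) :=
    ⟨m, ρ.comp P.subtype, by rw [← he]; rfl⟩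
  obtain ⟨n, hn⟩ := classInner_isChar_nat hc
    (IsIrr.isCharacter (isIrrCharacter_one (G := P)))
  refine ⟨n, ?_⟩
  rw [classInner_def] at hn
  simp only [map_one, mul_one] at hn
  rw [← hn, ← mul_assoc, mul_inv_cancel₀ (Nat.cast_ne_zero.2 Nat.card_pos.ne'), one_mul]

/-- Characters of degree prime to `p` are at most as many as the centraliser order of an element
of order `p`. -/
theorem card_coprime_degree_le {p : ℕ} [hp : Fact p.Prime] {x : G} (hx : orderOf x = p) :
    (Finset.univ.filter fun χ : IrrCharacter G => ¬ p ∣ charDegree (χ : G → ℂ)).card ≤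
      Nat.card (centralizer ({x} : Set G)) := by
  classical
  haveI := Fintype.ofFinite G
  set X := zpowers x with hXdef
  have hX : Nat.card X = p := by rw [Nat.card_zpowers, hx]
  set S := fun χ : IrrCharacter G => ∑ u : X, ‖(χ : G → ℂ) u‖ ^ 2 - ‖(χ : G → ℂ) 1‖ ^ 2
  have hS : ∀ χ : IrrCharacter G,
      S χ = ∑ u ∈ (Finset.univ : Finset X).erase 1, ‖(χ : G → ℂ) u‖ ^ 2 := fun χ => by
    rw [Finset.sum_erase_eq_sub (Finset.mem_univ _)]; rfl
  have hgap : ∀ χ : IrrCharacter G, ¬ p ∣ charDegree (χ : G → ℂ) → (p : ℝ) - 1 ≤ S χ := by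
    intro χ hχ
    obtain ⟨m, ρ, -, he⟩ := χ.2
    have hc : Cfsg.IsCharacter X (fun u : X => (χ : G → ℂ) u) :=
      ⟨m, ρ.comp X.subtype, by rw [← he]; rfl⟩
    rcases H61.ExtClosed.norm_gap hX (fun u : X => (χ : G → ℂ) u)
      (fun μ => classInner_isChar_nat hc (IsIrr.isCharacter μ.2)) with h | h
    · exfalso
      obtain ⟨n, hn⟩ := exists_sum_eq X χ
      rw [← Finset.add_sum_erase _ _ (Finset.mem_univ (1 : X)),
        Finset.sum_eq_zero (fun u hu => h u (Finset.ne_of_mem_erase hu)), add_zero, hX] at hn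
      have h1 : (χ : G → ℂ) 1 = (p : ℂ) * n := hn
      rw [Linear.SLDegrees.one_eq_charDegree] at h1
      exact hχ ⟨n, by exact_mod_cast h1⟩
    · exact h
  have htot : ∑ χ : IrrCharacter G, S χ =
      ((p : ℝ) - 1) * Nat.card (centralizer ({x} : Set G)) := by
    simp only [hS]
    rw [Finset.sum_comm]
    have hu : ∀ u ∈ (Finset.univ : Finset X).erase 1, ∑ χ : IrrCharacter G,
        ‖(χ : G → ℂ) u‖ ^ 2 = (Nat.card (centralizer ({x} : Set G)) : ℝ) := by
      intro u hu
      have hgen : zpowers (u : G) = X := by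
        refine eq_of_le_of_card_ge (zpowers_le.2 u.2) ?_
        have h1 : orderOf (u : G) ∣ p := by rw [← hX]; exact Subgroup.orderOf_dvd_natCard X u.2
        rcases (Nat.dvd_prime hp.out).1 h1 with h | h
        · exact absurd (Subtype.ext (orderOf_eq_one_iff.1 h)) (Finset.ne_of_mem_erase hu)
        · rw [hX, Nat.card_zpowers, h]
      have hC : centralizer ({(u : G)} : Set G) = centralizer ({x} : Set G) := by
        rw [← centralizer_closure, ← centralizer_closure ({x} : Set G), ← zpowers_eq_closure,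
          ← zpowers_eq_closure, hgen]
      have h := second_orthogonality_self (G := G) (u : G)
      rw [hC] at h
      simp only [Complex.mul_conj, Complex.normSq_eq_norm_sq] at h
      exact_mod_cast h
    rw [Finset.sum_congr rfl hu, Finset.sum_const, Finset.card_erase_of_mem (Finset.mem_univ _),
      Finset.card_univ, ← Nat.card_eq_fintype_card, hX, nsmul_eq_mul,
      Nat.cast_sub hp.out.pos, Nat.cast_one]
  have h1 := Finset.card_nsmul_le_sum
    (Finset.univ.filter fun χ : IrrCharacter G => ¬ p ∣ charDegree (χ : G → ℂ)) S ((p : ℝ) - 1)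
    fun χ hχ => hgap χ (Finset.mem_filter.1 hχ).2
  have h2 : ∑ χ ∈ Finset.univ.filter (fun χ : IrrCharacter G => ¬ p ∣ charDegree (χ : G → ℂ)),
      S χ ≤ ∑ χ : IrrCharacter G, S χ :=
    Finset.sum_le_univ_sum_of_nonneg fun χ => by rw [hS]; positivity
  have h3 := h1.trans (h2.trans htot.le)
  rw [nsmul_eq_mul, mul_comm] at h3
  have h2' : (2 : ℝ) ≤ p := by exact_mod_cast hp.out.two_le
  exact_mod_cast le_of_mul_le_mul_left h3 (by linarith)

/-- A prime is a vertex when there are more classes than elements centralising an element of that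
order. -/
theorem vertex_of_classes {p : ℕ} [hp : Fact p.Prime] {ι : Type*} [Fintype ι] (f : ι → G)
    (hf : ∀ i j, IsConj (f i) (f j) → i = j) {x : G} (hx : orderOf x = p)
    (hlt : Nat.card (centralizer ({x} : Set G)) < Fintype.card ι) : p ∈ degreePrimes G := by
  classical
  refine ⟨hp.out, ?_⟩
  by_contra h
  push Not at h
  haveI : Finite (ConjClasses G) := Finite.of_surjective _ ConjClasses.mk_surjective
  have h1 : Fintype.card ι ≤ Nat.card (ConjClasses G) := by
    rw [← Nat.card_eq_fintype_card]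
    exact Nat.card_le_card_of_injective (fun i => ConjClasses.mk (f i))
      fun i j e => hf i j (ConjClasses.mk_eq_mk_iff_isConj.1 e)
  have h2 := card_coprime_degree_le hx
  rw [Finset.filter_true_of_mem (fun χ _ => h _ ⟨χ, rfl⟩), Finset.card_univ,
    ← Nat.card_eq_fintype_card, card_irrCharacter] at h2
  omega

theorem three_vertex_5616 [IsSimpleGroup G] (hn : Nat.card G = 5616) : 3 ∈ degreePrimes G := by
  haveI := Fintype.ofFinite G
  have hG : ¬ IsMulCommutative G := H36.not_comm_of_simple (by rw [hn]; norm_num)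
  obtain ⟨D⟩ := PSL33.exists_blk hG hn
  exact ⟨Nat.prime_three, 27, ⟨D.A, Linear.SLDegrees.charDegree_eq (by exact_mod_cast D.degA)⟩,
    by norm_num⟩

theorem thirteen_vertex_5616 [IsSimpleGroup G] (hn : Nat.card G = 5616) :
    13 ∈ degreePrimes G := by
  classical
  haveI := Fintype.ofFinite G
  haveI : Fact (Nat.Prime 13) := ⟨by norm_num⟩
  have hG : ¬ IsMulCommutative G := H36.not_comm_of_simple (by rw [hn]; norm_num)
  refine ⟨by norm_num, ?_⟩
  by_contra hno
  push Not at hno
  obtain ⟨D⟩ := PSL33.exists_blk hG hn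
  obtain ⟨P, r, c, hP, -, hc, hskip⟩ := H36.OrderScreen.exists_of_blockOnly hG (by omega)
    (fun _ => true) (fun _ _ _ _ => rfl) (fun r c => r == 3 && c == 1)
    (by rw [hn]; exact PSL33.blockOnly_thirteen)
  simp only [Bool.and_eq_true, beq_iff_eq] at hskip
  obtain ⟨-, rfl⟩ := hskip
  haveI : IsCyclic (P : Subgroup G) := isCyclic_of_prime_card hP
  obtain ⟨x, hx⟩ := IsCyclic.exists_generator (α := (P : Subgroup G))
  have hxord : orderOf (x : G) = 13 := by
    rw [orderOf_coe, orderOf_eq_card_of_forall_mem_zpowers hx, hP]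
  have hCx : Nat.card (centralizer ({(x : G)} : Set G)) = 13 := by
    have : zpowers (x : G) = P := eq_of_le_of_card_ge (zpowers_le.2 x.2) (by
      rw [Nat.card_zpowers, hxord, hP])
    rw [← centralizer_closure, ← zpowers_eq_closure, this, hc, mul_one]
  have hk := card_coprime_degree_le hxord
  rw [hCx, Finset.filter_true_of_mem (fun χ _ => hno _ ⟨χ, rfl⟩)] at hk
  set K := fun d : ℕ => Finset.univ.filter fun χ : IrrCharacter G => (χ : G → ℂ) 1 = (d : ℂ)
    with hK
  set cst := fun d : ℕ => (if d = 1 then 1 else 0 : ℤ) + (if d = 27 then 1 else 0) -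
    (if d = 12 then 1 else 0) - (if d = 16 then 1 else 0) with hcst
  have hcong : ∀ d : ℕ, (13 : ℤ) ∣ ((K d).card * d : ℤ) + 12 * cst d := by
    intro d
    haveI : Fintype D.P := Fintype.ofFinite _
    choose n hn' using exists_sum_eq (G := G) D.P
    have hv : ∀ v ∈ (Finset.univ : Finset D.P).erase 1,
        ∑ χ ∈ K d, (χ : G → ℂ) v = (cst d : ℂ) := by
      intro v hv
      have h := D.sum_v 1 (by rw [orderOf_one]; norm_num) v (Finset.ne_of_mem_erase hv)
        (fun _ b => if b = (d : ℂ) then 1 else 0)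
      simp only [ite_mul, one_mul, zero_mul] at h
      rw [hK, Finset.sum_filter, h, hcst]
      push_cast
      simp only [eq_comm (a := (d : ℕ)), ← Nat.cast_ofNat (R := ℂ), ← Nat.cast_one (R := ℂ),
        Nat.cast_inj]
    have h : ((13 : ℕ) : ℂ) * ((∑ χ ∈ K d, n χ : ℕ) : ℂ) =
        ((K d).card : ℂ) * d + 12 * (cst d : ℂ) := by
      push_cast
      rw [Finset.mul_sum]
      have e : ∀ χ ∈ K d, ((13 : ℕ) : ℂ) * n χ = ∑ u : D.P, (χ : G → ℂ) u := fun χ _ => by
        rw [hn' χ, D.card_P]
      rw [show (13 : ℂ) = ((13 : ℕ) : ℂ) by norm_num, Finset.sum_congr rfl e, Finset.sum_comm,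
        ← Finset.add_sum_erase _ _ (Finset.mem_univ (1 : D.P)), Finset.sum_congr rfl hv,
        Finset.sum_const, Finset.card_erase_of_mem (Finset.mem_univ _), Finset.card_univ,
        ← Nat.card_eq_fintype_card, D.card_P]
      congr 1
      · rw [Finset.sum_congr rfl (g := fun _ => (d : ℂ))
          (fun χ hχ => by simpa using (Finset.mem_filter.1 hχ).2), Finset.sum_const, nsmul_eq_mul]
      · rw [nsmul_eq_mul]; norm_num
    refine ⟨((∑ χ ∈ K d, n χ : ℕ) : ℤ), ?_⟩
    exact_mod_cast h.symm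
  have hne : ∀ d : ℕ, ∀ χ : IrrCharacter G, (χ : G → ℂ) 1 = (d : ℂ) → 0 < (K d).card :=
    fun d χ h => Finset.card_pos.2 ⟨χ, Finset.mem_filter.2 ⟨Finset.mem_univ _, h⟩⟩
  have h1pos : 0 < (K 1).card := hne 1 ⟨_, isIrrCharacter_one⟩ (by simp)
  have h27pos := hne 27 D.A (by rw [D.degA]; norm_num)
  have h12pos := hne 12 D.B (by rw [D.degB]; norm_num)
  have h16pos := hne 16 D.E (by rw [D.degE]; norm_num)
  set T := ({1, 27, 12, 16} : Finset ℕ) with hT
  have hle : ∀ s : Finset ℕ, ∑ d ∈ s, (K d).card ≤ 13 := fun s => by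
    rw [← Finset.card_biUnion]
    · exact (Finset.card_le_card (Finset.subset_univ _)).trans hk
    · intro a _ b _ hab
      rw [Function.onFun, Finset.disjoint_left]
      intro χ ha hb
      have h1 := (Finset.mem_filter.1 ha).2
      rw [(Finset.mem_filter.1 hb).2] at h1
      exact hab (Nat.cast_injective h1).symm
  have hsum4 := hle T
  simp only [hT, Finset.sum_insert (show (1 : ℕ) ∉ ({27, 12, 16} : Finset ℕ) by decide),
    Finset.sum_insert (show (27 : ℕ) ∉ ({12, 16} : Finset ℕ) by decide),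
    Finset.sum_insert (show (12 : ℕ) ∉ ({16} : Finset ℕ) by decide), Finset.sum_singleton] at hsum4
  have e1 := hcong 1
  have e27 := hcong 27
  have e12 := hcong 12
  have e16 := hcong 16
  simp only [hcst] at e1 e27 e12 e16
  norm_num at e1 e27 e12 e16
  obtain ⟨c1, c27, c12, c16⟩ : (K 1).card = 1 ∧ (K 27).card = 1 ∧ (K 12).card = 1 ∧
      (K 16).card = 4 := by
    omega
  have hall : ∀ χ : IrrCharacter G, charDegree (χ : G → ℂ) ∈ T := by
    intro χ
    by_contra hd
    set d := charDegree (χ : G → ℂ)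
    have hpos := hne d χ (Linear.SLDegrees.one_eq_charDegree χ)
    have e := hcong d
    have hd' : d ≠ 1 ∧ d ≠ 27 ∧ d ≠ 12 ∧ d ≠ 16 := by simpa [hT] using hd
    simp only [hcst, hd'.1, hd'.2.1, hd'.2.2.1, hd'.2.2.2, if_false, sub_zero, add_zero,
      mul_zero] at e
    have h13 : 13 ∣ (K d).card * d := by exact_mod_cast e
    have : 13 ≤ (K d).card := Nat.le_of_dvd hpos
      (((show Nat.Prime 13 by norm_num).dvd_mul.1 h13).resolve_right (hno d ⟨χ, rfl⟩))
    have h := hle (insert d T)
    rw [Finset.sum_insert hd] at h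
    simp only [hT, Finset.sum_insert (show (1 : ℕ) ∉ ({27, 12, 16} : Finset ℕ) by decide),
      Finset.sum_insert (show (27 : ℕ) ∉ ({12, 16} : Finset ℕ) by decide),
      Finset.sum_insert (show (12 : ℕ) ∉ ({16} : Finset ℕ) by decide), Finset.sum_singleton] at h
    omega
  have hsq := sum_sq_degree (G := G)
  rw [← Finset.sum_fiberwise_of_maps_to (t := T) (g := fun χ : IrrCharacter G =>
    charDegree (χ : G → ℂ)) (fun χ _ => hall χ)] at hsq
  have hfib : ∀ d, (Finset.univ.filter fun χ : IrrCharacter G => charDegree (χ : G → ℂ) = d) =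
      K d := fun d => Finset.filter_congr fun χ _ => by
    rw [Linear.SLDegrees.one_eq_charDegree, Nat.cast_inj]
  have hval : ∀ d, ∑ χ ∈ Finset.univ.filter (fun χ : IrrCharacter G =>
      charDegree (χ : G → ℂ) = d), (χ : G → ℂ) 1 ^ 2 = (((K d).card * d ^ 2 : ℕ) : ℂ) := by
    intro d
    rw [hfib, Finset.sum_congr rfl (g := fun _ => (d : ℂ) ^ 2)
      (fun χ hχ => by rw [(Finset.mem_filter.1 hχ).2]), Finset.sum_const, nsmul_eq_mul]
    push_cast; rfl
  rw [Finset.sum_congr rfl (fun d _ => hval d), ← Nat.cast_sum, Nat.cast_inj, hn] at hsq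
  simp only [hT, Finset.sum_insert (show (1 : ℕ) ∉ ({27, 12, 16} : Finset ℕ) by decide),
    Finset.sum_insert (show (27 : ℕ) ∉ ({12, 16} : Finset ℕ) by decide),
    Finset.sum_insert (show (12 : ℕ) ∉ ({16} : Finset ℕ) by decide), Finset.sum_singleton,
    c1, c27, c12, c16] at hsq
  norm_num at hsq

end Cfsg.Agent.H79.DegGraphSmall
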