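import Cfsg.Agent.H79.DegGraphSmall.Sections
import Cfsg.Agent.H79.DegGraphSmall.DegreeFacts
import Cfsg.Agent.H86.PrimeOrderBlock
import Cfsg.Agent.H84.UniquePSingular

/-!
# Small groups with a simple normal subgroup of trivial centralizer
-/

set_option autoImplicit false
set_option linter.unusedSectionVars false
set_option linter.style.haveILetI false

open Subgroup Cfsg

namespace Cfsg.Agent.H79.DegGraphSmall

universe u

theorem exists_simple_dvd : ∀ (G : Type u) [Group G] [Finite G], ¬ Group.IsSolvable G →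
    Nat.card G < 6000 → IsSimpleGroup G ∨
      ∃ m ∈ ({60, 168, 360, 504, 660, 1092, 2448, 2520, 3420, 4080, 5616} : Finset ℕ),
        m < Nat.card G ∧ m ∣ Nat.card G := by
  intro G
  induction hn : Nat.card G using Nat.strong_induction_on generalizing G with
  | _ n ih =>
    intro _ _ hns hlt
    subst hn
    by_cases hs : IsSimpleGroup G
    · exact Or.inl hs
    right
    haveI : Nontrivial G := by
      by_contra h
      rw [not_nontrivial_iff_subsingleton] at h
      exact hns inferInstance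
    obtain ⟨K, hK, hKb, hKt⟩ : ∃ K : Subgroup G, K.Normal ∧ K ≠ ⊥ ∧ K ≠ ⊤ := by
      by_contra h
      exact hs ⟨fun H hH => or_iff_not_imp_left.2 fun hb => by_contra fun ht => h ⟨H, hH, hb, ht⟩⟩
    haveI := hK
    have hcard := card_eq_card_quotient_mul_card_subgroup K
    have hKlt : Nat.card K < Nat.card G :=
      lt_of_le_of_ne (card_le_card_group K) fun h => hKt (eq_top_of_card_eq K h)
    have hQlt : Nat.card (G ⧸ K) < Nat.card G := by
      rw [hcard]
      exact lt_mul_of_one_lt_right Nat.card_pos ((one_lt_card_iff_ne_bot K).2 hKb)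
    have hstep : ∀ (H : Type u) [Group H] [Finite H], Nat.card H < Nat.card G →
        Nat.card H ∣ Nat.card G → ¬ Group.IsSolvable H →
        ∃ m ∈ ({60, 168, 360, 504, 660, 1092, 2448, 2520, 3420, 4080, 5616} : Finset ℕ),
          m < Nat.card G ∧ m ∣ Nat.card G := by
      intro H _ _ hHlt hHd hHns
      rcases ih _ hHlt H rfl hHns (by omega) with h | ⟨m, hm, hml, hmd⟩
      · haveI := h
        exact ⟨_, simple_order_cases (fun hc => hHns
          ((IsSimpleGroup.comm_iff_isSolvable (G := H)).1 fun a b => hc.is_comm.comm a b))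
          (by omega), hHlt, hHd⟩
      · exact ⟨m, hm, hml.trans hHlt, hmd.trans hHd⟩
    by_cases h1 : Group.IsSolvable K
    · exact hstep (G ⧸ K) hQlt (Dvd.intro _ hcard.symm) fun h2 =>
        hns (Group.isSolvable_of_ker_le_range K.subtype (QuotientGroup.mk' K) (by simp))
    · exact hstep K hKlt (card_subgroup_dvd_card K) h1

variable {G : Type u} [Group G] [Finite G]

/-- The orders that a simple normal subgroup of a quotient can have. -/
theorem card_simple_section (hlt : Nat.card G < 6000) (C : Subgroup G) [C.Normal]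
    (H : Subgroup (G ⧸ C)) [IsSimpleGroup H] (hna : ¬ IsMulCommutative H) :
    Nat.card H ∈ ({60, 168, 360, 504, 660, 1092, 2448, 2520, 3420, 4080, 5616} : Finset ℕ) ∧
      Nat.card H ∣ Nat.card (G ⧸ C) ∧ Nat.card (G ⧸ C) ∣ Nat.card G := by
  have hd : Nat.card (G ⧸ C) ∣ Nat.card G :=
    Dvd.intro _ (card_eq_card_quotient_mul_card_subgroup C).symm
  have hd' := card_subgroup_dvd_card H
  refine ⟨simple_order_cases hna ?_, hd', hd⟩
  have h1 := Nat.le_of_dvd Nat.card_pos (hd'.trans hd)
  omega

theorem simple_of_full (C : Subgroup G) [C.Normal] (H : Subgroup (G ⧸ C)) [IsSimpleGroup H]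
    (h : Nat.card H = Nat.card G) : IsSimpleGroup G := by
  have hc := card_eq_card_quotient_mul_card_subgroup C
  have h1 := card_le_card_group H
  have h2 : 1 ≤ Nat.card C := Nat.card_pos
  have hQ : Nat.card (G ⧸ C) = Nat.card G := by
    refine le_antisymm ?_ (h ▸ h1)
    rw [hc]
    exact Nat.le_mul_of_pos_right _ h2
  have hC : C = ⊥ := by
    rw [← card_eq_one]
    rw [hQ] at hc
    exact (mul_eq_left₀ Nat.card_pos.ne').1 hc.symm
  have hH : H = ⊤ := eq_top_of_card_eq H (h.trans hQ.symm)
  let e : H ≃* G := (MulEquiv.subgroupCongr hH).trans (topEquiv.trans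
    ((QuotientGroup.quotientMulEquivOfEq hC).trans QuotientGroup.quotientBot))
  haveI : Nontrivial G := e.toEquiv.symm.nontrivial
  exact IsSimpleGroup.isSimpleGroup_of_surjective e.toMonoidHom e.surjective

/-- The quotient by `C` is isomorphic to its simple normal subgroup when the orders agree. -/
theorem nonempty_equiv_of_full (C : Subgroup G) [C.Normal] (H : Subgroup (G ⧸ C))
    (h : Nat.card H = Nat.card (G ⧸ C)) : Nonempty (H ≃* (G ⧸ C)) :=
  ⟨(MulEquiv.subgroupCongr (eq_top_of_card_eq H h)).trans topEquiv⟩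

/-- A small normal subgroup holding the whole `p`-part makes the Sylow subgroup normal. -/
theorem sylow_unique_of_small {p : ℕ} [hp : Fact p.Prime] (hp2 : ¬ p ^ 2 ∣ Nat.card G)
    (C : Subgroup G) [C.Normal] (hpC : p ∣ Nat.card C) (hsmall : Nat.card C < p * (p + 1)) :
    Nat.card (Sylow p G) = 1 := by
  have hpG : p ∣ Nat.card G := hpC.trans (card_subgroup_dvd_card C)
  rcases card_sylow_of_normal hpG hp2 C with ⟨-, h⟩ | ⟨h, -⟩
  · rw [h]
    obtain ⟨m, hm⟩ := hpC
    have hpm : ¬ p ∣ m := fun h' => hp2 ((show p ^ 2 ∣ Nat.card C by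
      rw [hm, pow_two]; exact mul_dvd_mul_left p h').trans (card_subgroup_dvd_card C))
    obtain ⟨hd, hmod⟩ := H36.card_sylow_dvd (p := p) (hm : Nat.card C = p * m) (a := 1) (m := m)
      (by rw [pow_one]) hpm
    have hmpos : 0 < m := Nat.pos_of_ne_zero (by rintro rfl; exact hpm (dvd_zero p))
    have hle : Nat.card (Sylow p C) ≤ p := by
      refine (Nat.le_of_dvd hmpos hd).trans ?_
      rw [hm] at hsmall
      exact Nat.le_of_lt_succ (Nat.lt_of_mul_lt_mul_left hsmall)
    rcases eq_or_lt_of_le hle with h' | h'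
    · rw [h', Nat.mod_self] at hmod; exact absurd hmod (by norm_num)
    · rwa [Nat.mod_eq_of_lt h'] at hmod
  · exact absurd hpC h

variable {Q : Type u} [Group Q] [Finite Q]

/-- An element of prime order fixes a Sylow subgroup of a normal subgroup of coprime order, and
a full prime power of fixed points when no smaller power is congruent to it. -/
theorem pow_dvd_card_fixed {s : ℕ} [hs : Fact s.Prime] {x : Q} (hx : orderOf x = s)
    (H : Subgroup Q) [H.Normal] (hH : ¬ s ∣ Nat.card H) {q e : ℕ} (hq : q.Prime)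
    (he : (Nat.card H).factorization q = e) (hsmall : ∀ j < e, q ^ j % s ≠ q ^ e % s) :
    q ^ e ∣ Nat.card (H ⊓ centralizer ((zpowers x : Subgroup Q) : Set Q) : Subgroup Q) := by
  have hP : IsPGroup s (zpowers x) := IsPGroup.of_card (n := 1) (by
    rw [Nat.card_zpowers, hx, pow_one])
  obtain ⟨R, -, hRH, hPR, hRcard⟩ := exists_invariant_sylow (zpowers x) H hP hH hq ⊥ bot_le
    (haveI := Fact.mk hq; IsPGroup.of_bot) (by rw [normalizer_eq_top]; exact le_top)
  rw [he] at hRcard
  have h := card_modEq_inf_centralizer (zpowers x) R hP hPR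
  obtain ⟨j, hje, hj⟩ := (Nat.dvd_prime_pow hq).1 (hRcard ▸ card_dvd_of_le
    (inf_le_left : R ⊓ centralizer ((zpowers x : Subgroup Q) : Set Q) ≤ R))
  rw [hRcard, hj] at h
  rcases eq_or_lt_of_le hje with rfl | hlt
  · exact hj ▸ card_dvd_of_le (inf_le_inf_right _ hRH)
  · exact absurd h.symm (hsmall j hlt)

/-- The fixed subgroup is proper. -/
theorem fixed_ne {s : ℕ} [hs : Fact s.Prime] {x : Q} (hx : orderOf x = s) (H : Subgroup Q)
    (hcen : centralizer (H : Set Q) = ⊥) :
    Nat.card (H ⊓ centralizer ((zpowers x : Subgroup Q) : Set Q) : Subgroup Q) ≠ Nat.card H := by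
  intro h
  have h1 := eq_of_le_of_card_ge (inf_le_left :
    H ⊓ centralizer ((zpowers x : Subgroup Q) : Set Q) ≤ H) h.ge
  have h2 : x ∈ centralizer (H : Set Q) := fun y hy =>
    (mem_centralizer_iff.1 (inf_eq_left.1 h1 hy) x (mem_zpowers x)).symm
  rw [hcen, mem_bot] at h2
  rw [h2, orderOf_one] at hx
  exact hs.out.one_lt.ne hx

theorem not_dvd_of_168 {H : Subgroup Q} [H.Normal] (hcard : Nat.card H = 168)
    (hcen : centralizer (H : Set Q) = ⊥) : ¬ 5 ∣ Nat.card Q := by
  haveI : Fact (Nat.Prime 5) := ⟨by norm_num⟩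
  intro h
  obtain ⟨x, hx⟩ := exists_prime_orderOf_dvd_card' 5 h
  have hH : ¬ 5 ∣ Nat.card H := by rw [hcard]; norm_num
  have hf : ∀ q v r : ℕ, q.Prime → 168 = q ^ v * r → ¬ q ∣ r →
      (Nat.card H).factorization q = v := by
    intro q v r hq e hr
    rw [hcard, e, Nat.factorization_mul (pow_ne_zero _ hq.ne_zero) (fun h0 : r = 0 => hr (h0 ▸ dvd_zero q)),
      Finsupp.add_apply, hq.factorization_pow, Finsupp.single_eq_same,
      Nat.factorization_eq_zero_of_not_dvd hr, add_zero]
  have h8 := pow_dvd_card_fixed hx H hH Nat.prime_two (hf 2 3 21 Nat.prime_two rfl (by norm_num))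
    (by decide)
  have h3 := pow_dvd_card_fixed hx H hH Nat.prime_three
    (hf 3 1 56 Nat.prime_three rfl (by norm_num)) (by decide)
  have h7 := pow_dvd_card_fixed hx H hH (show Nat.Prime 7 by norm_num)
    (hf 7 1 24 (by norm_num) rfl (by norm_num)) (by decide)
  refine fixed_ne hx H hcen (Nat.dvd_antisymm (card_dvd_of_le inf_le_left) ?_)
  rw [hcard, show 168 = 2 ^ 3 * 3 ^ 1 * 7 ^ 1 by norm_num]
  exact Nat.Coprime.mul_dvd_of_dvd_of_dvd (by norm_num)
    (Nat.Coprime.mul_dvd_of_dvd_of_dvd (by norm_num) h8 h3) h7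

theorem not_dvd_of_504 {H : Subgroup Q} [H.Normal] (hcard : Nat.card H = 504)
    (hcen : centralizer (H : Set Q) = ⊥) : ¬ 5 ∣ Nat.card Q := by
  haveI : Fact (Nat.Prime 5) := ⟨by norm_num⟩
  intro h
  obtain ⟨x, hx⟩ := exists_prime_orderOf_dvd_card' 5 h
  have hH : ¬ 5 ∣ Nat.card H := by rw [hcard]; norm_num
  have hf : ∀ q v r : ℕ, q.Prime → 504 = q ^ v * r → ¬ q ∣ r →
      (Nat.card H).factorization q = v := by
    intro q v r hq e hr
    rw [hcard, e, Nat.factorization_mul (pow_ne_zero _ hq.ne_zero) (fun h0 : r = 0 => hr (h0 ▸ dvd_zero q)),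
      Finsupp.add_apply, hq.factorization_pow, Finsupp.single_eq_same,
      Nat.factorization_eq_zero_of_not_dvd hr, add_zero]
  have h8 := pow_dvd_card_fixed hx H hH Nat.prime_two (hf 2 3 63 Nat.prime_two rfl (by norm_num))
    (by decide)
  have h3 := pow_dvd_card_fixed hx H hH Nat.prime_three
    (hf 3 2 56 Nat.prime_three rfl (by norm_num)) (by decide)
  have h7 := pow_dvd_card_fixed hx H hH (show Nat.Prime 7 by norm_num)
    (hf 7 1 72 (by norm_num) rfl (by norm_num)) (by decide)
  refine fixed_ne hx H hcen (Nat.dvd_antisymm (card_dvd_of_le inf_le_left) ?_)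
  rw [hcard, show 504 = 2 ^ 3 * 3 ^ 2 * 7 ^ 1 by norm_num]
  exact Nat.Coprime.mul_dvd_of_dvd_of_dvd (by norm_num)
    (Nat.Coprime.mul_dvd_of_dvd_of_dvd (by norm_num) h8 h3) h7

theorem not_dvd_of_60 {H : Subgroup Q} [H.Normal] (hcard : Nat.card H = 60)
    (hcen : centralizer (H : Set Q) = ⊥) : ¬ 7 ∣ Nat.card Q := by
  haveI : Fact (Nat.Prime 7) := ⟨by norm_num⟩
  intro h
  obtain ⟨x, hx⟩ := exists_prime_orderOf_dvd_card' 7 h
  have hH : ¬ 7 ∣ Nat.card H := by rw [hcard]; norm_num
  have hf : ∀ q v r : ℕ, q.Prime → 60 = q ^ v * r → ¬ q ∣ r →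
      (Nat.card H).factorization q = v := by
    intro q v r hq e hr
    rw [hcard, e, Nat.factorization_mul (pow_ne_zero _ hq.ne_zero) (fun h0 : r = 0 => hr (h0 ▸ dvd_zero q)),
      Finsupp.add_apply, hq.factorization_pow, Finsupp.single_eq_same,
      Nat.factorization_eq_zero_of_not_dvd hr, add_zero]
  have h4 := pow_dvd_card_fixed hx H hH Nat.prime_two (hf 2 2 15 Nat.prime_two rfl (by norm_num))
    (by decide)
  have h3 := pow_dvd_card_fixed hx H hH Nat.prime_three
    (hf 3 1 20 Nat.prime_three rfl (by norm_num)) (by decide)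
  have h5 := pow_dvd_card_fixed hx H hH (show Nat.Prime 5 by norm_num)
    (hf 5 1 12 (by norm_num) rfl (by norm_num)) (by decide)
  refine fixed_ne hx H hcen (Nat.dvd_antisymm (card_dvd_of_le inf_le_left) ?_)
  rw [hcard, show 60 = 2 ^ 2 * 3 ^ 1 * 5 ^ 1 by norm_num]
  exact Nat.Coprime.mul_dvd_of_dvd_of_dvd (by norm_num)
    (Nat.Coprime.mul_dvd_of_dvd_of_dvd (by norm_num) h4 h3) h5

theorem not_dvd_of_360 {H : Subgroup Q} [H.Normal] [IsSimpleGroup H] (hcard : Nat.card H = 360)
    (hcen : centralizer (H : Set Q) = ⊥) : ¬ 7 ∣ Nat.card Q := by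
  haveI : Fact (Nat.Prime 7) := ⟨by norm_num⟩
  haveI : Fact (Nat.Prime 5) := ⟨by norm_num⟩
  intro h
  obtain ⟨x, hx⟩ := exists_prime_orderOf_dvd_card' 7 h
  have hH : ¬ 7 ∣ Nat.card H := by rw [hcard]; norm_num
  have hf : ∀ q v r : ℕ, q.Prime → 360 = q ^ v * r → ¬ q ∣ r →
      (Nat.card H).factorization q = v := by
    intro q v r hq e hr
    rw [hcard, e, Nat.factorization_mul (pow_ne_zero _ hq.ne_zero) (fun h0 : r = 0 => hr (h0 ▸ dvd_zero q)),
      Finsupp.add_apply, hq.factorization_pow, Finsupp.single_eq_same,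
      Nat.factorization_eq_zero_of_not_dvd hr, add_zero]
  have h3 := pow_dvd_card_fixed hx H hH Nat.prime_three
    (hf 3 2 40 Nat.prime_three rfl (by norm_num)) (by decide)
  have h5 := pow_dvd_card_fixed hx H hH (show Nat.Prime 5 by norm_num)
    (hf 5 1 72 (by norm_num) rfl (by norm_num)) (by decide)
  set E := H ⊓ centralizer ((zpowers x : Subgroup Q) : Set Q) with hE
  have h45 : 45 ∣ Nat.card E := by
    rw [show 45 = 3 ^ 2 * 5 ^ 1 by norm_num]
    exact Nat.Coprime.mul_dvd_of_dvd_of_dvd (by norm_num) h3 h5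
  have hmod : 360 % 7 = Nat.card E % 7 := by
    have := card_modEq_inf_centralizer (zpowers x) H
      (IsPGroup.of_card (n := 1) (by rw [Nat.card_zpowers, hx, pow_one]))
      (by rw [normalizer_eq_top]; exact le_top)
    rwa [hcard] at this
  have hne := fixed_ne hx H hcen
  rw [hcard] at hne
  have hd : Nat.card E ∣ 360 := hcard ▸ card_dvd_of_le inf_le_left
  have hE45 : Nat.card E = 45 := by
    obtain ⟨k, hk⟩ := h45
    have := Nat.le_of_dvd (by norm_num) hd
    change Nat.card E ≠ 360 at hne
    have hk8 : k ≤ 8 := by omega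
    interval_cases k <;> first | omega | (rw [hk] at hd; norm_num at hd)
  -- a Sylow five subgroup of `H` would have too large a normalizer
  set E' := E.subgroupOf H
  have hE' : Nat.card E' = 45 := by
    rw [Nat.card_congr (subgroupOfEquivOfLe (inf_le_left : E ≤ H)).toEquiv, hE45]
  obtain ⟨P⟩ := Sylow.nonempty (p := 5) (G := E')
  have h1 : Nat.card (Sylow 5 E') = 1 := by
    obtain ⟨hd', hm⟩ := H36.card_sylow_dvd (p := 5) hE' (a := 1) (m := 9) rfl (by norm_num)
    have := Nat.le_of_dvd (by norm_num) hd'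
    interval_cases hn : Nat.card (Sylow 5 E') <;> first | rfl | omega | (norm_num at hd')
  haveI : Subsingleton (Sylow 5 E') := (Nat.card_eq_one_iff_unique.mp h1).1
  haveI : (P : Subgroup E').Normal := P.normal_of_subsingleton
  set R := (P : Subgroup E').map E'.subtype with hR
  have hRcard : Nat.card R = 5 ^ (Nat.card H).factorization 5 := by
    rw [card_map_of_injective E'.subtype_injective, P.card_eq_multiplicity, hE',
      hf 5 1 72 (by norm_num) rfl (by norm_num), show 45 = 5 ^ 1 * 9 by norm_num,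
      Nat.factorization_mul (by norm_num) (by norm_num), Finsupp.add_apply,
      (show Nat.Prime 5 by norm_num).factorization_pow, Finsupp.single_eq_same,
      Nat.factorization_eq_zero_of_not_dvd (by norm_num : ¬ 5 ∣ 9)]
  have hN : E' ≤ normalizer (R : Set H) := by
    have := Subgroup.le_normalizer_map (H := (P : Subgroup E')) E'.subtype
    rw [normalizer_eq_top, ← MonoidHom.range_eq_map, range_subtype] at this
    exact this
  have hidx : Nat.card (Sylow 5 H) = (normalizer (R : Set H)).index :=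
    (Sylow.ofCard R hRcard).card_eq_index_normalizer
  have hNcard := (normalizer (R : Set H)).card_mul_index
  rw [← hidx, hcard] at hNcard
  obtain ⟨hdvd, hm5⟩ := H36.card_sylow_dvd (p := 5) hcard (a := 1) (m := 72) rfl (by norm_num)
  have hne1 : Nat.card (Sylow 5 H) ≠ 1 := H36.card_sylow_ne_one (by rw [hcard]; norm_num)
    (fun k hk => by
      have h2 : 2 ∣ 5 ^ k := ⟨180, by rw [← hk, hcard]⟩
      exact absurd (Nat.prime_two.dvd_of_dvd_pow h2) (by norm_num))
  have h45' : 45 ∣ Nat.card (normalizer (R : Set H)) := hE' ▸ card_dvd_of_le hN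
  obtain ⟨k, hk⟩ := h45'
  rw [hk] at hNcard
  have hn8 : Nat.card (Sylow 5 H) ∣ 8 := ⟨k, by
    have : 45 * (k * Nat.card (Sylow 5 H)) = 45 * 8 := by rw [← mul_assoc, hNcard]
    rw [mul_comm] at this ⊢
    omega⟩
  have := Nat.le_of_dvd (by norm_num) hn8
  interval_cases hn : Nat.card (Sylow 5 H) <;>
    first | omega | (norm_num at hn8 hdvd) | (exact hne1 rfl)

/-- A group of order 120 over a simple subgroup of order 60 with trivial centralizer has a
character of degree six. -/
theorem six_mem_charDegrees {H : Subgroup Q} [H.Normal] [IsSimpleGroup H] (hQ : Nat.card Q = 120)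
    (hcard : Nat.card H = 60) (hcen : centralizer (H : Set Q) = ⊥) : 6 ∈ charDegrees Q := by
  classical
  haveI := Fintype.ofFinite Q
  haveI : Fact (Nat.Prime 5) := ⟨by norm_num⟩
  have hna : ¬ IsMulCommutative H := H36.not_comm_of_simple (by rw [hcard]; norm_num)
  have hn6 : Nat.card (Sylow 5 Q) = 6 := by
    rcases card_sylow_of_normal (p := 5) (by rw [hQ]; norm_num) (by rw [hQ]; norm_num) H with
      ⟨-, h⟩ | ⟨h, -⟩
    · rw [h]
      obtain ⟨hd, hm⟩ := H36.card_sylow_dvd (p := 5) hcard (a := 1) (m := 12) rfl (by norm_num)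
      have hne : Nat.card (Sylow 5 H) ≠ 1 := H36.card_sylow_ne_one (by rw [hcard]; norm_num)
        (fun k hk => by
          have h2 : 2 ∣ 5 ^ k := ⟨30, by rw [← hk, hcard]⟩
          exact absurd (Nat.prime_two.dvd_of_dvd_pow h2) (by norm_num))
      have := Nat.le_of_dvd (by norm_num) hd
      interval_cases hn : Nat.card (Sylow 5 H) <;>
    first | omega | (norm_num at hn8 hdvd) | (exact hne1 rfl)
    · exact absurd (by rw [hcard]; norm_num) h
  obtain ⟨P⟩ := Sylow.nonempty (p := 5) (G := Q)
  have hP : Nat.card (P : Subgroup Q) = 5 := by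
    simpa using H36.card_sylow_eq hQ P (a := 1) (m := 24) rfl (by norm_num)
  have hN : Nat.card (normalizer ((P : Subgroup Q) : Set Q)) = 20 := by
    have h := (normalizer ((P : Subgroup Q) : Set Q)).card_mul_index
    have h' : Nat.card (Sylow 5 Q) = (normalizer ((P : Subgroup Q) : Set Q)).index :=
      P.card_eq_index_normalizer
    rw [hn6] at h'
    rw [← h', hQ] at h
    omega
  haveI : IsCyclic (P : Subgroup Q) := isCyclic_of_prime_card hP
  obtain ⟨g, hg⟩ := IsCyclic.exists_generator (α := (P : Subgroup Q))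
  have hord : orderOf (g : Q) = 5 := by
    rw [orderOf_coe, orderOf_eq_card_of_forall_mem_zpowers hg, hP]
  have hzp : zpowers (g : Q) = P := eq_of_le_of_card_ge (zpowers_le.2 g.2) (by
    rw [Nat.card_zpowers, hord, hP])
  -- the centralizer of `P` is `P`
  have hinj : Function.Injective (MulAction.toPermHom Q (Sylow 5 Q)) := by
    set K := (MulAction.toPermHom Q (Sylow 5 Q)).ker with hK
    rw [← MonoidHom.ker_eq_bot_iff, ← hK]
    have hdis : K ⊓ H = ⊥ := by
      rcases (IsSimpleGroup.eq_bot_or_eq_top_of_normal ((K ⊓ H).subgroupOf H) inferInstance) with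
        h | h
      · rwa [subgroupOf_eq_bot, disjoint_iff, inf_assoc, inf_idem] at h
      · exfalso
        rw [subgroupOf_eq_top] at h
        have hle : H ≤ normalizer ((P : Subgroup Q) : Set Q) := fun y hy => by
          have h1 : y • P = P := Equiv.congr_fun (MonoidHom.mem_ker.1 (h hy).1) P
          exact Sylow.smul_eq_iff_mem_normalizer.1 h1
        have h2 := Nat.le_of_dvd Nat.card_pos (card_dvd_of_le hle)
        omega
    have hcomm : K ≤ centralizer (H : Set Q) := fun y hy z hz =>
      (Subgroup.commute_of_normal_of_disjoint K H inferInstance inferInstance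
        (disjoint_iff.2 hdis) y z hy hz).eq.symm
    exact le_bot_iff.1 (hcen ▸ hcomm)
  have hC5 : Nat.card (centralizer ({(g : Q)} : Set Q)) = 5 := by
    haveI := Fintype.ofFinite (Sylow 5 Q)
    set f := MulAction.toPermHom Q (Sylow 5 Q) with hf
    have hof : orderOf (f (g : Q)) = 5 := by rw [orderOf_injective f hinj, hord]
    obtain ⟨n, hn⟩ := Equiv.Perm.cycleType_prime_order (σ := f (g : Q))
      (by rw [hof]; norm_num)
    rw [hof] at hn
    have hsum := Equiv.Perm.sum_cycleType_le (f (g : Q))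
    rw [hn, Multiset.sum_replicate, smul_eq_mul, ← Nat.card_eq_fintype_card, hn6] at hsum
    obtain rfl : n = 0 := by omega
    have hle : (centralizer ({(g : Q)} : Set Q)).map f ≤ centralizer ({f (g : Q)} : Set _) := by
      rintro _ ⟨y, hy, rfl⟩
      rw [mem_centralizer_singleton_iff, ← map_mul, ← map_mul,
        mem_centralizer_singleton_iff.1 hy]
    have h1 := card_dvd_of_le hle
    rw [card_map_of_injective hinj, Equiv.Perm.nat_card_centralizer, hn] at h1
    simp only [zero_add, Multiset.replicate_one, Multiset.sum_singleton, Multiset.prod_singleton,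
      Multiset.toFinset_singleton, Finset.prod_singleton, Multiset.count_singleton_self,
      Nat.factorial_one, mul_one, ← Nat.card_eq_fintype_card, hn6] at h1
    norm_num at h1
    have h2 := Subgroup.orderOf_dvd_natCard (centralizer ({(g : Q)} : Set Q))
      (mem_centralizer_singleton_iff.2 rfl : (g : Q) ∈ centralizer ({(g : Q)} : Set Q))
    rw [hord] at h2
    rw [← Nat.card_eq_fintype_card] at h1
    exact Nat.dvd_antisymm h1 h2
  -- the powers are conjugate
  have hconj : ∀ u : (P : Subgroup Q), u ≠ 1 → IsConj (g : Q) u := by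
    set N := normalizer ((P : Subgroup Q) : Set Q)
    let φ : N → {u : (P : Subgroup Q) // u ≠ 1} := fun n =>
      ⟨⟨(n : Q) * g * (n : Q)⁻¹, (mem_normalizer_iff.1 n.2 _).1 g.2⟩, fun h => by
        have h1 : (n : Q) * g * (n : Q)⁻¹ = 1 := congrArg Subtype.val h
        rw [mul_inv_eq_one, mul_eq_left] at h1
        rw [h1, orderOf_one] at hord
        exact absurd hord (by norm_num)⟩
    have hsurj : Function.Surjective φ := by
      by_contra hns
      rw [Function.Surjective] at hns
      push Not at hns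
      obtain ⟨b, hb⟩ := hns
      haveI := Fintype.ofFinite N
      have hfib : ∀ a, (Finset.univ.filter fun n => φ n = a).card ≤ 5 := by
        intro a
        rcases (Finset.univ.filter fun n => φ n = a).eq_empty_or_nonempty with h | ⟨n₀, hn₀⟩
        · rw [h]; simp
        refine le_trans ?_ hC5.le
        rw [← Nat.card_eq_finsetCard]
        refine Nat.card_le_card_of_injective (fun n =>
          (⟨(n₀ : Q)⁻¹ * (n.1 : Q), ?_⟩ : centralizer ({(g : Q)} : Set Q))) ?_
        · rw [mem_centralizer_singleton_iff]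
          have h1 : (n.1 : Q) * g * (n.1 : Q)⁻¹ = (n₀ : Q) * g * (n₀ : Q)⁻¹ := by
            have := (Finset.mem_filter.1 n.2).2.trans (Finset.mem_filter.1 hn₀).2.symm
            exact congrArg (fun w => ((w.1 : (P : Subgroup Q)) : Q)) this
          calc (n₀ : Q)⁻¹ * (n.1 : Q) * g
              = (n₀ : Q)⁻¹ * ((n.1 : Q) * g * (n.1 : Q)⁻¹) * n.1 := by group
            _ = _ := by rw [h1]; group
        · intro a b hab
          exact Subtype.ext (Subtype.ext (mul_left_cancel (congrArg Subtype.val hab)))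
      have hle := Finset.card_le_mul_card_image_of_maps_to (f := φ)
        (s := Finset.univ) (t := Finset.univ.erase b)
        (fun n _ => Finset.mem_erase.2 ⟨hb n, Finset.mem_univ _⟩) 5 (fun a _ => hfib a)
      rw [Finset.card_erase_of_mem (Finset.mem_univ _), Finset.card_univ, Finset.card_univ,
        ← Nat.card_eq_fintype_card, ← Nat.card_eq_fintype_card, hN] at hle
      have h4 : Nat.card {u : (P : Subgroup Q) // u ≠ 1} = 4 := by
        haveI := Fintype.ofFinite (P : Subgroup Q)
        rw [Nat.card_eq_fintype_card, Fintype.card_subtype_compl, Fintype.card_subtype_eq,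
          ← Nat.card_eq_fintype_card, hP]
      omega
    intro u hu
    obtain ⟨n, hn⟩ := hsurj ⟨u, hu⟩
    exact isConj_iff.2 ⟨(n : Q), congrArg (fun w => ((w.1 : (P : Subgroup Q)) : Q)) hn⟩
  -- rational integer values
  haveI := Fintype.ofFinite (P : Subgroup Q)
  have hval : ∀ χ : IrrCharacter Q, ∃ a : ℤ, (χ : Q → ℂ) g = (a : ℂ) ∧
      (5 : ℤ) ∣ a - charDegree (χ : Q → ℂ) := by
    intro χ
    obtain ⟨n, hn⟩ := exists_sum_eq (P : Subgroup Q) χ
    rw [← Finset.add_sum_erase _ _ (Finset.mem_univ (1 : (P : Subgroup Q))),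
      Finset.sum_congr rfl (g := fun _ => (χ : Q → ℂ) g) (fun u hu => by
        obtain ⟨c, hc⟩ := isConj_iff.1 (hconj u (Finset.ne_of_mem_erase hu))
        rw [← hc, CharBasic.IsIrr.isClassFunction χ.2]),
      Finset.sum_const, Finset.card_erase_of_mem (Finset.mem_univ _), Finset.card_univ,
      ← Nat.card_eq_fintype_card, hP] at hn
    have h1 : ((1 : (P : Subgroup Q)) : Q) = 1 := rfl
    rw [h1, Linear.SLDegrees.one_eq_charDegree, nsmul_eq_mul] at hn
    push_cast at hn
    have hq : (χ : Q → ℂ) g = ((((5 * n : ℕ) : ℚ) - charDegree (χ : Q → ℂ)) / 4 : ℚ) := by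
      push_cast
      linear_combination hn / 4
    obtain ⟨m, ρ, -, he⟩ := χ.2
    have hint : IsIntegral ℤ ((χ : Q → ℂ) g) := he ▸ CharBasic.isIntegral_character ρ _
    rw [hq, ← eq_ratCast (algebraMap ℚ ℂ)] at hint
    obtain ⟨a, ha'⟩ := IsIntegrallyClosed.isIntegral_iff.1
      ((isIntegral_algebraMap_iff (algebraMap ℚ ℂ).injective).1 hint)
    have ha : (χ : Q → ℂ) g = (a : ℂ) := by rw [hq, ← ha']; simp
    refine ⟨a, ha, ⟨(a : ℤ) - n, ?_⟩⟩
    have h2 : ((4 * a + charDegree (χ : Q → ℂ) : ℤ) : ℂ) = ((5 * n : ℤ) : ℂ) := by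
      push_cast
      rw [← ha]
      linear_combination hn
    have h3 := Int.cast_injective h2
    linarith
  choose a ha ha5 using hval
  have hsq : ∑ χ : IrrCharacter Q, a χ * a χ = (5 : ℤ) := by
    have h := CharBasic.second_orthogonality_self (G := Q) (g : Q)
    rw [hC5] at h
    simp only [ha, map_intCast] at h
    exact_mod_cast h
  have hz : ∑ χ : IrrCharacter Q, a χ * (charDegree (χ : Q → ℂ) : ℤ) = 0 := by
    have h := CharBasic.sum_degree_mul_apply (G := Q) (g : Q)
    rw [if_neg (fun h1 => by rw [h1, orderOf_one] at hord; norm_num at hord)] at h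
    simp only [ha, Linear.SLDegrees.one_eq_charDegree] at h
    have h' : ((∑ χ : IrrCharacter Q, a χ * (charDegree (χ : Q → ℂ) : ℤ) : ℤ) : ℂ) = 0 := by
      push_cast
      simpa only [mul_comm] using h
    exact_mod_cast h'
  by_contra hno
  have hdeg : ∀ χ : IrrCharacter Q, charDegree (χ : Q → ℂ) ∈ ([1, 2, 3, 4, 5, 8, 10] : List ℕ) ∧
      a χ ∈ ([-2, -1, 0, 1, 2] : List ℤ) := by
    intro χ
    obtain ⟨d, hd0, hd, hdvd, -⟩ := CharBasic.IsIrr.degree_dvd χ.2
    have hd' : charDegree (χ : Q → ℂ) = d := Linear.SLDegrees.charDegree_eq hd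
    have h2 := PSL33.degree_sq_le (χ := χ) hd
    rw [hQ] at h2 hdvd
    rw [hd']
    have h6 : d ≠ 6 := fun h => hno ⟨χ, hd'.trans h⟩
    have hd10 : d ≤ 10 := by nlinarith
    refine ⟨by interval_cases d <;> first | omega | simp | (norm_num at hdvd), ?_⟩
    have h3 : a χ * a χ ≤ 5 :=
      hsq ▸ Finset.single_le_sum (f := fun χ => a χ * a χ) (fun i _ => mul_self_nonneg _)
        (Finset.mem_univ χ)
    have h4 : -2 ≤ a χ ∧ a χ ≤ 2 := ⟨by nlinarith, by nlinarith⟩
    obtain ⟨h4, h5⟩ := h4
    interval_cases a χ <;> simp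
  have htab : ∀ d ∈ ([1, 2, 3, 4, 5, 8, 10] : List ℕ), ∀ b ∈ ([-2, -1, 0, 1, 2] : List ℤ),
      (5 : ℤ) ∣ b - d → (d = 1 → b = 1) ∧ (d = 2 → b = 2) ∧
        (d ≠ 1 → d ≠ 2 → b * d ≤ -(b * b)) := by
    decide
  have hrow := fun χ => htab _ (hdeg χ).1 _ (hdeg χ).2 (ha5 χ)
  set one' : IrrCharacter Q := ⟨_, CharBasic.isIrrCharacter_one⟩ with hone'
  have hone : charDegree (one' : Q → ℂ) = 1 := Linear.SLDegrees.charDegree_eq (by simp [hone'])
  by_cases h2 : ∃ χ : IrrCharacter Q, charDegree (χ : Q → ℂ) = 2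
  · obtain ⟨χ₂, hχ₂⟩ := h2
    have hne : one' ≠ χ₂ := fun h => by rw [← h, hone] at hχ₂; omega
    have e1 := (hrow one').1 hone
    have e2 := (hrow χ₂).2.1 hχ₂
    have hrest : ∀ χ : IrrCharacter Q, χ ∉ ({one', χ₂} : Finset _) → a χ = 0 := by
      intro χ hχ
      have h := Finset.sum_le_univ_sum_of_nonneg (s := insert χ ({one', χ₂} : Finset _))
        (f := fun χ => a χ * a χ) (fun i => mul_self_nonneg _)
      rw [Finset.sum_insert hχ, Finset.sum_pair hne, e1, e2, hsq] at h
      nlinarith
    have h := hz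
    rw [← Finset.sum_subset (Finset.subset_univ ({one', χ₂} : Finset _))
      (fun χ _ hχ => by rw [hrest χ hχ, zero_mul]), Finset.sum_pair hne, e1, e2, hone, hχ₂] at h
    norm_num at h
  · push Not at h2
    set L := Finset.univ.filter fun χ : IrrCharacter Q => charDegree (χ : Q → ℂ) = 1 with hL
    have hL2 : L.card ≤ 2 := by
      have h := H84.card_degree_one (G := Q)
      rw [Nat.card_eq_fintype_card, Fintype.card_subtype] at h
      rw [hL, h]
      have hH : H ≤ commutator Q := by
        rcases IsSimpleGroup.eq_bot_or_eq_top_of_normal (_root_.commutator H) inferInstance with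
          hc | hc
        · exfalso
          rw [_root_.commutator_def, commutator_eq_bot_iff_le_centralizer] at hc
          exact hna ⟨⟨fun x y => (mem_centralizer_iff.1 (hc (mem_top x)) y (mem_top y)).symm⟩⟩
        · intro y hy
          have h1 : (⟨y, hy⟩ : H) ∈ _root_.commutator H := by rw [hc]; exact mem_top _
          have h2 : H.subtype (⟨y, hy⟩ : H) ∈ (_root_.commutator H).map H.subtype :=
            mem_map_of_mem _ h1
          rw [_root_.commutator_def, map_commutator, ← MonoidHom.range_eq_map, range_subtype] at h2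
          exact commutator_mono le_top le_top h2
      have h2 := index_dvd_of_le hH
      rw [H36.index_eq_of_card hQ hcard] at h2
      exact Nat.le_of_dvd (by norm_num) h2
    have hle : ∀ χ : IrrCharacter Q, a χ * (charDegree (χ : Q → ℂ) : ℤ) + a χ * a χ ≤
        if χ ∈ L then 2 else 0 := by
      intro χ
      by_cases h1 : charDegree (χ : Q → ℂ) = 1
      · rw [if_pos (show χ ∈ L from Finset.mem_filter.2 ⟨Finset.mem_univ _, h1⟩), (hrow χ).1 h1,
          h1]
        norm_num
      · rw [if_neg (show χ ∉ L from fun h => h1 (Finset.mem_filter.1 h).2)]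
        linarith [(hrow χ).2.2 h1 (h2 χ)]
    have h := Finset.sum_le_sum (s := (Finset.univ : Finset (IrrCharacter Q))) fun χ _ => hle χ
    rw [Finset.sum_add_distrib, hz, hsq, Finset.sum_ite_mem, Finset.univ_inter, Finset.sum_const,
      nsmul_eq_mul] at h
    have : (L.card : ℤ) ≤ 2 := by exact_mod_cast hL2
    linarith

end Cfsg.Agent.H79.DegGraphSmall
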