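import Mathlib
import Cfsg.Agent.H36.DegreeEq
import Cfsg.Agent.H83.ClassConst
import Cfsg.Agent.CharBasic.Rep

/-!
# Eigenvalue descriptions of character values
-/

set_option autoImplicit false
set_option linter.style.haveILetI false
set_option linter.unusedSectionVars false

open scoped ComplexConjugate
open Subgroup

namespace Cfsg.Agent.H79.DegGraphSmall.CharTools

open Cfsg.Agent.CharBasic

variable {G : Type*} [Group G] [Finite G]

theorem isIntegral_trace_pow {W : Type*} [AddCommGroup W] [Module ℂ W] [FiniteDimensional ℂ W]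
    (f : Module.End ℂ W) {m : ℕ} (hm : 0 < m) (hf : f ^ m = 1) :
    IsIntegral ℤ (LinearMap.trace ℂ W f) := by
  obtain ⟨b, μ, h1, h2⟩ := exists_eigenbasis hm hf
  rw [trace_eq_sum_of_eigenbasis b μ _ h1]
  exact IsIntegral.sum _ fun i _ => IsIntegral.of_pow hm (by rw [h2 i]; exact isIntegral_one)

/-- The trace of `y` on the fixed space of a subgroup it centralises is an algebraic integer. -/
theorem isIntegral_average {χ : G → ℂ} (hχ : Cfsg.IsCharacter G χ) (y : G) (R : Subgroup G)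
    [Fintype R] (hcomm : ∀ r ∈ R, Commute r y) :
    IsIntegral ℤ ((∑ r : R, χ (y * r)) / (Nat.card R : ℂ)) := by
  obtain ⟨n, ρ, rfl⟩ := hχ
  set e : Module.End ℂ (Fin n → ℂ) := (Nat.card R : ℂ)⁻¹ • ∑ r : R, ρ (r : G) with he
  have h0 : (Nat.card R : ℂ) ≠ 0 := Nat.cast_ne_zero.2 Nat.card_pos.ne'
  let W : Submodule ℂ (Fin n → ℂ) :=
    { carrier := {v | ∀ r ∈ R, ρ r v = v}
      add_mem' := fun ha hb r hr => by rw [map_add, ha r hr, hb r hr]
      zero_mem' := fun r _ => map_zero _
      smul_mem' := fun c v hv r hr => by rw [map_smul, hv r hr] }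
  have hy : ∀ v ∈ W, ρ y v ∈ W := fun v hv r hr => by
    rw [← Module.End.mul_apply, ← map_mul, (hcomm r hr).eq, map_mul, Module.End.mul_apply, hv r hr]
  have heW : ∀ v, e v ∈ W := fun v r hr => by
    simp only [he, LinearMap.smul_apply, LinearMap.sum_apply, map_smul, map_sum]
    congr 1
    refine Fintype.sum_equiv (Equiv.mulLeft (⟨r, hr⟩ : R)) _ _ fun s => ?_
    rw [← Module.End.mul_apply, ← map_mul]
    rfl
  have hefix : ∀ v ∈ W, e v = v := fun v hv => by
    simp only [he, LinearMap.smul_apply, LinearMap.sum_apply]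
    rw [Finset.sum_congr rfl (fun (r : R) _ => hv r r.2), Finset.sum_const, Finset.card_univ,
      ← Nat.card_eq_fintype_card, ← Nat.cast_smul_eq_nsmul ℂ, smul_smul, inv_mul_cancel₀ h0,
      one_smul]
  have hf : ∀ v, (ρ y * e) v ∈ W := fun v => by
    rw [Module.End.mul_apply]; exact hy _ (heW v)
  have htr : LinearMap.trace ℂ (Fin n → ℂ) (ρ y * e) =
      (∑ r : R, ρ.character (y * r)) / (Nat.card R : ℂ) := by
    rw [he, Algebra.mul_smul_comm, map_smul, Finset.mul_sum, map_sum, smul_eq_mul, div_eq_inv_mul]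
    congr 1
    exact Finset.sum_congr rfl fun r _ => by rw [← map_mul]; rfl
  rw [← htr, ← LinearMap.trace_restrict_eq_of_forall_mem W (ρ y * e) hf]
  refine isIntegral_trace_pow _ (orderOf_pos y) ?_
  have hpow : ∀ (k : ℕ) (v : W),
      ((((ρ y * e).restrict fun v _ => hf v) ^ k) v : Fin n → ℂ) = ρ (y ^ k) v := by
    intro k
    induction k with
    | zero => intro v; simp
    | succ k ih =>
      intro v
      rw [pow_succ, Module.End.mul_apply, ih]
      show ρ (y ^ k) ((ρ y * e) v) = _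
      rw [Module.End.mul_apply, hefix v v.2, ← Module.End.mul_apply, ← map_mul, ← pow_succ]
  refine LinearMap.ext fun v => Subtype.ext ?_
  rw [hpow, pow_orderOf_eq_one, map_one]
  rfl

/-- Gaussian description of the value at an element of order four with trivial determinant. -/
theorem exists_gaussian {n : ℕ} (ρ : Representation ℂ G (Fin n → ℂ))
    (hdet : ∀ g, LinearMap.det (ρ g) = 1) {z : G} (hz : z ^ 4 = 1) :
    ∃ p q S : ℤ, ρ.character z = p + q * Complex.I ∧
      ρ.character (z * z) = (2 * S - n : ℤ) ∧ (2 : ℤ) ∣ p - S ∧ (2 : ℤ) ∣ q - (n - S) ∧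
      (4 : ℤ) ∣ q + S - p := by
  classical
  obtain ⟨b, μ, h1, h2⟩ := exists_eigenbasis (f := ρ z) (m := 4) (by norm_num)
    (by rw [← map_pow, hz, map_one])
  have hcases : ∀ i, ∃ u w : ℤ, μ i = u + w * Complex.I ∧ μ i ^ 2 = ((u ^ 2 - w ^ 2 : ℤ) : ℂ) ∧
      u ^ 2 + w ^ 2 = 1 ∧ ∃ k : ℕ, μ i = Complex.I ^ k ∧ (4 : ℤ) ∣ (k : ℤ) - (w + u ^ 2 - u) := by
    intro i
    have h : (μ i - 1) * (μ i + 1) * (μ i - Complex.I) * (μ i + Complex.I) = 0 := by
      linear_combination h2 i - (μ i ^ 2 - 1) * Complex.I_sq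
    simp only [mul_eq_zero, sub_eq_zero, add_eq_zero_iff_eq_neg] at h
    rcases h with ((h | h) | h) | h <;> rw [h]
    · exact ⟨1, 0, by simp, by simp, by norm_num, 0, by simp, by norm_num⟩
    · exact ⟨-1, 0, by simp, by simp, by norm_num, 2, by simp, by norm_num⟩
    · exact ⟨0, 1, by simp, by simp [Complex.I_sq], by norm_num, 1, by simp, by norm_num⟩
    · refine ⟨0, -1, by simp, by simp [Complex.I_sq], by norm_num, 3, ?_, by norm_num⟩
      rw [pow_succ, Complex.I_sq, neg_one_mul]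
  choose u w hu hsq huw k hk hkmod using hcases
  have hlen : Module.finrank ℂ (Fin n → ℂ) = n := Module.finrank_fin_fun ℂ
  have hsum1 : ∑ i, (u i ^ 2 + w i ^ 2) = (n : ℤ) := by
    rw [Finset.sum_congr rfl fun i _ => huw i, Finset.sum_const, Finset.card_univ,
      Fintype.card_fin, hlen, nsmul_one]
  have hprod : ∏ i, μ i = 1 := by
    rw [← hdet z, ← LinearMap.det_toMatrix b]
    have : LinearMap.toMatrix b b (ρ z) = Matrix.diagonal μ := by
      ext i j
      rw [LinearMap.toMatrix_apply, h1, map_smul, Module.Basis.repr_self, Matrix.diagonal_apply]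
      by_cases h : i = j
      · subst h; simp
      · simp [h]
    rw [this, Matrix.det_diagonal]
  refine ⟨∑ i, u i, ∑ i, w i, ∑ i, u i ^ 2, ?_, ?_, ?_, ?_, ?_⟩
  · show LinearMap.trace ℂ _ (ρ z) = _
    rw [trace_eq_sum_of_eigenbasis b μ _ h1]
    push_cast
    rw [Finset.sum_mul, ← Finset.sum_add_distrib]
    exact Finset.sum_congr rfl fun i _ => hu i
  · show LinearMap.trace ℂ _ (ρ (z * z)) = _
    rw [trace_eq_sum_of_eigenbasis b (fun i => μ i ^ 2) _ fun i => by
      rw [map_mul, Module.End.mul_apply, h1, map_smul, h1, smul_smul, pow_two],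
      Finset.sum_congr rfl fun i _ => hsq i, ← Int.cast_sum]
    congr 1
    rw [← hsum1, Finset.mul_sum, ← Finset.sum_sub_distrib]
    exact Finset.sum_congr rfl fun i _ => by ring
  · rw [← Finset.sum_sub_distrib]
    refine Finset.dvd_sum fun i _ => ?_
    rw [show u i - u i ^ 2 = -((u i - 1) * u i) by ring, dvd_neg]
    exact even_iff_two_dvd.1 (Int.even_mul_pred_self (u i) |> fun h => by rwa [mul_comm])
  · rw [← hsum1, ← Finset.sum_sub_distrib, ← Finset.sum_sub_distrib]
    refine Finset.dvd_sum fun i _ => ?_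
    rw [show w i - (u i ^ 2 + w i ^ 2 - u i ^ 2) = -((w i - 1) * w i) by ring, dvd_neg]
    exact even_iff_two_dvd.1 (Int.even_mul_pred_self (w i) |> fun h => by rwa [mul_comm])
  · have hI : orderOf Complex.I = 4 := by
      refine orderOf_eq_prime_pow (p := 2) (n := 1) ?_ ?_ <;> norm_num [pow_succ]
    have h4 : (4 : ℤ) ∣ ∑ i, (k i : ℤ) := by
      have h : Complex.I ^ ∑ i, k i = 1 := by
        rw [← Finset.prod_pow_eq_pow_sum, ← hprod]
        exact Finset.prod_congr rfl fun i _ => (hk i).symm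
      have := orderOf_dvd_of_pow_eq_one h
      rw [hI] at this
      exact_mod_cast Int.natCast_dvd_natCast.2 this
    have h5 : (4 : ℤ) ∣ ∑ i, ((k i : ℤ) - (w i + u i ^ 2 - u i)) :=
      Finset.dvd_sum fun i _ => hkmod i
    rw [Finset.sum_sub_distrib, Finset.sum_sub_distrib, Finset.sum_add_distrib] at h5
    have := dvd_sub h4 h5
    rwa [sub_sub_cancel] at this

/-- The value at an element of order dividing three. -/
theorem exists_eisenstein {n : ℕ} (ρ : Representation ℂ G (Fin n → ℂ)) {y : G} (hy : y ^ 3 = 1)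
    (hn : ¬ 3 ∣ n) :
    ∃ M : ℕ, M ≠ 0 ∧ 4 * Complex.normSq (ρ.character y) = M := by
  classical
  obtain ⟨b, μ, h1, h2⟩ := exists_eigenbasis (f := ρ y) (m := 3) (by norm_num)
    (by rw [← map_pow, hy, map_one])
  have hs3 : ((Real.sqrt 3 : ℝ) : ℂ) * (Real.sqrt 3 : ℝ) = 3 := by
    rw [← Complex.ofReal_mul, Real.mul_self_sqrt (by norm_num)]; simp
  have hcases : ∀ i, ∃ u w : ℤ, 2 * μ i = u + w * (Real.sqrt 3 : ℝ) * Complex.I ∧
      (3 : ℤ) ∣ u - 2 := by
    intro i
    have h : (μ i - 1) * ((2 * μ i + 1 - (Real.sqrt 3 : ℝ) * Complex.I) *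
        (2 * μ i + 1 + (Real.sqrt 3 : ℝ) * Complex.I)) = 0 := by
      linear_combination 4 * h2 i -
        (μ i - 1) * Complex.I * Complex.I * hs3 - 3 * (μ i - 1) * Complex.I_sq
    simp only [mul_eq_zero, sub_eq_zero] at h
    rcases h with h | h | h
    · exact ⟨2, 0, by simp [h], by norm_num⟩
    · exact ⟨-1, 1, by push_cast; linear_combination h, by norm_num⟩
    · exact ⟨-1, -1, by push_cast; linear_combination h, by norm_num⟩
  choose u w hu hu3 using hcases
  have hlen : Module.finrank ℂ (Fin n → ℂ) = n := Module.finrank_fin_fun ℂ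
  have htr : 2 * ρ.character y = ((∑ i, u i : ℤ) : ℂ) +
      ((∑ i, w i : ℤ) : ℂ) * (Real.sqrt 3 : ℝ) * Complex.I := by
    show 2 * LinearMap.trace ℂ _ (ρ y) = _
    rw [trace_eq_sum_of_eigenbasis b μ _ h1]
    push_cast
    rw [Finset.mul_sum, Finset.sum_mul, Finset.sum_mul, ← Finset.sum_add_distrib]
    exact Finset.sum_congr rfl fun i _ => hu i
  refine ⟨((∑ i, u i) ^ 2 + 3 * (∑ i, w i) ^ 2).natAbs, ?_, ?_⟩
  · intro h0
    have hU : ∑ i, u i = 0 := by
      have := Int.natAbs_eq_zero.1 h0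
      nlinarith [sq_nonneg (∑ i, w i), sq_nonneg (∑ i, u i)]
    have h3 : (3 : ℤ) ∣ ∑ i, (u i - 2) := Finset.dvd_sum fun i _ => hu3 i
    rw [Finset.sum_sub_distrib, hU, Finset.sum_const, Finset.card_univ, Fintype.card_fin, hlen,
      nsmul_eq_mul, zero_sub, dvd_neg] at h3
    have h6 : (3 : ℕ) ∣ n * 2 := by exact_mod_cast h3
    exact hn ((Nat.Coprime.dvd_mul_right (by norm_num)).1 h6)
  · have h := congrArg Complex.normSq htr
    rw [map_mul, show Complex.normSq 2 = 4 by norm_num [Complex.normSq]] at h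
    rw [h, Nat.cast_natAbs, abs_of_nonneg (by positivity)]
    simp [Complex.normSq_apply]
    nlinarith [Real.mul_self_sqrt (show (0 : ℝ) ≤ 3 by norm_num)]

end Cfsg.Agent.H79.DegGraphSmall.CharTools
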