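import Mathlib
import Cfsg.Agent.H36.Basic
import Cfsg.Agent.H25.SL23

/-!
# Groups of order 48 with a central involution and elements of order 3 with centralisers of order 6
-/

set_option autoImplicit false
set_option linter.style.haveILetI false
set_option linter.unusedSectionVars false

open Subgroup

namespace Cfsg.Agent.H79.DegGraphSmall.FortyEight

/-- The four group in degree four. -/
def InV (x : Equiv.Perm (Fin 4)) : Prop := x * x = 1 ∧ (x = 1 ∨ ∀ i, x i ≠ i)

instance (x : Equiv.Perm (Fin 4)) : Decidable (InV x) := by unfold InV; infer_instance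

theorem inV_mul : ∀ a b, InV a → InV b → InV (a * b) := by decide +kernel

theorem inV_one : InV 1 := by decide +kernel

/-- The four group as a subgroup. -/
def V : Subgroup (Equiv.Perm (Fin 4)) where
  carrier := {x | InV x}
  one_mem' := inV_one
  mul_mem' := fun {a b} => inV_mul a b
  inv_mem' := fun {a} ha => by
    have : a⁻¹ = a := inv_eq_of_mul_eq_one_right ha.1
    rw [this]; exact ha

instance : DecidablePred (· ∈ V) := fun x => inferInstanceAs (Decidable (InV x))

theorem card_V : Nat.card V = 4 := by rw [Nat.card_eq_fintype_card]; decide +kernel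

theorem V_normal : ∀ g a, InV a → InV (g * a * g⁻¹) := by decide +kernel

theorem V_centralizer : ∀ g, (∀ a, InV a → g * a = a * g) → InV g := by decide +kernel

set_option synthInstance.maxSize 2000 in
theorem V_transitive : ∀ x : Equiv.Perm (Fin 4), x * x * x = 1 ∧ x ≠ 1 →
    ∀ a : Equiv.Perm (Fin 4), InV a ∧ a ≠ 1 → ∀ b : Equiv.Perm (Fin 4), InV b ∧ b ≠ 1 →
      ∃ k : Fin 3, x ^ (k : ℕ) * a * (x ^ (k : ℕ))⁻¹ = b := by decide +kernel

theorem quat_cases : ∀ x : QuaternionGroup 2, x ≠ 1 →
    x = QuaternionGroup.a 2 ∨ x * x = QuaternionGroup.a 2 := by decide +kernel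

variable {K : Type*} [Group K] [Finite K]

/-- The action on the Sylow 3-subgroups. -/
theorem exists_hom (hK : Nat.card K = 48) {t : K} (ht : orderOf t = 2) (htc : ∀ k, Commute t k)
    (hy : ∀ y : K, orderOf y = 3 → Nat.card (centralizer ({y} : Set K)) = 6) :
    ∃ f : K →* Equiv.Perm (Fin 4), Function.Surjective f ∧ f.ker = zpowers t := by
  classical
  haveI : Fact (Nat.Prime 3) := ⟨Nat.prime_three⟩
  have h3 : 3 ∣ Nat.card K := by rw [hK]; norm_num
  have hP : ∀ P : Sylow 3 K, Nat.card (P : Subgroup K) = 3 := fun P => by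
    simpa using H36.card_sylow_eq hK P (a := 1) (m := 16) rfl (by norm_num)
  have hgen : ∀ (P : Sylow 3 K) (y : K), y ∈ (P : Subgroup K) → y ≠ 1 →
      orderOf y = 3 ∧ zpowers y = (P : Subgroup K) := fun P y hy1 hy2 => by
    have ho : orderOf y = 3 := ((Nat.dvd_prime Nat.prime_three).1
      (hP P ▸ Subgroup.orderOf_dvd_natCard _ hy1)).resolve_left (by simpa using hy2)
    exact ⟨ho, eq_of_le_of_card_ge (zpowers_le.2 hy1) (by rw [hP, Nat.card_zpowers, ho])⟩
  have hcent : ∀ P : Sylow 3 K, Nat.card (centralizer ((P : Subgroup K) : Set K)) = 6 := fun P => by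
    obtain ⟨y, hy1⟩ := exists_prime_orderOf_dvd_card' (G := (P : Subgroup K)) 3 (by rw [hP])
    rw [← orderOf_coe] at hy1
    have hy2 : (y : K) ≠ 1 := fun h => by rw [h, orderOf_one] at hy1; norm_num at hy1
    rw [← (hgen P y y.2 hy2).2, zpowers_eq_closure, centralizer_closure]
    exact hy _ hy1
  obtain ⟨P⟩ := Sylow.nonempty (p := 3) (G := K)
  have hr : ∀ P : Sylow 3 K, (centralizer ((P : Subgroup K) : Set K)).relIndex
      (normalizer ((P : Subgroup K) : Set K)) ∣ 2 := fun P =>
    H36.relIndex_centralizer_dvd_of_prime Nat.prime_three _ (hP P)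
  have hn3 : Nat.card (Sylow 3 K) = 4 := by
    obtain ⟨hd, hm⟩ := H36.card_sylow_dvd (p := 3) hK (a := 1) (m := 16) rfl (by norm_num)
    have h := H36.card_sylow_mul_normalizer P
    rw [hK, H36.card_normalizer_eq_mul, hcent] at h
    have h2 := Nat.le_of_dvd (by norm_num) (hr P)
    have h1 := Nat.le_of_dvd (by norm_num) hd
    interval_cases h' : (centralizer ((P : Subgroup K) : Set K)).relIndex
        (normalizer ((P : Subgroup K) : Set K)) <;> omega
  have hN : ∀ P : Sylow 3 K, Nat.card (normalizer ((P : Subgroup K) : Set K)) = 12 := fun P => by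
    have h := H36.card_sylow_mul_normalizer P
    rw [hn3, hK] at h
    omega
  haveI : Fintype (Sylow 3 K) := Fintype.ofFinite _
  let e : Sylow 3 K ≃ Fin 4 :=
    Fintype.equivFinOfCardEq (by rw [← Nat.card_eq_fintype_card, hn3])
  let f : K →* Equiv.Perm (Fin 4) :=
    e.permCongrHom.toMonoidHom.comp (MulAction.toPermHom K (Sylow 3 K))
  have hker : f.ker = zpowers t := by
    have hmem : ∀ k ∈ f.ker, ∀ Q : Sylow 3 K, k ∈ normalizer ((Q : Subgroup K) : Set K) := by
      intro k hk Q
      refine Sylow.smul_eq_iff_mem_normalizer.1 ?_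
      have h1 : e.permCongrHom (MulAction.toPermHom K (Sylow 3 K) k) = 1 := hk
      rw [EmbeddingLike.map_eq_one_iff] at h1
      exact Equiv.ext_iff.1 h1 Q
    have hno3 : ¬ 3 ∣ Nat.card f.ker := by
      intro hd
      obtain ⟨w, hw⟩ := exists_prime_orderOf_dvd_card' 3 hd
      rw [← orderOf_coe] at hw
      have hw1 : (w : K) ≠ 1 := fun h => by rw [h, orderOf_one] at hw; norm_num at hw
      have hin : ∀ Q : Sylow 3 K, (w : K) ∈ (Q : Subgroup K) := by
        intro Q
        have hpz : IsPGroup 3 (zpowers (w : K)) :=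
          IsPGroup.of_card (n := 1) (by rw [Nat.card_zpowers, hw, pow_one])
        have hsup : IsPGroup 3 ((Q : Subgroup K) ⊔ zpowers (w : K) : Subgroup K) :=
          Q.isPGroup'.to_sup_of_normal_left' hpz (zpowers_le.2 (hmem w w.2 Q))
        exact (Q.3 hsup le_sup_left).le (mem_sup_right (mem_zpowers (w : K)))
      have hsub : Nat.card (Sylow 3 K) ≤ 1 := by
        rw [Finite.card_le_one_iff_subsingleton]
        exact ⟨fun Q Q' => Sylow.ext
          ((hgen Q w (hin Q) hw1).2.symm.trans (hgen Q' w (hin Q') hw1).2)⟩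
      omega
    have hle : f.ker ≤ centralizer ((P : Subgroup K) : Set K) := by
      intro k hk p hp
      have hc : p * k * p⁻¹ * k⁻¹ ∈ f.ker ⊓ (P : Subgroup K) := by
        refine Subgroup.mem_inf.2
          ⟨mul_mem (f.normal_ker.conj_mem k hk p) (inv_mem hk), ?_⟩
        rw [show p * k * p⁻¹ * k⁻¹ = p * (k * p⁻¹ * k⁻¹) by group]
        exact mul_mem hp ((mem_normalizer_iff.1 (hmem k hk P) _).1 (inv_mem hp))
      have hbot : f.ker ⊓ (P : Subgroup K) = ⊥ := inf_eq_bot_of_coprime (by
        rw [hP]; exact ((Nat.Prime.coprime_iff_not_dvd Nat.prime_three).2 hno3).symm)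
      rw [hbot, mem_bot, mul_inv_eq_one, mul_inv_eq_iff_eq_mul] at hc
      exact hc
    refine (eq_of_le_of_card_ge (zpowers_le.2 ?_) ?_).symm
    · show e.permCongrHom (MulAction.toPermHom K (Sylow 3 K) t) = 1
      rw [EmbeddingLike.map_eq_one_iff]
      refine Equiv.ext fun Q => Sylow.smul_eq_iff_mem_normalizer.2 ?_
      exact centralizer_le_normalizer _ fun p _ => ((htc p).eq).symm
    · rw [Nat.card_zpowers, ht]
      have h1 : Nat.card f.ker ∣ 6 := hcent P ▸ card_dvd_of_le hle
      have h2 := Nat.le_of_dvd (by norm_num) h1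
      interval_cases h' : Nat.card f.ker <;> omega
  refine ⟨f, ?_, hker⟩
  have h1 := Subgroup.index_ker f
  have h2 := f.ker.card_mul_index
  rw [h1, hker, Nat.card_zpowers, ht, hK] at h2
  have h3 : f.range = ⊤ := eq_top_of_card_eq _ (by
    rw [Nat.card_perm, Nat.card_fin]
    show Nat.card f.range = 24
    omega)
  exact MonoidHom.range_eq_top.1 h3

/-- The normal subgroup of order eight. -/
theorem exists_core (hK : Nat.card K = 48) {t : K} (ht : orderOf t = 2) (htc : ∀ k, Commute t k)
    (hy : ∀ y : K, orderOf y = 3 → Nat.card (centralizer ({y} : Set K)) = 6) :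
    ∃ O : Subgroup K, O.Normal ∧ Nat.card O = 8 ∧ t ∈ O ∧ centralizer (O : Set K) ≤ O ∧
      ((∀ x ∈ O, x * x = 1) ∨
        ((∀ x ∈ O, x * x = 1 → x = 1 ∨ x = t) ∧ Nonempty (O ≃* QuaternionGroup 2) ∧
          ∀ x ∈ O, (∀ o ∈ O, Commute x o) → x = 1 ∨ x = t)) := by
  classical
  obtain ⟨f, hf, hker⟩ := exists_hom hK ht htc hy
  have ht2 : t * t = 1 := by rw [← pow_two, ← ht, pow_orderOf_eq_one]
  have ht1 : t ≠ 1 := fun h => by rw [h, orderOf_one] at ht; norm_num at ht
  have hker' : ∀ x, f x = 1 → x = 1 ∨ x = t := by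
    intro x hx
    obtain ⟨k, rfl⟩ := mem_zpowers_iff.1 (hker ▸ hx : x ∈ zpowers t)
    rcases Int.even_or_odd k with ⟨m, rfl⟩ | ⟨m, rfl⟩
    · exact Or.inl (by rw [← two_mul, zpow_mul, zpow_two, ht2, one_zpow])
    · exact Or.inr (by rw [zpow_add_one, zpow_mul, zpow_two, ht2, one_zpow, one_mul])
  have hft : f t = 1 := by
    have : t ∈ f.ker := hker ▸ mem_zpowers t
    exact this
  set O := V.comap f with hO
  have hmemO : ∀ x, x ∈ O ↔ InV (f x) := fun x => Iff.rfl
  have hcard : Nat.card O = 8 := by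
    show Nat.card (V.comap f) = 8
    have h1 := (V.comap f).card_mul_index
    rw [index_comap_of_surjective V hf, hK] at h1
    have h2 := V.card_mul_index
    rw [card_V, Nat.card_perm, Nat.card_fin, show Nat.factorial 4 = 24 from rfl] at h2
    have h3 : V.index = 6 := by omega
    rw [h3] at h1
    omega
  refine ⟨O, ⟨fun n hn g => ?_⟩, hcard, ?_, fun c hc => ?_, ?_⟩
  · rw [hmemO, map_mul, map_mul, map_inv]; exact V_normal _ _ hn
  · rw [hmemO, hft]; exact inV_one
  · refine (hmemO c).2 (V_centralizer _ fun a ha => ?_)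
    obtain ⟨x, rfl⟩ := hf a
    rw [← map_mul, ← map_mul, hc x ((hmemO x).2 ha)]
  by_cases hinv : ∃ o ∈ O, o * o = 1 ∧ o ≠ 1 ∧ o ≠ t
  · left
    obtain ⟨o, hoO, ho, ho1, hot⟩ := hinv
    intro x hx
    by_cases hfx : f x = 1
    · rcases hker' x hfx with rfl | rfl <;> simp [ht2]
    haveI : Fact (Nat.Prime 3) := ⟨Nat.prime_three⟩
    obtain ⟨y, hy3⟩ := exists_prime_orderOf_dvd_card' (G := K) 3 (by rw [hK]; norm_num)
    have hy' : y * y * y = 1 := by rw [← pow_three', ← hy3, pow_orderOf_eq_one]
    obtain ⟨k, hk⟩ := V_transitive (f y) ⟨by rw [← map_mul, ← map_mul, hy', map_one],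
      fun h => by
        rcases hker' y h with rfl | rfl
        · rw [orderOf_one] at hy3; norm_num at hy3
        · omega⟩
      (f o) ⟨hoO, fun h => by rcases hker' o h with h | h <;> contradiction⟩ (f x) ⟨hx, hfx⟩
    set c := y ^ (k : ℕ) * o * (y ^ (k : ℕ))⁻¹ with hc
    have hcc : c * c = 1 := by
      rw [hc, conj_mul, ho]; group
    have h1 : f (c⁻¹ * x) = 1 := by
      rw [map_mul, map_inv, hc, map_mul, map_mul, map_inv, map_pow, hk, inv_mul_cancel]
    rcases hker' _ h1 with h | h <;> rw [inv_mul_eq_iff_eq_mul] at h <;> rw [h]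
    · rw [mul_one, hcc]
    · rw [mul_assoc, ← mul_assoc t c t, (htc c).eq, mul_assoc c t t, ht2, mul_one, hcc]
  · right
    push Not at hinv
    have huniq : ∀ x ∈ O, x * x = 1 → x = 1 ∨ x = t := fun x hx h => by
      by_cases h1 : x = 1
      · exact Or.inl h1
      · exact Or.inr (hinv x hx h h1)
    have hsq : ∀ x ∈ O, f x ≠ 1 → x * x = t := by
      intro x hx hfx
      rcases hker' (x * x) (by rw [map_mul]; exact ((hmemO x).1 hx).1) with h | h
      · rcases huniq x hx h with h' | h'
        · exact absurd (by rw [h', map_one]) hfx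
        · exact absurd (by rw [h', hft]) hfx
      · exact h
    have hnc : ∀ a ∈ O, ∀ b ∈ O, f a ≠ 1 → f b ≠ 1 → f a ≠ f b → ¬ Commute a b := by
      intro a ha b hb hfa hfb hab hc
      have h1 : a * b * (a * b) = 1 := by
        rw [mul_assoc, ← mul_assoc b a b, hc.symm.eq, mul_assoc a b b, hsq b hb hfb, ← mul_assoc,
          hsq a ha hfa, ht2]
      have h2 : f a * f b = 1 := by
        rcases huniq _ (mul_mem ha hb) h1 with h | h <;> rw [← map_mul, h]
        · rw [map_one]
        · exact hft
      exact hab ((eq_inv_of_mul_eq_one_left h2).trans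
        (inv_eq_of_mul_eq_one_right ((hmemO b).1 hb).1))
    obtain ⟨va, vb, hva, hvb, hva1, hvb1, hne⟩ : ∃ va vb : Equiv.Perm (Fin 4),
        InV va ∧ InV vb ∧ va ≠ 1 ∧ vb ≠ 1 ∧ va ≠ vb := by decide +kernel
    obtain ⟨a, rfl⟩ := hf va
    obtain ⟨b, rfl⟩ := hf vb
    refine ⟨huniq, ?_, fun x hx hxc => ?_⟩
    · have hab : ¬ Commute a b := hnc a hva b hvb hva1 hvb1 hne
      have haa := hsq a hva hva1
      have hbb := hsq b hvb hvb1
      have hconj : b * a * b⁻¹ = a⁻¹ := by
        have h1 : f (a * (b * a * b⁻¹)) = 1 := by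
          rw [map_mul, map_mul, map_mul, map_inv]
          have hcomm : ∀ u w, InV u → InV w → u * w = w * u := by decide +kernel
          rw [hcomm _ _ hvb hva, mul_inv_cancel_right, hva.1]
        rcases hker' _ h1 with h | h
        · exact eq_inv_of_mul_eq_one_right h
        · exfalso
          rw [← haa, mul_right_inj, mul_inv_eq_iff_eq_mul] at h
          exact hab h.symm
      have h4 : a ^ 4 = 1 := by
        rw [show (4 : ℕ) = 2 * 2 from rfl, pow_mul, pow_two a, haa, pow_two, ht2]
      let q := H25.quaternionHom a b h4 (by rw [pow_two, pow_two, hbb, haa]) hconj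
      have hq1 : q (QuaternionGroup.a 1) = a := by
        show a ^ (1 : ZMod (2 * 2)).val = a
        exact pow_one a
      have hq2 : q (QuaternionGroup.a 2) = t := by
        rw [show (QuaternionGroup.a 2 : QuaternionGroup 2) =
          QuaternionGroup.a 1 * QuaternionGroup.a 1 by decide +kernel, map_mul, hq1, haa]
      have hq3 : q (QuaternionGroup.xa 0) = b := by
        show b * a ^ (0 : ZMod (2 * 2)).val = b
        rw [ZMod.val_zero, pow_zero, mul_one]
      have hinj : Function.Injective q := (injective_iff_map_eq_one q).2 fun x hx => by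
        by_contra hne
        rcases quat_cases x hne with h | h
        · rw [h, hq2] at hx; exact ht1 hx
        · have := congrArg q h
          rw [map_mul, hx, one_mul, hq2] at this
          exact ht1 this.symm
      have hrange : q.range ≤ O := by
        rintro _ ⟨x, rfl⟩
        cases x with
        | a i => exact pow_mem hva _
        | xa i => exact mul_mem hvb (pow_mem hva _)
      exact ⟨(MulEquiv.subgroupCongr (eq_of_le_of_card_ge hrange (le_of_eq (by
        rw [← Nat.card_congr (MonoidHom.ofInjective hinj).toEquiv, hcard, Nat.card_eq_fintype_card,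
          QuaternionGroup.card])))).symm.trans (MonoidHom.ofInjective hinj).symm⟩
    · by_contra hx'
      have hfx : f x ≠ 1 := fun h => hx' (hker' x h)
      by_cases hxa : f x = f a
      · exact hnc x hx b hvb hfx hvb1 (hxa ▸ hne) (hxc b hvb)
      · exact hnc x hx a hva hfx hva1 hxa (hxc a hva)

end Cfsg.Agent.H79.DegGraphSmall.FortyEight
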