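import Cfsg.Agent.H79.DegGraphSmall.DegreeFacts
import Cfsg.Agent.Linear.Simple
import Cfsg.Agent.Linear.Order
import Cfsg.Agent.S4774
import Cfsg.Agent.S4812
import Cfsg.Agent.S0494
import Cfsg.Agent.S0495
import Cfsg.Agent.S0497
import Cfsg.Agent.S0498
import Cfsg.Agent.S0981
import Cfsg.Agent.S0984
import Cfsg.Agent.S1011
import Cfsg.Agent.S1020
import Cfsg.Agent.S1021

/-!
# What the degree graphs of the small simple groups contain
-/

set_option autoImplicit false
set_option linter.unusedSectionVars false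
set_option linter.style.haveILetI false

open Cfsg

namespace Cfsg.Agent.H79.DegGraphSmall

universe u v

variable {S : Type u} [Group S] [Finite S] [IsSimpleGroup S]

theorem facts_odd {F : Type} [Field F] [Fintype F] {t q : ℕ} [Fact t.Prime] [CharP F t]
    (ht : t ≠ 2) (hq : Fintype.card F = q) (h5 : 5 < q)
    (e : Nonempty (S ≃* Matrix.ProjectiveSpecialLinearGroup (Fin 2) F)) :
    (∀ r : ℕ, r.Prime → r ∣ q * (q ^ 2 - 1) → r ∈ degreePrimes S) ∧
      ∀ r s : ℕ, (degreeGraph S).Adj r s ↔ (r ≠ s ∧ r.Prime ∧ s.Prime ∧ r ∣ q ^ 2 - 1 ∧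
        s ∣ q ^ 2 - 1 ∧ (r = 2 ∨ s = 2 ∨ (r ∣ q + 1 ∧ s ∣ q + 1) ∨ (r ∣ q - 1 ∧ s ∣ q - 1))) := by
  obtain ⟨h1, h2⟩ := Cfsg.Agent.S4774.result F t ht q hq h5 (Or.inl e)
  exact ⟨fun r hr hd => h1 ▸ ⟨hr, hd⟩, h2⟩

theorem facts_even {F : Type} [Field F] [Fintype F] {q : ℕ} [CharP F 2]
    (hq : Fintype.card F = q) (h4 : 4 ≤ q)
    (e : Nonempty (S ≃* Matrix.ProjectiveSpecialLinearGroup (Fin 2) F)) :
    (∀ r : ℕ, r.Prime → r ∣ q * (q ^ 2 - 1) → r ∈ degreePrimes S) ∧
      ∀ r s : ℕ, (degreeGraph S).Adj r s ↔ (r ≠ s ∧ r.Prime ∧ s.Prime ∧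
        ((r ∣ q + 1 ∧ s ∣ q + 1) ∨ (r ∣ q - 1 ∧ s ∣ q - 1))) := by
  obtain ⟨h1, h2⟩ := Cfsg.Agent.S4812.result F q hq h4 (Or.inl e)
  exact ⟨fun r hr hd => h1 ▸ ⟨hr, hd⟩, h2⟩

theorem facts_168 (h : Nat.card S = 168) :
    2 ∈ degreePrimes S ∧ 7 ∈ degreePrimes S := by
  haveI : Fact (Nat.Prime 7) := ⟨by norm_num⟩
  obtain ⟨h1, -⟩ := facts_odd (t := 7) (by norm_num) (ZMod.card 7) (by norm_num)
    (Cfsg.Agent.S0495.result h (ZMod.card 7))
  exact ⟨h1 2 Nat.prime_two (by norm_num), h1 7 (by norm_num) (by norm_num)⟩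

theorem adj_168 (h : Nat.card S = 168) : (degreeGraph S).Adj 2 3 := by
  haveI : Fact (Nat.Prime 7) := ⟨by norm_num⟩
  obtain ⟨-, h2⟩ := facts_odd (t := 7) (by norm_num) (ZMod.card 7) (by norm_num)
    (Cfsg.Agent.S0495.result h (ZMod.card 7))
  exact (h2 2 3).2 ⟨by norm_num, Nat.prime_two, Nat.prime_three, by norm_num, by norm_num,
    Or.inl rfl⟩

theorem facts_504 (h : Nat.card S = 504) :
    2 ∈ degreePrimes S ∧ 7 ∈ degreePrimes S ∧ ¬ (degreeGraph S).Adj 2 3 := by
  haveI : Fintype (GaloisField 2 3) := Fintype.ofFinite _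
  have hF : Fintype.card (GaloisField 2 3) = 8 := by
    rw [← Nat.card_eq_fintype_card, GaloisField.card 2 3 (by norm_num)]; norm_num
  obtain ⟨h1, h2⟩ := facts_even hF (by norm_num) (Cfsg.Agent.S1011.result h hF)
  refine ⟨h1 2 Nat.prime_two (by norm_num), h1 7 (by norm_num) (by norm_num), fun ha => ?_⟩
  have := ((h2 2 3).1 ha).2.2.2
  norm_num at this

theorem facts_360 (h : Nat.card S = 360) :
    5 ∈ degreePrimes S ∧ (degreeGraph S).Adj 2 5 ∧ ¬ (degreeGraph S).Adj 2 3 := by
  haveI : Fact (Nat.Prime 3) := ⟨Nat.prime_three⟩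
  haveI : Fintype (GaloisField 3 2) := Fintype.ofFinite _
  set F := GaloisField 3 2
  have hF : Fintype.card F = 9 := by
    rw [← Nat.card_eq_fintype_card, GaloisField.card 3 2 (by norm_num)]; norm_num
  have hc := Cfsg.Agent.Linear.card_PSL_two_mul (F := F)
  rw [hF] at hc
  norm_num at hc
  haveI : IsSimpleGroup (Matrix.ProjectiveSpecialLinearGroup (Fin 2) F) :=
    Cfsg.Agent.Linear.isSimpleGroup_PSL_fin le_rfl
      (fun _ => by rw [Nat.card_eq_fintype_card, hF]; norm_num)
  obtain ⟨e1⟩ := Cfsg.Agent.S0497.result h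
  obtain ⟨e2⟩ := Cfsg.Agent.S0497.result
    (G := Matrix.ProjectiveSpecialLinearGroup (Fin 2) F) (by omega)
  obtain ⟨h1, h2⟩ := facts_odd (t := 3) (by norm_num) hF (by norm_num) ⟨e1.trans e2.symm⟩
  refine ⟨h1 5 (by norm_num) (by norm_num), ?_, fun ha => ?_⟩
  · exact (h2 2 5).2 ⟨by norm_num, Nat.prime_two, by norm_num, by norm_num, by norm_num,
      Or.inl rfl⟩
  · have := ((h2 2 3).1 ha).2.2.2.2.1
    norm_num at this

theorem facts_prime_psl {p : ℕ} [Fact p.Prime] (hp : p = 11 ∨ p = 13)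
    (h : 2 * Nat.card S = p * (p ^ 2 - 1)) : p ∈ degreePrimes S := by
  have hp2 : p ≠ 2 ∧ 5 < p := by omega
  obtain ⟨h1, -⟩ := facts_odd (t := p) hp2.1 (ZMod.card p) hp2.2
    (Cfsg.Agent.S0498.result p hp h (ZMod.card p))
  exact h1 p Fact.out (dvd_mul_right _ _)

theorem facts_2448 (h : Nat.card S = 2448) : 17 ∈ degreePrimes S := by
  haveI : Fact (Nat.Prime 17) := ⟨by norm_num⟩
  obtain ⟨h1, -⟩ := facts_odd (t := 17) (by norm_num) (ZMod.card 17) (by norm_num)
    (Cfsg.Agent.S1020.result h (ZMod.card 17))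
  exact h1 17 (by norm_num) (by norm_num)

theorem facts_3420 (h : Nat.card S = 3420) : 19 ∈ degreePrimes S := by
  haveI : Fact (Nat.Prime 19) := ⟨by norm_num⟩
  obtain ⟨h1, -⟩ := facts_odd (t := 19) (by norm_num) (ZMod.card 19) (by norm_num)
    (Cfsg.Agent.S1021.result h (ZMod.card 19))
  exact h1 19 (by norm_num) (by norm_num)

theorem facts_4080 (h : Nat.card S = 4080) : 17 ∈ degreePrimes S := by
  haveI : Fintype (GaloisField 2 4) := Fintype.ofFinite _
  have hF : Fintype.card (GaloisField 2 4) = 16 := by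
    rw [← Nat.card_eq_fintype_card, GaloisField.card 2 4 (by norm_num)]; norm_num
  obtain ⟨h1, -⟩ := facts_even hF (by norm_num) (Cfsg.Agent.S0981.result h hF)
  exact h1 17 (by norm_num) (by norm_num)

/-- Representatives of the eight cycle types in the alternating group of degree seven. -/
def altSevenReps : Fin 8 → Equiv.Perm (Fin 7) :=
  ![1, Equiv.swap 0 1 * Equiv.swap 2 3, Equiv.swap 0 1 * Equiv.swap 1 2,
    Equiv.swap 0 1 * Equiv.swap 1 2 * (Equiv.swap 3 4 * Equiv.swap 4 5),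
    Equiv.swap 0 1 * Equiv.swap 1 2 * Equiv.swap 2 3 * Equiv.swap 4 5,
    Equiv.swap 0 1 * Equiv.swap 1 2 * (Equiv.swap 3 4 * Equiv.swap 5 6),
    Equiv.swap 0 1 * Equiv.swap 1 2 * Equiv.swap 2 3 * Equiv.swap 3 4,
    Equiv.swap 0 1 * Equiv.swap 1 2 * Equiv.swap 2 3 * Equiv.swap 3 4 *
      Equiv.swap 4 5 * Equiv.swap 5 6]

theorem facts_2520 (h : Nat.card S = 2520) : 5 ∈ degreePrimes S ∧ 7 ∈ degreePrimes S := by
  classical
  obtain ⟨e⟩ := Cfsg.Agent.S0984.result h
  rw [(graph_congr e).1]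
  have hmem : ∀ i, altSevenReps i ∈ alternatingGroup (Fin 7) := fun i =>
    Equiv.Perm.mem_alternatingGroup.2 (by revert i; decide)
  let f : Fin 8 → alternatingGroup (Fin 7) := fun i => ⟨altSevenReps i, hmem i⟩
  have hinj : Function.Injective fun i => (altSevenReps i).cycleType := by decide
  have hf : ∀ i j, IsConj (f i) (f j) → i = j := fun i j hij =>
    hinj (Equiv.Perm.isConj_iff_cycleType_eq.1 ((alternatingGroup (Fin 7)).subtype.map_isConj hij))
  have hcen : ∀ (i : Fin 8) (p : ℕ) [Fact p.Prime], (altSevenReps i).cycleType = {p} →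
      orderOf (f i) = p ∧ Nat.card (Subgroup.centralizer ({f i} : Set (alternatingGroup (Fin 7)))) ∣
        (7 - p).factorial * p := by
    intro i p _ hc
    refine ⟨by rw [← Subgroup.orderOf_coe, ← Equiv.Perm.lcm_cycleType]; simp [f, hc], ?_⟩
    have hle : (Subgroup.centralizer ({f i} : Set (alternatingGroup (Fin 7)))).map
        (alternatingGroup (Fin 7)).subtype ≤ Subgroup.centralizer ({altSevenReps i} : Set _) := by
      rintro _ ⟨g, hg, rfl⟩
      rw [Subgroup.mem_centralizer_singleton_iff]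
      exact congrArg Subtype.val (Subgroup.mem_centralizer_singleton_iff.1 hg)
    have h1 := Subgroup.card_dvd_of_le hle
    rw [Subgroup.card_map_of_injective (Subgroup.subtype_injective _),
      Equiv.Perm.nat_card_centralizer, hc] at h1
    simpa using h1
  constructor
  · haveI : Fact (Nat.Prime 5) := ⟨by norm_num⟩
    obtain ⟨ho, hd⟩ := hcen 6 5 (by decide)
    refine vertex_of_classes f hf ho ?_
    set C := Subgroup.centralizer ({f 6} : Set (alternatingGroup (Fin 7)))
    -- an odd permutation centralises the five cycle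
    have hlt : Nat.card C < 10 := by
      rcases (Nat.le_of_dvd (by decide) hd).lt_or_eq with hlt | heq
      · simpa [Nat.factorial] using hlt
      exfalso
      have hmap : (C.map (alternatingGroup (Fin 7)).subtype) =
          Subgroup.centralizer ({altSevenReps 6} : Set _) := by
        refine Subgroup.eq_of_le_of_card_ge ?_ ?_
        · rintro _ ⟨g, hg, rfl⟩
          rw [Subgroup.mem_centralizer_singleton_iff]
          exact congrArg Subtype.val (Subgroup.mem_centralizer_singleton_iff.1 hg)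
        · rw [Subgroup.card_map_of_injective (Subgroup.subtype_injective _), heq,
            Equiv.Perm.nat_card_centralizer, show (altSevenReps 6).cycleType = {5} by decide]
          simp
      have hs : Equiv.swap (5 : Fin 7) 6 ∈ C.map (alternatingGroup (Fin 7)).subtype := by
        rw [hmap, Subgroup.mem_centralizer_singleton_iff]
        decide
      obtain ⟨g, -, hg⟩ := hs
      have h1 : Equiv.Perm.sign (g : Equiv.Perm (Fin 7)) = 1 :=
        Equiv.Perm.mem_alternatingGroup.1 g.2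
      rw [show (g : Equiv.Perm (Fin 7)) = Equiv.swap 5 6 from hg,
        Equiv.Perm.sign_swap (by decide)] at h1
      exact absurd h1 (by decide)
    have h5 : 5 ∣ Nat.card C := by
      rw [← ho]
      exact Subgroup.orderOf_dvd_natCard C (Subgroup.mem_centralizer_singleton_iff.2 rfl)
    rw [Fintype.card_fin]
    omega
  · haveI : Fact (Nat.Prime 7) := ⟨by norm_num⟩
    obtain ⟨ho, hd⟩ := hcen 7 7 (by decide)
    refine vertex_of_classes f hf ho ?_
    rw [Fintype.card_fin]
    have := Nat.le_of_dvd (by norm_num) hd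
    norm_num [Nat.factorial, -Nat.card_eq_fintype_card] at this
    omega

end Cfsg.Agent.H79.DegGraphSmall
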