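import Cfsg.Agent.H79.DegGraphSmall.AlmostSimple
import Cfsg.Agent.H79.DegGraphSmall.SimpleFacts
import Cfsg.Agent.H84.TwoDegreesPrime
import Cfsg.Agent.S0188

/-!
# A group with the order and degree graph of a small simple group is simple
-/

set_option autoImplicit false
set_option linter.unusedSectionVars false
set_option linter.style.haveILetI false

open Subgroup Cfsg

namespace Cfsg.Agent.H79.DegGraphSmall

universe u

variable {G : Type u} [Group G] [Finite G]

theorem sylow_number {p m : ℕ} [hp : Fact p.Prime] (hn : Nat.card G = p * m) (hpm : ¬ p ∣ m)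
    (hv : p ∈ degreePrimes G) :
    Nat.card (Sylow p G) ∈ m.divisors.filter fun d => d % p = 1 ∧ d ≠ 1 := by
  obtain ⟨hd, hmod⟩ := H36.card_sylow_dvd (p := p) hn (a := 1) (m := m) (by rw [pow_one]) hpm
  refine Finset.mem_filter.2 ⟨Nat.mem_divisors.2 ⟨hd, fun h => hpm (h ▸ dvd_zero p)⟩, hmod, ?_⟩
  intro h1
  refine not_vertex_of_sylow_unique (hn ▸ dvd_mul_right p m) ?_ h1 hv
  rw [hn, pow_two]
  exact fun h => hpm (Nat.dvd_of_mul_dvd_mul_left hp.out.pos h)

theorem simple_of_bad {p m : ℕ} [hp : Fact p.Prime] (hn : Nat.card G = p * m) (hpm : ¬ p ∣ m)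
    (hlt : p * m < 6000) (hbad : ¬ Good p (Nat.card (Sylow p G)))
    (hlist : ∀ k ∈ ({60, 168, 360, 504, 660, 1092, 2448, 2520, 3420, 4080, 5616} : Finset ℕ),
      k < p * m → k ∣ p * m → ¬ p ∣ k) : IsSimpleGroup G := by
  obtain ⟨-, h | ⟨k, hk, hkl, hkd, hkp⟩⟩ := exists_factor_of_not_good G (by omega)
    (hn ▸ dvd_mul_right p m) (by
      rw [hn, pow_two]; exact fun h => hpm (Nat.dvd_of_mul_dvd_mul_left hp.out.pos h)) hbad
  · exact h
  · rw [hn] at hkl hkd
    exact absurd hkp (hlist k hk hkl hkd)

theorem not_solvable_of_bad {p m : ℕ} [hp : Fact p.Prime] (hn : Nat.card G = p * m)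
    (hpm : ¬ p ∣ m) (hlt : p * m < 6000) (hbad : ¬ Good p (Nat.card (Sylow p G))) :
    ¬ Group.IsSolvable G :=
  (exists_factor_of_not_good G (by omega) (hn ▸ dvd_mul_right p m) (by
    rw [hn, pow_two]; exact fun h => hpm (Nat.dvd_of_mul_dvd_mul_left hp.out.pos h)) hbad).1

theorem simple_660 (hn : Nat.card G = 660) (hv : 11 ∈ degreePrimes G) : IsSimpleGroup G := by
  haveI : Fact (Nat.Prime 11) := ⟨by norm_num⟩
  have h := sylow_number (p := 11) (m := 60) hn (by norm_num) hv
  rw [show (Nat.divisors 60).filter (fun d => d % 11 = 1 ∧ d ≠ 1) = {12} by decide +kernel,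
    Finset.mem_singleton] at h
  exact simple_of_bad (p := 11) (m := 60) hn (by norm_num) (by norm_num)
    (h ▸ not_good_of_part 2 2 3 Nat.prime_two rfl (by norm_num) (by norm_num)) (by decide +kernel)

theorem simple_1092 (hn : Nat.card G = 1092) (hv : 13 ∈ degreePrimes G) : IsSimpleGroup G := by
  haveI : Fact (Nat.Prime 13) := ⟨by norm_num⟩
  have h := sylow_number (p := 13) (m := 84) hn (by norm_num) hv
  rw [show (Nat.divisors 84).filter (fun d => d % 13 = 1 ∧ d ≠ 1) = {14} by decide +kernel,
    Finset.mem_singleton] at h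
  exact simple_of_bad (p := 13) (m := 84) hn (by norm_num) (by norm_num)
    (h ▸ not_good_of_part 2 1 7 Nat.prime_two rfl (by norm_num) (by norm_num)) (by decide +kernel)

theorem simple_2448 (hn : Nat.card G = 2448) (hv : 17 ∈ degreePrimes G) : IsSimpleGroup G := by
  haveI : Fact (Nat.Prime 17) := ⟨by norm_num⟩
  have h := sylow_number (p := 17) (m := 144) hn (by norm_num) hv
  rw [show (Nat.divisors 144).filter (fun d => d % 17 = 1 ∧ d ≠ 1) = {18} by decide +kernel,
    Finset.mem_singleton] at h
  exact simple_of_bad (p := 17) (m := 144) hn (by norm_num) (by norm_num)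
    (h ▸ not_good_of_part 2 1 9 Nat.prime_two rfl (by norm_num) (by norm_num)) (by decide +kernel)

theorem simple_3420 (hn : Nat.card G = 3420) (hv : 19 ∈ degreePrimes G) : IsSimpleGroup G := by
  haveI : Fact (Nat.Prime 19) := ⟨by norm_num⟩
  have h := sylow_number (p := 19) (m := 180) hn (by norm_num) hv
  rw [show (Nat.divisors 180).filter (fun d => d % 19 = 1 ∧ d ≠ 1) = {20} by decide +kernel,
    Finset.mem_singleton] at h
  exact simple_of_bad (p := 19) (m := 180) hn (by norm_num) (by norm_num)
    (h ▸ not_good_of_part 2 2 5 Nat.prime_two rfl (by norm_num) (by norm_num)) (by decide +kernel)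

theorem simple_4080 (hn : Nat.card G = 4080) (hv : 17 ∈ degreePrimes G) : IsSimpleGroup G := by
  haveI : Fact (Nat.Prime 17) := ⟨by norm_num⟩
  have h := sylow_number (p := 17) (m := 240) hn (by norm_num) hv
  rw [show (Nat.divisors 240).filter (fun d => d % 17 = 1 ∧ d ≠ 1) = {120} by decide +kernel,
    Finset.mem_singleton] at h
  exact simple_of_bad (p := 17) (m := 240) hn (by norm_num) (by norm_num)
    (h ▸ not_good_of_part 2 3 15 Nat.prime_two rfl (by norm_num) (by norm_num)) (by decide +kernel)

theorem simple_5616 (hn : Nat.card G = 5616) (hv : 13 ∈ degreePrimes G)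
    (hv3 : 3 ∈ degreePrimes G) : IsSimpleGroup G := by
  haveI : Fact (Nat.Prime 13) := ⟨by norm_num⟩
  have h := sylow_number (p := 13) (m := 432) hn (by norm_num) hv
  rw [show (Nat.divisors 432).filter (fun d => d % 13 = 1 ∧ d ≠ 1) = {27, 144} by decide +kernel,
    Finset.mem_insert, Finset.mem_singleton] at h
  rcases h with h | h
  · by_cases hs : Group.IsSolvable G
    · exfalso
      obtain ⟨V, hV, hab, hVc⟩ := exists_abelian_of_solvable (p := 13) (q := 3) (v := 3)
        Nat.prime_three (by norm_num) (fun j h0 h3 => by interval_cases j <;> norm_num) G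
        (by rw [hn]; norm_num) (by rw [hn]; norm_num) (by rw [hn]; norm_num) (by rw [h]; norm_num)
      haveI := hV
      refine not_vertex_of_abelian_normal V hab ?_ hv3
      rw [H36.index_eq_of_card hn hVc]
      norm_num
    · rcases exists_simple_dvd G hs (by omega) with h' | ⟨k, hk, hkl, hkd⟩
      · exact h'
      · rw [hn] at hkl hkd
        exact absurd hkd ((by decide +kernel : ∀ k ∈ ({60, 168, 360, 504, 660, 1092, 2448, 2520,
          3420, 4080, 5616} : Finset ℕ), k < 5616 → ¬ k ∣ 5616) k hk hkl)
  · exact simple_of_bad (p := 13) (m := 432) hn (by norm_num) (by norm_num)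
      (h ▸ not_good_of_part 2 4 9 Nat.prime_two rfl (by norm_num) (by norm_num)) (by decide +kernel)

theorem simple_168 (hn : Nat.card G = 168) (hv : 7 ∈ degreePrimes G)
    (hv2 : 2 ∈ degreePrimes G) : IsSimpleGroup G := by
  haveI : Fact (Nat.Prime 7) := ⟨by norm_num⟩
  have h := sylow_number (p := 7) (m := 24) hn (by norm_num) hv
  rw [show (Nat.divisors 24).filter (fun d => d % 7 = 1 ∧ d ≠ 1) = {8} by decide +kernel,
    Finset.mem_singleton] at h
  by_cases hs : Group.IsSolvable G
  · exfalso
    obtain ⟨V, hV, hab, hVc⟩ := exists_abelian_of_solvable (p := 7) (q := 2) (v := 3)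
      Nat.prime_two (by norm_num) (fun j h0 h3 => by interval_cases j <;> norm_num) G
      (by rw [hn]; norm_num) (by rw [hn]; norm_num) (by rw [hn]; norm_num) (by rw [h]; norm_num)
    haveI := hV
    refine not_vertex_of_abelian_normal V hab ?_ hv2
    rw [H36.index_eq_of_card hn hVc]
    norm_num
  · rcases exists_simple_dvd G hs (by omega) with h' | ⟨k, hk, hkl, hkd⟩
    · exact h'
    · rw [hn] at hkl hkd
      exact absurd hkd ((by decide +kernel : ∀ k ∈ ({60, 168, 360, 504, 660, 1092, 2448, 2520,
        3420, 4080, 5616} : Finset ℕ), k < 168 → ¬ k ∣ 168) k hk hkl)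

theorem adj_of_quotient {Q : Type*} [Group Q] (f : G →* Q) (hf : Function.Surjective f) {r s : ℕ}
    (h : (degreeGraph Q).Adj r s) : (degreeGraph G).Adj r s := by
  obtain ⟨h1, h2, h3, d, hd, hdvd⟩ := h
  exact ⟨h1, h2, h3, d, Linear.SLDegrees.charDegrees_subset_of_surjective f hf hd, hdvd⟩

theorem simple_504 (hn : Nat.card G = 504) (hv : 7 ∈ degreePrimes G)
    (hv2 : 2 ∈ degreePrimes G) (h23 : ¬ (degreeGraph G).Adj 2 3) : IsSimpleGroup G := by
  classical
  haveI : Fact (Nat.Prime 7) := ⟨by norm_num⟩
  have h := sylow_number (p := 7) (m := 72) hn (by norm_num) hv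
  rw [show (Nat.divisors 72).filter (fun d => d % 7 = 1 ∧ d ≠ 1) = {8, 36} by decide +kernel,
    Finset.mem_insert, Finset.mem_singleton] at h
  have hns : ¬ Group.IsSolvable G := by
    intro hs
    rcases h with h | h
    · obtain ⟨V, hV, hab, hVc⟩ := exists_abelian_of_solvable (p := 7) (q := 2) (v := 3)
        Nat.prime_two (by norm_num) (fun j h0 h3 => by interval_cases j <;> norm_num) G
        (by rw [hn]; norm_num) (by rw [hn]; norm_num) (by rw [hn]; norm_num) (by rw [h]; norm_num)
      haveI := hV
      refine not_vertex_of_abelian_normal V hab ?_ hv2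
      rw [H36.index_eq_of_card hn hVc]
      norm_num
    · exact not_solvable_of_bad (p := 7) (m := 72) hn (by norm_num) (by norm_num)
        (h ▸ not_good_of_part 2 2 9 Nat.prime_two rfl (by norm_num) (by norm_num)) hs
  obtain ⟨C, _, H, hH, hHs, hHna, hcen⟩ := exists_almost_simple hns (by omega)
  obtain ⟨hmem, hd, hdG⟩ := card_simple_section (by omega) C H hHna
  have hd' := hd.trans hdG
  rw [hn] at hd' hdG
  rcases (by decide +kernel : ∀ k ∈ ({60, 168, 360, 504, 660, 1092, 2448, 2520,
      3420, 4080, 5616} : Finset ℕ), k ∣ 504 → k = 168 ∨ k = 504) _ hmem hd' with h168 | h504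
  swap
  · exact simple_of_full C H (h504.trans hn.symm)
  exfalso
  haveI := hH
  have hn8 : Nat.card (Sylow 7 H) = 8 := by
    obtain ⟨hd8, hm⟩ := H36.card_sylow_dvd (p := 7) h168 (a := 1) (m := 24) rfl (by norm_num)
    have hne : Nat.card (Sylow 7 H) ≠ 1 := H36.card_sylow_ne_one (by rw [h168]; norm_num)
      (fun k hk => by
        have h2 : 2 ∣ 7 ^ k := ⟨84, by rw [← hk, h168]⟩
        exact absurd (Nat.prime_two.dvd_of_dvd_pow h2) (by norm_num))
    have := Nat.le_of_dvd (by norm_num) hd8
    interval_cases hs : Nat.card (Sylow 7 H) <;>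
      first | rfl | omega | (norm_num at hd8) | (exact absurd rfl hne)
  -- the quotient is the simple group of order 168
  have hQ : Nat.card H = Nat.card (G ⧸ C) := by
    obtain ⟨k, hk⟩ := hd
    rw [h168] at hk
    rcases (Nat.dvd_prime Nat.prime_three).1
      (show k ∣ 3 from Nat.dvd_of_mul_dvd_mul_left (show 0 < 168 by norm_num)
        (by rw [← hk]; exact hdG)) with rfl | rfl
    · omega
    · exfalso
      -- the action on the eight Sylow seven subgroups
      rcases card_sylow_of_normal (p := 7) (G := G ⧸ C) (by rw [hk]; norm_num)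
        (by rw [hk]; norm_num) H with ⟨-, h8⟩ | ⟨h8, -⟩
      · rw [hn8] at h8
        obtain ⟨P⟩ := Sylow.nonempty (p := 7) (G := G ⧸ C)
        have hP : Nat.card (P : Subgroup (G ⧸ C)) = 7 := by
          simpa using H36.card_sylow_eq hk P (a := 1) (m := 72) rfl (by norm_num)
        have hN : Nat.card (normalizer ((P : Subgroup (G ⧸ C)) : Set (G ⧸ C))) = 63 := by
          have h' : Nat.card (Sylow 7 (G ⧸ C)) =
              (normalizer ((P : Subgroup (G ⧸ C)) : Set (G ⧸ C))).index :=
            P.card_eq_index_normalizer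
          have h2 := (normalizer ((P : Subgroup (G ⧸ C)) : Set (G ⧸ C))).card_mul_index
          rw [← h', h8, hk] at h2
          omega
        haveI := Fintype.ofFinite (G ⧸ C)
        have hr := H86.Abelian.relIndex_dvd P hP
        have hCN := Subgroup.relIndex_mul_relIndex ⊥
          (centralizer ((P : Subgroup (G ⧸ C)) : Set (G ⧸ C)))
          (normalizer ((P : Subgroup (G ⧸ C)) : Set (G ⧸ C))) bot_le (centralizer_le_normalizer _)
        rw [relIndex_bot_left, relIndex_bot_left, hN] at hCN
        have h3dvd : 3 ∣ Nat.card (centralizer ((P : Subgroup (G ⧸ C)) : Set (G ⧸ C))) := by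
          set c := Nat.card (centralizer ((P : Subgroup (G ⧸ C)) : Set (G ⧸ C)))
          set r := (centralizer ((P : Subgroup (G ⧸ C)) : Set (G ⧸ C))).relIndex
            (normalizer ((P : Subgroup (G ⧸ C)) : Set (G ⧸ C)))
          have hr6 : r ≤ 6 := Nat.le_of_dvd (by norm_num) hr
          interval_cases r <;> omega
        -- an element of order three commuting with one of order seven
        haveI : Fact (Nat.Prime 3) := ⟨Nat.prime_three⟩
        obtain ⟨y, hy⟩ := exists_prime_orderOf_dvd_card' 3 h3dvd
        haveI : IsCyclic (P : Subgroup (G ⧸ C)) := isCyclic_of_prime_card hP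
        obtain ⟨g, hg⟩ := IsCyclic.exists_generator (α := (P : Subgroup (G ⧸ C)))
        have hord : orderOf (g : G ⧸ C) = 7 := by
          rw [orderOf_coe, orderOf_eq_card_of_forall_mem_zpowers hg, hP]
        set f := MulAction.toPermHom (G ⧸ C) (Sylow 7 (G ⧸ C)) with hf
        have hinj : Function.Injective f := by
          rw [← MonoidHom.ker_eq_bot_iff]
          have hdis : f.ker ⊓ H = ⊥ := by
            rcases (IsSimpleGroup.eq_bot_or_eq_top_of_normal ((f.ker ⊓ H).subgroupOf H)
              inferInstance) with h | h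
            · rwa [subgroupOf_eq_bot, disjoint_iff, inf_assoc, inf_idem] at h
            · exfalso
              rw [subgroupOf_eq_top] at h
              have hle : H ≤ normalizer ((P : Subgroup (G ⧸ C)) : Set (G ⧸ C)) := fun y hy => by
                have h1 : y • P = P := Equiv.congr_fun (MonoidHom.mem_ker.1 (h hy).1) P
                exact Sylow.smul_eq_iff_mem_normalizer.1 h1
              have h2 := Nat.le_of_dvd Nat.card_pos (card_dvd_of_le hle)
              omega
          have hcomm : f.ker ≤ centralizer (H : Set (G ⧸ C)) := fun y hy z hz =>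
            (Subgroup.commute_of_normal_of_disjoint f.ker H inferInstance inferInstance
              (disjoint_iff.2 hdis) y z hy hz).eq.symm
          exact le_bot_iff.1 (hcen ▸ hcomm)
        haveI := Fintype.ofFinite (Sylow 7 (G ⧸ C))
        have hof : orderOf (f (g : G ⧸ C)) = 7 := by rw [orderOf_injective f hinj, hord]
        obtain ⟨n, hcyc⟩ := Equiv.Perm.cycleType_prime_order (σ := f (g : G ⧸ C))
          (by rw [hof]; norm_num)
        rw [hof] at hcyc
        have hsum := Equiv.Perm.sum_cycleType_le (f (g : G ⧸ C))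
        rw [hcyc, Multiset.sum_replicate, smul_eq_mul, ← Nat.card_eq_fintype_card, h8] at hsum
        obtain rfl : n = 0 := by omega
        have hmem' : f (y : G ⧸ C) ∈ centralizer ({f (g : G ⧸ C)} : Set _) := by
          rw [mem_centralizer_singleton_iff, ← map_mul, ← map_mul,
            (mem_centralizer_iff.1 y.2 _ g.2)]
        have h1 := Subgroup.orderOf_dvd_natCard _ hmem'
        rw [orderOf_injective f hinj, orderOf_coe, hy, Equiv.Perm.nat_card_centralizer, hcyc] at h1
        simp only [zero_add, Multiset.replicate_one, Multiset.sum_singleton,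
          Multiset.prod_singleton, Multiset.toFinset_singleton, Finset.prod_singleton,
          Multiset.count_singleton_self, Nat.factorial_one, mul_one,
          ← Nat.card_eq_fintype_card, h8] at h1
        norm_num at h1
      · exact h8 (by rw [h168]; norm_num)
  obtain ⟨e⟩ := nonempty_equiv_of_full C H hQ
  exact h23 (adj_of_quotient (e.symm.toMonoidHom.comp (QuotientGroup.mk' C))
    (e.symm.surjective.comp (QuotientGroup.mk'_surjective C)) (adj_168 h168))

theorem three_vertex_altFive : 3 ∈ degreePrimes (alternatingGroup (Fin 5)) := by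
  classical
  haveI : Fact (Nat.Prime 3) := ⟨Nat.prime_three⟩
  let A := alternatingGroup (Fin 5)
  let f : Fin 4 → A := ![1,
    ⟨Equiv.swap 0 1 * Equiv.swap 2 3, Equiv.Perm.mem_alternatingGroup.mpr (by decide)⟩,
    ⟨Equiv.swap 0 1 * Equiv.swap 1 2, Equiv.Perm.mem_alternatingGroup.mpr (by decide)⟩,
    ⟨Equiv.swap 0 1 * Equiv.swap 1 2 * (Equiv.swap 2 3 * Equiv.swap 3 4),
      Equiv.Perm.mem_alternatingGroup.mpr (by decide)⟩]
  have hinj : Function.Injective fun i => ((f i : A) : Equiv.Perm (Fin 5)).cycleType := by decide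
  have hf : ∀ i j, IsConj (f i) (f j) → i = j := fun i j hij =>
    hinj (Equiv.Perm.isConj_iff_cycleType_eq.1 (A.subtype.map_isConj hij))
  have ho : orderOf (f 2) = 3 := orderOf_eq_prime (by decide) (by decide)
  refine vertex_of_classes f hf ho ?_
  have hcen : Fintype.card {g : A // g * f 2 = f 2 * g} = 3 := by decide
  have hc : Nat.card (centralizer ({f 2} : Set A)) = 3 := by
    refine Eq.trans ?_ hcen
    rw [← Nat.card_eq_fintype_card]
    exact Nat.card_congr (Equiv.subtypeEquivRight fun g => mem_centralizer_singleton_iff)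
  rw [hc, Fintype.card_fin]
  norm_num

theorem simple_360 (hn : Nat.card G = 360) (hv : 5 ∈ degreePrimes G)
    (h25 : (degreeGraph G).Adj 2 5) (h23 : ¬ (degreeGraph G).Adj 2 3) : IsSimpleGroup G := by
  classical
  haveI : Fact (Nat.Prime 5) := ⟨by norm_num⟩
  haveI : Fact (Nat.Prime 3) := ⟨Nat.prime_three⟩
  have h := sylow_number (p := 5) (m := 72) hn (by norm_num) hv
  rw [show (Nat.divisors 72).filter (fun d => d % 5 = 1 ∧ d ≠ 1) = {6, 36} by decide +kernel,
    Finset.mem_insert, Finset.mem_singleton] at h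
  have hns : ¬ Group.IsSolvable G := by
    refine not_solvable_of_bad (p := 5) (m := 72) hn (by norm_num) (by norm_num) ?_
    rcases h with h | h <;> rw [h]
    · exact not_good_of_part 2 1 3 Nat.prime_two rfl (by norm_num) (by norm_num)
    · exact not_good_of_part 2 2 9 Nat.prime_two rfl (by norm_num) (by norm_num)
  obtain ⟨C, _, H, hH, hHs, hHna, hcen⟩ := exists_almost_simple hns (by omega)
  obtain ⟨hmem, hd, hdG⟩ := card_simple_section (by omega) C H hHna
  have hd' := hd.trans hdG
  rw [hn] at hd' hdG
  rcases (by decide +kernel : ∀ k ∈ ({60, 168, 360, 504, 660, 1092, 2448, 2520,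
      3420, 4080, 5616} : Finset ℕ), k ∣ 360 → k = 60 ∨ k = 360) _ hmem hd' with h60 | h360
  swap
  · exact simple_of_full C H (h360.trans hn.symm)
  exfalso
  haveI := hH
  have hCmul : Nat.card G = Nat.card (G ⧸ C) * Nat.card C :=
    card_eq_card_quotient_mul_card_subgroup C
  rw [hn] at hCmul
  obtain ⟨k, hk⟩ := hd
  rw [h60] at hk
  have hk6 : k ∣ 6 := Nat.dvd_of_mul_dvd_mul_left (show 0 < 60 by norm_num) (by rw [← hk]; exact hdG)
  -- the quotient has order dividing 120
  have hn6 : Nat.card (Sylow 5 H) = 6 := by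
    obtain ⟨hd5, hm⟩ := H36.card_sylow_dvd (p := 5) h60 (a := 1) (m := 12) rfl (by norm_num)
    have hne : Nat.card (Sylow 5 H) ≠ 1 := H36.card_sylow_ne_one (by rw [h60]; norm_num)
      (fun j hj => by
        have h2 : 2 ∣ 5 ^ j := ⟨30, by rw [← hj, h60]⟩
        exact absurd (Nat.prime_two.dvd_of_dvd_pow h2) (by norm_num))
    have := Nat.le_of_dvd (by norm_num) hd5
    interval_cases hs : Nat.card (Sylow 5 H) <;>
      first | rfl | omega | (norm_num at hd5) | (exact absurd rfl hne)
  have hk12 : k = 1 ∨ k = 2 := by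
    have hkle := Nat.le_of_dvd (by norm_num) hk6
    have h5 : ¬ 5 ^ 2 ∣ Nat.card (G ⧸ C) := fun h => by
      rw [hk] at h
      interval_cases k <;> first | (norm_num at h; done) | (norm_num at hk6; done)
    rcases card_sylow_of_normal (p := 5) (G := G ⧸ C)
      (by rw [hk]; exact Dvd.dvd.mul_right (by norm_num) _) h5 H with ⟨-, hs⟩ | ⟨hs, -⟩
    swap
    · exact absurd (by rw [h60]; norm_num) hs
    rw [hn6] at hs
    obtain ⟨P⟩ := Sylow.nonempty (p := 5) (G := G ⧸ C)
    have hP : Nat.card (P : Subgroup (G ⧸ C)) = 5 := by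
      refine (H36.card_sylow_eq hk P (a := 1) (m := 12 * k) (by ring) ?_).trans (pow_one 5)
      intro h
      interval_cases k <;> first | (norm_num at h; done) | (norm_num at hk6; done)
    set N := normalizer ((P : Subgroup (G ⧸ C)) : Set (G ⧸ C)) with hNdef
    have hN : Nat.card N = 10 * k := by
      have h' : Nat.card (Sylow 5 (G ⧸ C)) = N.index := P.card_eq_index_normalizer
      have h2 := N.card_mul_index
      rw [← h', hs, hk] at h2
      omega
    haveI := Fintype.ofFinite (G ⧸ C)
    have hr := H86.Abelian.relIndex_dvd P hP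
    have hCN := Subgroup.relIndex_mul_relIndex ⊥
      (centralizer ((P : Subgroup (G ⧸ C)) : Set (G ⧸ C))) N bot_le (centralizer_le_normalizer _)
    rw [relIndex_bot_left, relIndex_bot_left, hN] at hCN
    by_contra hk'
    push Not at hk'
    have h3k : 3 ∣ k := by
      interval_cases k <;> first | omega | (norm_num at hk6) | norm_num
    have h3dvd : 3 ∣ Nat.card (centralizer ((P : Subgroup (G ⧸ C)) : Set (G ⧸ C))) := by
      have h3 : 3 ∣ 10 * k := h3k.mul_left _
      rw [← hCN] at h3
      refine (Nat.prime_three.dvd_mul.1 h3).resolve_right fun h => ?_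
      have := h.trans hr
      norm_num at this
    obtain ⟨y, hy⟩ := exists_prime_orderOf_dvd_card' 3 h3dvd
    haveI : IsCyclic (P : Subgroup (G ⧸ C)) := isCyclic_of_prime_card hP
    obtain ⟨g, hg⟩ := IsCyclic.exists_generator (α := (P : Subgroup (G ⧸ C)))
    have hord : orderOf (g : G ⧸ C) = 5 := by
      rw [orderOf_coe, orderOf_eq_card_of_forall_mem_zpowers hg, hP]
    set f := MulAction.toPermHom (G ⧸ C) (Sylow 5 (G ⧸ C)) with hf
    have hinj : Function.Injective f := by
      rw [← MonoidHom.ker_eq_bot_iff]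
      have hdis : f.ker ⊓ H = ⊥ := by
        rcases (IsSimpleGroup.eq_bot_or_eq_top_of_normal ((f.ker ⊓ H).subgroupOf H)
          inferInstance) with h | h
        · rwa [subgroupOf_eq_bot, disjoint_iff, inf_assoc, inf_idem] at h
        · exfalso
          rw [subgroupOf_eq_top] at h
          have hle : H ≤ N := fun y hy => by
            have h1 : y • P = P := Equiv.congr_fun (MonoidHom.mem_ker.1 (h hy).1) P
            exact Sylow.smul_eq_iff_mem_normalizer.1 h1
          -- then the Sylow subgroup would be normal in `H`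
          have hPH : (P : Subgroup (G ⧸ C)) ≤ H := by
            obtain ⟨R, hR⟩ := H78.exists_sylow_inf_normal H P
            have h2 : (P : Subgroup (G ⧸ C)) ⊓ H = P := eq_of_le_of_card_ge inf_le_left (by
              rw [hP, ← hR, card_map_of_injective H.subtype_injective]
              exact Nat.le_of_dvd Nat.card_pos (R.dvd_card_of_dvd_card (by rw [h60]; norm_num)))
            exact inf_eq_left.1 h2
          haveI : ((P.subtype hPH : Sylow 5 H) : Subgroup H).Normal := by
            rw [Sylow.coe_subtype]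
            refine (normal_subgroupOf_iff hPH).2 fun a b ha hb => ?_
            exact (mem_normalizer_iff.1 (hle hb) a).1 ha
          haveI := Sylow.unique_of_normal (P.subtype hPH) inferInstance
          rw [Nat.card_unique] at hn6
          omega
      have hcomm : f.ker ≤ centralizer (H : Set (G ⧸ C)) := fun y hy z hz =>
        (Subgroup.commute_of_normal_of_disjoint f.ker H inferInstance inferInstance
          (disjoint_iff.2 hdis) y z hy hz).eq.symm
      exact le_bot_iff.1 (hcen ▸ hcomm)
    haveI := Fintype.ofFinite (Sylow 5 (G ⧸ C))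
    have hof : orderOf (f (g : G ⧸ C)) = 5 := by rw [orderOf_injective f hinj, hord]
    obtain ⟨n, hcyc⟩ := Equiv.Perm.cycleType_prime_order (σ := f (g : G ⧸ C))
      (by rw [hof]; norm_num)
    rw [hof] at hcyc
    have hsum := Equiv.Perm.sum_cycleType_le (f (g : G ⧸ C))
    rw [hcyc, Multiset.sum_replicate, smul_eq_mul, ← Nat.card_eq_fintype_card, hs] at hsum
    obtain rfl : n = 0 := by omega
    have hmem' : f (y : G ⧸ C) ∈ centralizer ({f (g : G ⧸ C)} : Set _) := by
      rw [mem_centralizer_singleton_iff, ← map_mul, ← map_mul,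
        (mem_centralizer_iff.1 y.2 _ g.2)]
    have h1 := Subgroup.orderOf_dvd_natCard _ hmem'
    rw [orderOf_injective f hinj, orderOf_coe, hy, Equiv.Perm.nat_card_centralizer, hcyc] at h1
    simp only [zero_add, Multiset.replicate_one, Multiset.sum_singleton,
      Multiset.prod_singleton, Multiset.toFinset_singleton, Finset.prod_singleton,
      Multiset.count_singleton_self, Nat.factorial_one, mul_one,
      ← Nat.card_eq_fintype_card, hs] at h1
    norm_num at h1
  rcases hk12 with rfl | rfl
  swap
  · -- quotient of order 120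
    have h6 := six_mem_charDegrees (by rw [hk]) h60 hcen
    exact h23 ⟨by norm_num, Nat.prime_two, Nat.prime_three, 6,
      Linear.SLDegrees.charDegrees_subset_of_surjective (QuotientGroup.mk' C)
        (QuotientGroup.mk'_surjective C) h6, by norm_num⟩
  rw [mul_one] at hk
  have hC6 : Nat.card C = 6 := by rw [hk] at hCmul; omega
  obtain ⟨e⟩ := nonempty_equiv_of_full C H (h60.trans hk.symm)
  haveI : Nontrivial (G ⧸ C) := e.toEquiv.symm.nontrivial
  haveI : IsSimpleGroup (G ⧸ C) :=
    IsSimpleGroup.isSimpleGroup_of_surjective e.toMonoidHom e.surjective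
  set D := centralizer (C : Set G) with hD
  -- the centraliser of `C` covers the quotient
  haveI : Fact (Nat.Prime 2) := ⟨Nat.prime_two⟩
  obtain ⟨a, ha⟩ := exists_prime_orderOf_dvd_card' (G := C) 3 (by rw [hC6]; norm_num)
  obtain ⟨b, hb⟩ := exists_prime_orderOf_dvd_card' (G := C) 2 (by rw [hC6]; norm_num)
  have hgen : closure ({a, b} : Set C) = ⊤ := by
    have h3 : 3 ∣ Nat.card (closure ({a, b} : Set C)) :=
      ha ▸ Subgroup.orderOf_dvd_natCard _ (subset_closure (by simp))
    have h2 : 2 ∣ Nat.card (closure ({a, b} : Set C)) :=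
      hb ▸ Subgroup.orderOf_dvd_natCard _ (subset_closure (by simp))
    refine eq_top_of_le_card _ (hC6.le.trans (Nat.le_of_dvd Nat.card_pos ?_))
    exact Nat.Coprime.mul_dvd_of_dvd_of_dvd (by norm_num : Nat.Coprime 3 2) h3 h2
  have haut : Nat.card (MulAut C) ≤ 36 := by
    refine (Nat.card_le_card_of_injective (fun σ : MulAut C => (σ a, σ b)) ?_).trans
      (by rw [Nat.card_prod, hC6])
    intro σ τ hst
    have h1 : σ.toMonoidHom = τ.toMonoidHom := by
      refine MonoidHom.eq_of_eqOn_dense hgen ?_
      rintro x (rfl | rfl)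
      · exact congrArg Prod.fst hst
      · exact congrArg Prod.snd hst
    exact MulEquiv.ext fun x => DFunLike.congr_fun h1 x
  have hDker : (MulAut.conjNormal : G →* MulAut C).ker = D := by
    ext g
    rw [MonoidHom.mem_ker, hD, mem_centralizer_iff]
    constructor
    · intro h c hc
      have := congrArg (fun σ : MulAut C => ((σ ⟨c, hc⟩ : C) : G)) h
      simp only [MulAut.conjNormal_apply, MulAut.one_apply] at this
      rw [mul_inv_eq_iff_eq_mul] at this
      exact this.symm
    · intro h
      refine MulEquiv.ext fun c => Subtype.ext ?_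
      simp only [MulAut.conjNormal_apply, MulAut.one_apply]
      rw [← h c c.2, mul_inv_cancel_right]
  haveI : D.Normal := hDker ▸ MonoidHom.normal_ker _
  have hDidx : D.index ≤ 36 := by
    rw [← hDker, index_ker]
    exact (card_le_card_group _).trans haut
  have hcover : D ⊔ C = ⊤ := by
    rcases IsSimpleGroup.eq_bot_or_eq_top_of_normal (D.map (QuotientGroup.mk' C))
      (Subgroup.Normal.map inferInstance _ (QuotientGroup.mk'_surjective C)) with h | h
    · exfalso
      have hDC : D ≤ C := fun d hd' => by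
        rw [← QuotientGroup.eq_one_iff]
        exact (mem_bot.1 (h ▸ mem_map_of_mem _ hd'))
      have h1 := D.card_mul_index
      have h2 := Nat.le_of_dvd Nat.card_pos (card_dvd_of_le hDC)
      rw [hn] at h1
      rw [hC6] at h2
      nlinarith
    · rw [← comap_map_eq_self (H := D ⊔ C) (f := QuotientGroup.mk' C)
        (by rw [QuotientGroup.ker_mk']; exact le_sup_right)]
      rw [eq_top_iff]
      intro g _
      rw [mem_comap]
      exact Subgroup.map_mono le_sup_left (h ▸ mem_top _)
  by_cases hab : ∀ x y : C, x * y = y * x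
  · -- `C` is central and every degree is at most seven
    have hCD : C ≤ D := fun x hx y hy => congrArg Subtype.val (hab ⟨y, hy⟩ ⟨x, hx⟩)
    rw [sup_of_le_left hCD] at hcover
    have hCZ : C ≤ center G := fun x hx => mem_center_iff.2 fun g =>
      ((mem_centralizer_iff.1 (show g ∈ D from hcover ▸ mem_top g)) x hx).symm
    obtain ⟨-, -, -, d, ⟨χ, hχ⟩, hdvd⟩ := h25
    have h10 : 10 ≤ d := by
      rcases Nat.eq_zero_or_pos d with h0 | hpos
      · exfalso
        obtain ⟨m, hm, hme, -⟩ := CharBasic.IsIrr.degree_dvd χ.2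
        rw [Linear.SLDegrees.charDegree_eq hme] at hχ
        omega
      · exact Nat.le_of_dvd hpos hdvd
    have h1 := H84.charDegree_sq_le_index_center χ
    rw [hχ] at h1
    have h2 : (center G).index ≤ C.index :=
      Nat.le_of_dvd (Nat.pos_of_ne_zero index_ne_zero_of_finite) (index_dvd_of_le hCZ)
    rw [H36.index_eq_of_card hn hC6] at h2
    nlinarith
  · -- `G` is a direct product
    have hZ : center C = ⊥ := by
      by_contra hne
      apply hab
      have hd2 : Nat.card (center C) ∣ 6 := hC6 ▸ card_subgroup_dvd_card _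
      have hgt := (one_lt_card_iff_ne_bot (center C)).2 hne
      have hq : IsCyclic (C ⧸ center C) := by
        have h1 := card_eq_card_quotient_mul_card_subgroup (center C)
        rw [hC6] at h1
        have h6 := Nat.le_of_dvd (by norm_num) hd2
        have hle : Nat.card (C ⧸ center C) ≤ 3 := by
          by_contra hbig
          push Not at hbig
          nlinarith
        rcases Nat.lt_or_ge (Nat.card (C ⧸ center C)) 2 with hl | hl
        · haveI : Subsingleton (C ⧸ center C) := by
            rw [← not_nontrivial_iff_subsingleton]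
            intro hN
            have := @Finite.one_lt_card _ _ hN
            omega
          exact isCyclic_of_subsingleton
        · have hp : (Nat.card (C ⧸ center C)).Prime := by
            interval_cases hq : Nat.card (C ⧸ center C) <;> norm_num
          haveI := Fact.mk hp
          exact isCyclic_of_prime_card rfl
      haveI := hq
      intro x y
      exact (MonoidHom.isMulCommutative_of_isCyclic_of_ker_le_center (QuotientGroup.mk' (center C))
        (by rw [QuotientGroup.ker_mk'])).is_comm.comm x y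
    have hdis : Disjoint D C := by
      rw [disjoint_iff, eq_bot_iff]
      rintro x ⟨hxD, hxC⟩
      have h1 : (⟨x, hxC⟩ : C) ∈ center C := mem_center_iff.2 fun y =>
        Subtype.ext ((mem_centralizer_iff.1 hxD) y y.2)
      rw [hZ, mem_bot] at h1
      exact mem_bot.2 (congrArg Subtype.val h1)
    have hDQ : Function.Bijective ((QuotientGroup.mk' C).comp D.subtype) := by
      constructor
      · rw [← MonoidHom.ker_eq_bot_iff, eq_bot_iff]
        intro x hx
        have hxC : (x : G) ∈ C := (QuotientGroup.eq_one_iff _).1 hx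
        exact mem_bot.2 (Subtype.ext (disjoint_def.1 hdis x.2 hxC))
      · intro q
        obtain ⟨g, rfl⟩ := QuotientGroup.mk'_surjective C q
        have hg : g ∈ D ⊔ C := hcover ▸ mem_top g
        obtain ⟨x, hx, y, hy, rfl⟩ := mem_sup_of_normal_left.1 hg
        refine ⟨⟨x, hx⟩, ?_⟩
        show (QuotientGroup.mk' C) x = (QuotientGroup.mk' C) (x * y)
        rw [map_mul, show (QuotientGroup.mk' C) y = 1 from (QuotientGroup.eq_one_iff y).2 hy,
          mul_one]
    let eD := MulEquiv.ofBijective _ hDQ
    obtain ⟨e5⟩ := Cfsg.Agent.S0494.result (G := G ⧸ C) hk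
    have hD3 : 3 ∈ degreePrimes D := (graph_congr (eD.trans e5)).1 ▸ three_vertex_altFive
    obtain ⟨-, d₁, ⟨φ, hφ⟩, hd₁⟩ := hD3
    obtain ⟨ψ, hψ⟩ := not_forall.1 (fun h => hab
      ((CharBasic.commutative_iff_forall_linear (G := C)).2 h))
    obtain ⟨d₂, hd₂0, hd₂, hd₂d, -⟩ := CharBasic.IsIrr.degree_dvd ψ.2
    have hd₂2 : d₂ = 2 := by
      haveI := Fintype.ofFinite C
      have h1 := PSL33.degree_sq_le (G := C) (χ := ψ) (d := d₂) hd₂
      rw [hC6] at h1
      rcases Nat.lt_or_ge d₂ 2 with hl | hl
      · obtain rfl : d₂ = 1 := by omega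
        exact absurd (hd₂.trans Nat.cast_one) hψ
      · nlinarith
    haveI := Fintype.ofFinite C
    let m : D × C →* G := MonoidHom.noncommCoprod D.subtype C.subtype
      fun x y => ((mem_centralizer_iff.1 x.2) y y.2).symm
    have hm : Function.Bijective m := by
      constructor
      · rw [← MonoidHom.ker_eq_bot_iff, eq_bot_iff]
        rintro ⟨x, y⟩ hxy
        have h1 : (x : G) * y = 1 := hxy
        have hxC : (x : G) ∈ C := by
          rw [eq_inv_of_mul_eq_one_left h1]; exact C.inv_mem y.2
        have hx1 := disjoint_def.1 hdis x.2 hxC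
        rw [hx1, one_mul] at h1
        exact mem_bot.2 (Prod.ext (Subtype.ext hx1) (Subtype.ext h1))
      · intro g
        have hg : g ∈ D ⊔ C := hcover ▸ mem_top g
        obtain ⟨x, hx, y, hy, rfl⟩ := mem_sup_of_normal_left.1 hg
        exact ⟨(⟨x, hx⟩, ⟨y, hy⟩), rfl⟩
    let em := MulEquiv.ofBijective m hm
    have hθ : IsIrrCharacter (D × C) (fun x => (φ : D → ℂ) x.1 * (ψ : C → ℂ) x.2) :=
      (Cfsg.Agent.S0188.result _).2 ⟨_, _, φ.2, ψ.2, rfl⟩
    have hdeg : d₁ * d₂ ∈ charDegrees (D × C) := ⟨⟨_, hθ⟩, Linear.SLDegrees.charDegree_eq (by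
      show (φ : D → ℂ) 1 * (ψ : C → ℂ) 1 = _
      rw [Linear.SLDegrees.one_eq_charDegree, hφ, hd₂]; push_cast; rfl)⟩
    rw [Linear.SLDegrees.charDegrees_congr em] at hdeg
    refine h23 ⟨by norm_num, Nat.prime_two, Nat.prime_three, _, hdeg, ?_⟩
    rw [hd₂2, mul_comm d₁ 2]
    exact mul_dvd_mul_left 2 hd₁

theorem simple_2520 (hn : Nat.card G = 2520) (hv : 5 ∈ degreePrimes G)
    (hv7 : 7 ∈ degreePrimes G) : IsSimpleGroup G := by
  haveI : Fact (Nat.Prime 5) := ⟨by norm_num⟩
  haveI : Fact (Nat.Prime 7) := ⟨by norm_num⟩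
  have h := sylow_number (p := 5) (m := 504) hn (by norm_num) hv
  rw [show (Nat.divisors 504).filter (fun d => d % 5 = 1 ∧ d ≠ 1) = {6, 21, 36, 56, 126} by
    decide +kernel] at h
  simp only [Finset.mem_insert, Finset.mem_singleton] at h
  have hns : ¬ Group.IsSolvable G := by
    refine not_solvable_of_bad (p := 5) (m := 504) hn (by norm_num) (by norm_num) ?_
    rcases h with h | h | h | h | h <;> rw [h]
    · exact not_good_of_part 2 1 3 Nat.prime_two rfl (by norm_num) (by norm_num)
    · exact not_good_of_part 3 1 7 Nat.prime_three rfl (by norm_num) (by norm_num)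
    · exact not_good_of_part 2 2 9 Nat.prime_two rfl (by norm_num) (by norm_num)
    · exact not_good_of_part 2 3 7 Nat.prime_two rfl (by norm_num) (by norm_num)
    · exact not_good_of_part 2 1 63 Nat.prime_two rfl (by norm_num) (by norm_num)
  obtain ⟨C, _, H, hH, hHs, hHna, hcen⟩ := exists_almost_simple hns (by omega)
  obtain ⟨hmem, hd, hdG⟩ := card_simple_section (by omega) C H hHna
  have hd' := hd.trans hdG
  rw [hn] at hd' hdG
  haveI := hH
  have hCmul : Nat.card G = Nat.card (G ⧸ C) * Nat.card C :=
    card_eq_card_quotient_mul_card_subgroup C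
  rw [hn] at hCmul
  -- a prime missing from the quotient gives a normal Sylow subgroup
  have key : ∀ (p k : ℕ) [Fact p.Prime], p ∈ degreePrimes G → ¬ p ^ 2 ∣ 2520 → p ∣ 2520 →
      Nat.card H = k → ¬ p ∣ Nat.card (G ⧸ C) → 2520 / k < p * (p + 1) → False := by
    intro p k hp hpv hp2 hp1 hk hnd hsmall
    have hpC : p ∣ Nat.card C := (hp.out.dvd_mul.1 (hCmul ▸ hp1)).resolve_left hnd
    refine not_vertex_of_sylow_unique (hn ▸ hp1) (hn ▸ hp2)
      (sylow_unique_of_small (hn ▸ hp2) C hpC (lt_of_le_of_lt ?_ hsmall)) hpv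
    obtain ⟨j, hj⟩ := hd
    rw [hk] at hj
    rw [hCmul, hj]
    have hkpos : 0 < k := hk ▸ Nat.card_pos
    have hjpos : 0 < j := Nat.pos_of_ne_zero fun h0 => by
      rw [h0, mul_zero] at hj; exact Nat.card_pos.ne' hj
    rw [mul_assoc, Nat.mul_div_cancel_left _ hkpos]
    exact Nat.le_mul_of_pos_left _ hjpos
  rcases (by decide +kernel : ∀ k ∈ ({60, 168, 360, 504, 660, 1092, 2448, 2520,
      3420, 4080, 5616} : Finset ℕ), k ∣ 2520 → k = 60 ∨ k = 168 ∨ k = 360 ∨ k = 504 ∨ k = 2520)
      _ hmem hd' with h60 | h168 | h360 | h504 | h2520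
  · exact (key 7 60 hv7 (by norm_num) (by norm_num) h60 (not_dvd_of_60 h60 hcen) (by norm_num)).elim
  · exact (key 5 168 hv (by norm_num) (by norm_num) h168 (not_dvd_of_168 h168 hcen)
      (by norm_num)).elim
  · exact (key 7 360 hv7 (by norm_num) (by norm_num) h360 (not_dvd_of_360 h360 hcen)
      (by norm_num)).elim
  · exact (key 5 504 hv (by norm_num) (by norm_num) h504 (not_dvd_of_504 h504 hcen)
      (by norm_num)).elim
  · exact simple_of_full C H (h2520.trans hn.symm)

end Cfsg.Agent.H79.DegGraphSmall
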