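import Cfsg.Agent.H36.OrderScreen

/-!
# The screen of the orders from 1093 to 3640
-/

set_option autoImplicit false
set_option maxRecDepth 100000

namespace Cfsg.Agent.H79.DegGraphSmall.MidTable

open Cfsg.Agent.H36 Cfsg.Agent.H36.OrderScreen

/-- Orders with no admissible number of Sylow `p`-subgroups. -/
def sylowTable : List (ℕ × ℕ) :=
  [(1116, 31), (1128, 47), (1164, 97), (1176, 7), (1212, 101), (1236, 103), (1248, 13),
   (1272, 53), (1284, 107), (1288, 23), (1308, 109), (1332, 37), (1356, 113), (1360, 17),
   (1368, 19), (1380, 23), (1392, 29), (1416, 59), (1428, 17), (1452, 11), (1456, 7), (1464, 61),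
   (1476, 41), (1488, 31), (1500, 5), (1524, 127), (1548, 43), (1572, 131), (1596, 19),
   (1608, 67), (1624, 29), (1632, 17), (1644, 137), (1668, 139), (1692, 47), (1704, 71),
   (1736, 31), (1752, 73), (1760, 11), (1776, 37), (1788, 149), (1812, 151), (1840, 23),
   (1860, 31), (1884, 157), (1896, 79), (1904, 17), (1908, 53), (1932, 23), (1956, 163),
   (1960, 7), (1968, 41), (1992, 83), (2004, 167), (2028, 13), (2052, 19), (2064, 43), (2072, 37),
   (2076, 173), (2079, 11), (2088, 29), (2124, 59), (2128, 19), (2136, 89), (2148, 179),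
   (2172, 181), (2196, 61), (2220, 37), (2232, 31), (2244, 17), (2288, 13), (2292, 191),
   (2295, 17), (2296, 41), (2316, 193), (2320, 29), (2328, 97), (2340, 13), (2352, 7),
   (2364, 197), (2388, 199), (2408, 43), (2412, 67), (2424, 101), (2436, 29), (2460, 41),
   (2472, 103), (2480, 31), (2484, 23), (2496, 13), (2508, 19), (2532, 211), (2544, 53),
   (2556, 71), (2565, 19), (2568, 107), (2576, 23), (2580, 43), (2604, 31), (2616, 109),
   (2628, 73), (2632, 47), (2652, 13), (2664, 37), (2676, 223), (2712, 113), (2720, 17),
   (2724, 227), (2736, 19), (2748, 229), (2784, 29), (2796, 233), (2820, 47), (2832, 59),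
   (2835, 3), (2844, 79), (2856, 17), (2868, 239), (2892, 241), (2904, 11), (2912, 7), (2928, 61),
   (2952, 41), (2960, 37), (2964, 13), (2968, 53), (2988, 83), (2992, 17), (3000, 5), (3012, 251),
   (3036, 23), (3048, 127), (3084, 257), (3096, 43), (3105, 23), (3108, 37), (3132, 29),
   (3144, 131), (3156, 263), (3180, 53), (3192, 19), (3204, 89), (3213, 17), (3216, 67),
   (3228, 269), (3248, 29), (3252, 271), (3264, 17), (3280, 41), (3288, 137), (3304, 59),
   (3324, 277), (3336, 139), (3344, 19), (3348, 31), (3372, 281), (3384, 47), (3396, 283),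
   (3408, 71), (3416, 61), (3440, 43), (3468, 17), (3472, 31), (3492, 97), (3504, 73),
   (3516, 293), (3536, 13), (3552, 37), (3576, 149), (3588, 23), (3591, 19), (3612, 43),
   (3624, 151), (3636, 101)]

/-- Orders excluded by the degree equation for the prime `p`. -/
def blockTable : List (ℕ × ℕ) :=
  [(1104, 23), (1120, 7), (1140, 19), (1188, 11), (1200, 3), (1224, 17), (1232, 11), (1260, 7),
   (1320, 11), (1400, 7), (1440, 5), (1485, 11), (1520, 19), (1560, 13), (1584, 11), (1656, 23),
   (1716, 3), (1740, 29), (1755, 13), (1824, 19), (1836, 17), (1848, 11), (1872, 13), (1920, 5),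
   (1980, 11), (2016, 7), (2040, 17), (2080, 13), (2100, 3), (2112, 11), (2184, 13), (2208, 23),
   (2240, 7), (2256, 47), (2268, 7), (2280, 19), (2376, 11), (2457, 13), (2464, 11), (2640, 11),
   (2688, 7), (2760, 23), (2772, 11), (2800, 7), (2808, 13), (2880, 5), (2940, 5), (2976, 31),
   (3024, 7), (3040, 19), (3060, 17), (3080, 11), (3120, 13), (3168, 11), (3240, 5), (3276, 13),
   (3300, 11), (3312, 23), (3432, 13), (3444, 41), (3480, 29), (3520, 11), (3540, 59), (3564, 11),
   (3640, 13)]

/-- The orders left by the screen. -/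
def remainingOrders : List ℕ :=
  [1344, 1404, 1512, 1620, 1680, 1764, 1800, 2160, 2400, 2448, 2520, 2700, 3360, 3420, 3528, 3600]

/-- `n` is excluded, or listed. -/
def covered (n : ℕ) : Bool :=
  divFails n || twoPrimes n || remainingOrders.contains n || (sylowTable.map Prod.fst).contains n ||
    (blockTable.map Prod.fst).contains n

theorem sylowTable_spec : (sylowTable.all fun x => sylowFails x.1 x.2) = true := by decide +kernel

theorem blockTable_spec : (blockTable.all fun x => blockFails x.1 x.2) = true := by decide +kernel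

theorem covered_low : ((List.range' 1093 1300).all covered) = true := by decide +kernel

theorem covered_high : ((List.range' 2393 1248).all covered) = true := by decide +kernel

end Cfsg.Agent.H79.DegGraphSmall.MidTable
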