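import Cfsg.Agent.H79.DegGraphSmall.PSL33Values
import Cfsg.Agent.H79.DegGraphSmall.FortyEight
import Cfsg.Agent.H91.OddProd.Main
import Cfsg.Agent.H23.GL23.Main
import Cfsg.Agent.S3304

/-!
# The simple group of order 5616
-/

set_option autoImplicit false
set_option linter.unusedSectionVars false
set_option linter.style.haveILetI false

open Subgroup Cfsg

namespace Cfsg.Agent.H79.DegGraphSmall.PSL33

universe u

variable {G : Type u} [Group G] [Fintype G] [IsSimpleGroup G]
  (D : Blk G) (hn : Nat.card G = 5616) (hG : ¬ IsMulCommutative G)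

include D hn hG

/-- The centraliser of an involution, as an abstract group. -/
theorem centralizer_data {t : G} (ht : orderOf t = 2) :
    ∃ hmem : t ∈ centralizer ({t} : Set G),
      Nat.card (centralizer ({t} : Set G)) = 48 ∧
      orderOf (⟨t, hmem⟩ : centralizer ({t} : Set G)) = 2 ∧
      (∀ k, Commute (⟨t, hmem⟩ : centralizer ({t} : Set G)) k) ∧
      (∀ y : centralizer ({t} : Set G), orderOf y = 3 →
        Nat.card (centralizer ({y} : Set (centralizer ({t} : Set G)))) = 6) := by
  obtain ⟨-, -, h48⟩ := involution D hn hG ht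
  have hmem : t ∈ centralizer ({t} : Set G) := mem_centralizer_singleton_iff.2 rfl
  refine ⟨hmem, h48, by rw [← orderOf_coe]; exact ht, fun k => Subtype.ext ?_, fun y hy => ?_⟩
  · exact mem_centralizer_iff.1 k.2 t rfl
  · set Z := centralizer ({y} : Set (centralizer ({t} : Set G))) with hZ
    have htc : Commute (⟨t, hmem⟩ : (centralizer ({t} : Set G))) y := Subtype.ext (mem_centralizer_iff.1 y.2 t rfl)
    have h6 : 6 ∣ Nat.card Z := by
      have hmemZ : (⟨t, hmem⟩ * y : (centralizer ({t} : Set G))) ∈ Z := mem_centralizer_singleton_iff.2 (by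
        rw [mul_assoc, ← mul_assoc y, ← htc.eq, mul_assoc])
      have := Subgroup.orderOf_dvd_natCard _ hmemZ
      rwa [htc.orderOf_mul_eq_mul_orderOf_of_coprime (by rw [← orderOf_coe, hy, ht]; norm_num), hy,
        ← orderOf_coe, ht] at this
    have h48' : Nat.card Z ∣ 48 := h48 ▸ card_subgroup_dvd_card _
    have h4 : ¬ 4 ∣ Nat.card Z := by
      intro h
      haveI : Fact (Nat.Prime 2) := ⟨Nat.prime_two⟩
      obtain ⟨R, hR⟩ := Sylow.exists_subgroup_card_pow_prime (G := Z) 2 (n := 2) h
      refine not_four_centralizes_three D hn hG (y := (y : G)) (by rw [orderOf_coe, hy])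
        (R.map ((centralizer ({t} : Set G)).subtype.comp Z.subtype)) ?_ ?_
      · rw [card_map_of_injective (Function.Injective.comp (f := Z.subtype) (g := (centralizer ({t} : Set G)).subtype) (Subgroup.subtype_injective _) (Subgroup.subtype_injective _)), hR]
        norm_num
      · rintro _ ⟨r, -, rfl⟩
        exact congrArg Subtype.val (mem_centralizer_singleton_iff.1 r.2)
    have key : ∀ x ∈ List.range 49, x ∣ 48 → 6 ∣ x → ¬ 4 ∣ x → x = 6 := by decide +kernel
    exact key _ (List.mem_range.2 (by have := Nat.le_of_dvd (by norm_num) h48'; omega)) h48' h6 h4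

/-- Elements of order four have small centralisers. -/
theorem centralizer_four {z : G} (hz : orderOf z = 4) :
    Nat.card (centralizer ({z} : Set G)) ≤ 8 := by
  set v := z * z with hv
  have hvo : orderOf v = 2 := by rw [hv, ← pow_two, orderOf_pow, hz]; norm_num
  obtain ⟨hmem, h48, hvK, hvc, hy⟩ := centralizer_data D hn hG hvo
  set K := centralizer ({v} : Set G)
  have hzc : Commute z v := (Commute.refl z).mul_right (Commute.refl z)
  have hzK : z ∈ K := mem_centralizer_singleton_iff.2 hzc.eq
  have hle : centralizer ({z} : Set G) ≤ K := fun g hg => by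
    rw [mem_centralizer_singleton_iff] at hg ⊢
    exact ((show Commute g z from hg).mul_right hg).eq
  set Z := centralizer ({z} : Set G) with hZ
  have hZd : Nat.card Z ∣ 48 := h48 ▸ card_dvd_of_le hle
  haveI : Fact (Nat.Prime 3) := ⟨Nat.prime_three⟩
  haveI : Fact (Nat.Prime 2) := ⟨Nat.prime_two⟩
  have h3 : ¬ 3 ∣ Nat.card Z := by
    intro h
    obtain ⟨w, hw⟩ := exists_prime_orderOf_dvd_card' 3 h
    rw [← orderOf_coe] at hw
    have hd : orderOf (⟨z, hzK⟩ : K) ∣ Nat.card (centralizer ({(⟨w, hle w.2⟩ : K)} : Set K)) :=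
      Subgroup.orderOf_dvd_natCard _ (mem_centralizer_singleton_iff.2
        (Subtype.ext (mem_centralizer_singleton_iff.1 w.2).symm))
    rw [hy _ (by rw [← orderOf_coe]; exact hw), ← orderOf_coe, hz] at hd
    norm_num at hd
  have key : ∀ x ∈ List.range 49, x ∣ 48 → ¬ 3 ∣ x → x ≤ 8 ∨ x = 16 := by decide +kernel
  refine (key _ (List.mem_range.2 (by have := Nat.le_of_dvd (by norm_num) hZd; omega))
    hZd h3).resolve_right fun h16 => ?_
  obtain ⟨O, hOn, hO8, hvO, hCO, hcases⟩ := FortyEight.exists_core h48 hvK hvc hy
  -- the centraliser of `z` is a Sylow subgroup of `K`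
  set T := Z.subgroupOf K
  have hT : Nat.card T = 16 := by
    rw [Nat.card_congr (subgroupOfEquivOfLe hle).toEquiv, h16]
  have hOp : IsPGroup 2 O := IsPGroup.of_card (n := 3) (by rw [hO8]; norm_num)
  have hTp : IsPGroup 2 T := IsPGroup.of_card (n := 4) (by rw [hT]; norm_num)
  have hsup : IsPGroup 2 (O ⊔ T : Subgroup K) := hOp.to_sup_of_normal_left hTp
  have hOT : O ≤ T := by
    obtain ⟨k, hk⟩ := IsPGroup.iff_card.1 hsup
    have h1 : 2 ^ k ∣ 48 := hk ▸ h48 ▸ card_subgroup_dvd_card _
    have hk4 : k ≤ 4 := by
      by_contra hlt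
      exact absurd ((pow_dvd_pow 2 (show 5 ≤ k by omega)).trans h1) (by norm_num)
    have h2 : (O ⊔ T : Subgroup K) = T := (eq_of_le_of_card_ge le_sup_right (by
      rw [hk, hT]; calc 2 ^ k ≤ 2 ^ 4 := Nat.pow_le_pow_right (by norm_num) hk4
        _ = 16 := by norm_num)).symm
    exact h2 ▸ le_sup_left
  have hzO : ∀ o ∈ O, Commute (⟨z, hzK⟩ : K) o := fun o ho =>
    Subtype.ext (mem_centralizer_singleton_iff.1 (mem_subgroupOf.1 (hOT ho))).symm
  have hzmem : (⟨z, hzK⟩ : K) ∈ O := hCO fun o ho => ((hzO o ho).eq).symm
  have hno : ∀ w : G, w * w = 1 → z ≠ w := by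
    rintro w hw rfl
    rw [← hv] at hw
    rw [hw, orderOf_one] at hvo
    norm_num at hvo
  rcases hcases with h | ⟨-, -, h⟩
  · exact hno z (congrArg Subtype.val (h _ hzmem)) rfl
  · rcases h _ hzmem hzO with h1 | h1
    · exact hno 1 (one_mul 1) (congrArg Subtype.val h1)
    · exact hno v (by rw [← pow_two, ← hvo, pow_orderOf_eq_one]) (congrArg Subtype.val h1)

theorem A_order_four {z : G} (hz : orderOf z = 4) : (D.A : G → ℂ) z = -1 :=
  order_four D hn hG hz (centralizer_four D hn hG hz)

/-- An elementary subgroup of order eight is not of index two in a group of order sixteen inside an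
involution centraliser, as seen by the character of degree 27. -/
theorem false_of_elementary (O S : Subgroup G) (hOS : O ≤ S) (hO : Nat.card O = 8)
    (hS : Nat.card S = 16) (he : ∀ x ∈ O, x * x = 1) : False := by
  classical
  haveI : Fact (Nat.Prime 2) := ⟨Nat.prime_two⟩
  haveI : Fintype S := Fintype.ofFinite S
  have hidx : O.relIndex S = 2 := by
    have h := card_mul_index (O.subgroupOf S)
    rw [Nat.card_congr (subgroupOfEquivOfLe hOS).toEquiv, hO, hS] at h
    show (O.subgroupOf S).index = 2
    omega
  have hmul : ∀ a b : S, ((a : G) * b ∈ O ↔ ((a : G) ∈ O ↔ (b : G) ∈ O)) := fun a b =>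
    mul_mem_iff_of_index_two (H := O.subgroupOf S) hidx (a := a) (b := b)
  have hcomm : ∀ a ∈ O, ∀ b ∈ O, a * b = b * a := fun a ha b hb => by
    calc a * b = (a * b)⁻¹ := (inv_eq_of_mul_eq_one_right (he _ (mul_mem ha hb))).symm
      _ = b * a := by
        rw [mul_inv_rev, inv_eq_of_mul_eq_one_right (he a ha),
          inv_eq_of_mul_eq_one_right (he b hb)]
  -- the involutions outside `O`
  set J := Finset.univ.filter fun s : S => (s : G) ∉ O ∧ (s : G) * s = 1
  have hJ : J.card = 0 ∨ J.card = 4 ∨ J.card = 8 := by
    rcases J.eq_empty_or_nonempty with h | ⟨s, hs⟩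
    · exact Or.inl (by rw [h, Finset.card_empty])
    · right
      obtain ⟨hsO, hs2⟩ := (Finset.mem_filter.1 hs).2
      have hsi : (s : G)⁻¹ = s := inv_eq_of_mul_eq_one_right hs2
      let H : Subgroup O :=
        { carrier := {o | (o : G) * s = s * o}
          one_mem' := by simp
          mul_mem' := fun {a b} ha hb => by
            show ((a * b : O) : G) * s = s * (a * b : O)
            rw [Subgroup.coe_mul, mul_assoc, hb, ← mul_assoc, ha, mul_assoc]
          inv_mem' := fun {a} ha => by
            show ((a⁻¹ : O) : G) * s = s * (a⁻¹ : O)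
            rw [Subgroup.coe_inv, inv_eq_of_mul_eq_one_right (he a a.2)]
            exact ha }
      have hnorm : ∀ o ∈ O, (s : G) * o * s ∈ O := fun o ho => by
        have h1 := hmul (s * ⟨o, hOS ho⟩) s
        simp only [Subgroup.coe_mul] at h1
        refine h1.2 ⟨fun h => ?_, fun h => absurd h hsO⟩
        have h2 := (hmul s ⟨o, hOS ho⟩).1 h
        exact absurd (h2.2 ho) hsO
      let φ : O →* O :=
        { toFun := fun o => ⟨o * (s * o * s), mul_mem o.2 (hnorm o o.2)⟩
          map_one' := Subtype.ext (by simp [hs2])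
          map_mul' := fun a b => Subtype.ext (by
            show (a : G) * b * (s * ((a : G) * b) * s) =
              (a : G) * (s * a * s) * ((b : G) * (s * b * s))
            have h1 : (s : G) * ((a : G) * b) * s = (s * a * s) * (s * b * s) := by
              calc (s : G) * ((a : G) * b) * s = s * a * ((s : G) * s) * b * s := by
                    rw [hs2, mul_one, mul_assoc (s : G) a b]
                _ = _ := by group
            rw [h1]
            exact (show Commute (b : G) (s * a * s) from hcomm b b.2 _ (hnorm a a.2)).mul_mul_mul_comm _ _) }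
      have hker : φ.ker = H := by
        ext o
        show (⟨_, _⟩ : O) = (1 : O) ↔ (o : G) * s = s * o
        rw [Subtype.ext_iff, OneMemClass.coe_one,
          mul_eq_one_iff_eq_inv, mul_inv_rev, mul_inv_rev, hsi,
          inv_eq_of_mul_eq_one_right (he o o.2)]
        constructor
        · intro h; nth_rw 1 [h]; simp [mul_assoc, hs2]
        · intro h
          rw [← mul_assoc, ← h, mul_assoc, hs2, mul_one]
      have hran : φ.range ≤ H := by
        rintro _ ⟨o, rfl⟩
        show (o : G) * (s * o * s) * s = s * (o * (s * o * s))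
        rw [mul_assoc, mul_assoc, hs2, mul_one, hcomm o o.2 _ (hnorm o o.2)]
        simp [← mul_assoc, hs2]
      have h1 := card_mul_index φ.ker
      rw [index_ker φ, hker, hO] at h1
      have h2 : Nat.card φ.range ≤ Nat.card H := card_le_of_le hran
      have h3 : Nat.card H ∣ 8 := hO ▸ card_subgroup_dvd_card H
      have hJH : J.card = Nat.card H := by
        rw [Nat.card_eq_fintype_card, Fintype.card_subtype, eq_comm]
        refine Finset.card_bij (fun o _ => (⟨o, hOS o.2⟩ * s : S)) ?_ ?_ ?_
        · intro o ho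
          refine Finset.mem_filter.2 ⟨Finset.mem_univ _, ?_, ?_⟩
          · rw [Subgroup.coe_mul]
            exact fun h => hsO (((hmul ⟨o, hOS o.2⟩ s).1 h).1 o.2)
          · have ho' : (o : G) * s = s * o := (Finset.mem_filter.1 ho).2
            show (o : G) * s * (o * s) = 1
            calc (o : G) * s * (o * s) = o * (s * o) * s := by group
              _ = o * (o * s) * s := by rw [ho']
              _ = (o * o) * ((s : G) * s) := by group
              _ = 1 := by rw [he o o.2, hs2, one_mul]
        · intro a _ b _ h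
          exact Subtype.ext (congrArg Subtype.val (mul_right_cancel h) :)
        · intro w hw
          obtain ⟨hwO, hw2⟩ := (Finset.mem_filter.1 hw).2
          have hmem : (w : G) * s ∈ O :=
            (hmul w s).2 ⟨fun h => absurd h hwO, fun h => absurd h hsO⟩
          refine ⟨⟨_, hmem⟩, Finset.mem_filter.2 ⟨Finset.mem_univ _, ?_⟩, Subtype.ext ?_⟩
          · show (w : G) * s * s = s * (w * s)
            rw [mul_assoc, hs2, mul_one]
            have h4 := he _ hmem
            calc (w : G) = (w : G)⁻¹ := (inv_eq_of_mul_eq_one_right hw2).symm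
              _ = (w : G)⁻¹ * ((w : G) * s * (w * s)) := by rw [h4, mul_one]
              _ = s * (w * s) := by rw [mul_assoc (w : G) (s : G), inv_mul_cancel_left]
          · show (w : G) * s * s = w
            rw [mul_assoc, hs2, mul_one]
      rw [hJH]
      have h4 := Nat.le_of_dvd (by norm_num) h3
      have h5 : 8 ≤ Nat.card H * Nat.card H :=
        calc 8 = Nat.card H * Nat.card φ.range := h1.symm
          _ ≤ _ := Nat.mul_le_mul_left _ h2
      generalize Nat.card H = c at h3 h4 h5 ⊢
      interval_cases c <;> omega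
  -- the values of the character
  have hval : ∀ s : S, (D.A : G → ℂ) s =
      (((if (s : G) * s = 1 then 4 else 0) + (if (s : G) = 1 then 24 else 0) - 1 : ℤ) : ℂ) := by
    intro s
    by_cases h1 : (s : G) = 1
    · rw [h1, D.degA]; norm_num
    have hne : orderOf (s : G) ≠ 1 := by rwa [Ne, orderOf_eq_one_iff]
    have hd : orderOf (s : G) ∣ 4 := by
      refine orderOf_dvd_of_pow_eq_one ?_
      have h2 : (s : G) * s ∈ O := (hmul s s).2 Iff.rfl
      rw [show (4 : ℕ) = 2 + 2 from rfl, pow_add, pow_two]
      exact he _ h2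
    by_cases h2 : (s : G) * s = 1
    · have ho : orderOf (s : G) = 2 := orderOf_eq_prime (by rw [pow_two, h2]) h1
      rw [(involution D hn hG ho).1, if_pos h2, if_neg h1]; norm_num
    · have ho : orderOf (s : G) = 4 := by
        have hk : ∀ x ∈ List.range 5, x ∣ 4 → x = 1 ∨ x = 2 ∨ x = 4 := by decide +kernel
        rcases hk _ (List.mem_range.2 (by have := Nat.le_of_dvd (by norm_num) hd; omega)) hd
          with h | h | h
        · exact absurd h hne
        · exact absurd (by rw [← pow_two, ← h, pow_orderOf_eq_one]) h2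
        · exact h
      rw [A_order_four D hn hG ho, if_neg h2, if_neg h1]; norm_num
  obtain ⟨m, hm⟩ := H83.sum_subgroup_eq (CharBasic.IsIrr.isCharacter D.A.2) S
  rw [Finset.sum_congr rfl (fun s _ => hval s), ← Int.cast_sum, hS] at hm
  have hm' : (∑ s : S, ((if (s : G) * s = 1 then (4 : ℤ) else 0) +
      (if (s : G) = 1 then (24 : ℤ) else 0) - 1)) = 16 * (m : ℤ) := by exact_mod_cast hm
  rw [Finset.sum_sub_distrib, Finset.sum_add_distrib, ← Finset.sum_filter, ← Finset.sum_filter,
    Finset.sum_const, Finset.sum_const, Finset.sum_const, Finset.card_univ,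
    ← Nat.card_eq_fintype_card, hS] at hm'
  have hone : (Finset.univ.filter fun s : S => (s : G) = 1).card = 1 := by
    rw [Finset.card_eq_one]
    exact ⟨1, by ext s; simp⟩
  have hinv : (Finset.univ.filter fun s : S => (s : G) * s = 1).card = 8 + J.card := by
    rw [← Finset.card_filter_add_card_filter_not
      (s := Finset.univ.filter fun s : S => (s : G) * s = 1) (fun s : S => (s : G) ∈ O),
      Finset.filter_filter, Finset.filter_filter]
    congr 1
    · rw [← hO, ← Nat.card_congr (subgroupOfEquivOfLe hOS).toEquiv, Nat.card_eq_fintype_card,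
        Fintype.card_subtype]
      congr 1
      ext s
      simp only [Finset.mem_filter, Finset.mem_univ, true_and, mem_subgroupOf]
      exact ⟨fun h => h.2, fun h => ⟨he _ h, h⟩⟩
    · congr 1
      ext s
      simp only [Finset.mem_filter, Finset.mem_univ, true_and, and_comm, J]
  rw [hone, hinv] at hm'
  simp only [nsmul_eq_mul] at hm'
  push_cast at hm'
  omega

/-- The centraliser of an involution is `GL(2,3)`. -/
theorem centralizer_GL {t : G} (ht : orderOf t = 2) :
    Nonempty (↥(centralizer ({t} : Set G)) ≃* GL (Fin 2) (ZMod 3)) := by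
  obtain ⟨hmem, h48, htK, htc, hy⟩ := centralizer_data D hn hG ht
  obtain ⟨O, hOn, hO8, htO, hCO, hcases⟩ := FortyEight.exists_core h48 htK htc hy
  rcases hcases with he | ⟨huniq, ⟨e⟩, -⟩
  · exfalso
    haveI : Fact (Nat.Prime 2) := ⟨Nat.prime_two⟩
    obtain ⟨S, hS⟩ := (IsPGroup.of_card (n := 3) (p := 2) (G := O)
      (by rw [hO8]; norm_num)).exists_le_sylow
    have hS16 : Nat.card (S : Subgroup (centralizer ({t} : Set G))) = 16 := by
      simpa using H36.card_sylow_eq h48 S (a := 4) (m := 3) rfl (by norm_num)
    refine false_of_elementary D hn hG (O.map (centralizer ({t} : Set G)).subtype)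
      ((S : Subgroup _).map (centralizer ({t} : Set G)).subtype) (map_mono hS) ?_ ?_ ?_
    · rw [card_map_of_injective (subtype_injective _), hO8]
    · rw [card_map_of_injective (subtype_injective _), hS16]
    · rintro _ ⟨x, hx, rfl⟩
      exact congrArg Subtype.val (he x hx)
  · by_cases hout : ∃ s : centralizer ({t} : Set G), s * s = 1 ∧ s ∉ O
    · obtain ⟨s, hs, hsO⟩ := hout
      obtain ⟨e1⟩ := S3304.iso_model h48 hCO e hs hsO
      obtain ⟨e2⟩ := S3304.gl_model
      exact ⟨e1.trans e2.symm⟩
    · exfalso
      push Not at hout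
      have hcen := H91.OddProd.central_of_isolated (G := G) ?_ ht ?_
      · have h1 : t ∈ center G := mem_center_iff.2 fun g => ((hcen g).eq).symm
        rw [H36.center_eq_bot_of_simple hG, mem_bot] at h1
        rw [h1, orderOf_one] at ht
        norm_num at ht
      · intro N hN hsol
        refine (hN.eq_bot_or_eq_top).resolve_right fun h => hG ?_
        subst h
        haveI : Group.IsSolvable G :=
          Group.isSolvable_of_surjective (f := (⊤ : Subgroup G).subtype) fun g => ⟨⟨g, mem_top g⟩, rfl⟩
        exact ⟨⟨fun a b => (IsSimpleGroup.comm_iff_isSolvable.2 ‹_›) a b⟩⟩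
      · intro g hg
        have ho : orderOf (g * t * g⁻¹) = 2 := by
          rw [← ht]; exact orderOf_injective (MulAut.conj g).toMonoidHom (MulAut.conj g).injective t
        have hmem' : g * t * g⁻¹ ∈ centralizer ({t} : Set G) :=
          mem_centralizer_singleton_iff.2 hg.eq.symm
        set w : centralizer ({t} : Set G) := ⟨g * t * g⁻¹, hmem'⟩
        have hw : w * w = 1 := Subtype.ext (by
          show (g * t * g⁻¹) * (g * t * g⁻¹) = 1
          rw [← pow_two, ← ho, pow_orderOf_eq_one])
        rcases huniq w (hout w hw) hw with h | h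
        · have h' : g * t * g⁻¹ = 1 := congrArg Subtype.val h
          rw [h', orderOf_one] at ho
          norm_num at ho
        · exact congrArg Subtype.val h

omit D hn hG [Fintype G] [IsSimpleGroup G] [Group G] in
/-- A simple group of order 5616 is the linear group of degree three over three elements. -/
theorem nonempty_equiv {G : Type u} [Group G] [Finite G] [IsSimpleGroup G]
    (hn : Nat.card G = 5616) :
    Nonempty (G ≃* Matrix.ProjectiveSpecialLinearGroup (Fin 3) (ZMod 3)) := by
  haveI := Fintype.ofFinite G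
  have hG : ¬ IsMulCommutative G := H36.not_comm_of_simple (by rw [hn]; norm_num)
  obtain ⟨D⟩ := exists_blk hG hn
  haveI : Fact (Nat.Prime 2) := ⟨Nat.prime_two⟩
  obtain ⟨t, ht⟩ := exists_prime_orderOf_dvd_card' (G := G) 2 (by rw [hn]; norm_num)
  obtain ⟨e⟩ := centralizer_GL D hn hG ht
  obtain ⟨S, -⟩ := H23.GL23.exists_setup t ht e
  exact S.nonempty_equiv_of_card (S.isConj_of_no_hom fun f => H36.hom_comm_eq_one hG f) hn

end Cfsg.Agent.H79.DegGraphSmall.PSL33
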