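import Cfsg.Agent.H36.OrderExceptions
import Cfsg.Agent.H36.DegreeEq
import Cfsg.Agent.H83.ClassConst
import Cfsg.Agent.H84.Kernel

/-!
# The principal 13-block of a simple group of order 5616

Three non-trivial characters of degrees 27, 12, 16 carry all the relations needed.
-/

set_option autoImplicit false
set_option linter.unusedSectionVars false
set_option linter.style.haveILetI false

open scoped ComplexConjugate
open Subgroup Cfsg

namespace Cfsg.Agent.H79.DegGraphSmall.PSL33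

open Cfsg.Agent.CharBasic Cfsg.Agent.H36

theorem blockOnly_thirteen :
    OrderScreen.blockOnly 5616 13 (fun _ => true) (fun r c => r == 3 && c == 1) = true := by
  decide +kernel

/-- What the principal block gives. -/
structure Blk (G : Type*) [Group G] [Fintype G] where
  /-- a Sylow subgroup of order 13 -/
  P : Subgroup G
  card_P : Nat.card P = 13
  card_normalizer : Nat.card (normalizer (P : Set G)) = 39
  /-- the character of degree 27 -/
  A : IrrCharacter G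
  /-- the character of degree 12 -/
  B : IrrCharacter G
  /-- a character of degree 16 -/
  E : IrrCharacter G
  degA : (A : G → ℂ) 1 = 27
  degB : (B : G → ℂ) 1 = 12
  degE : (E : G → ℂ) 1 = 16
  rel : ∀ g, ¬ 13 ∣ orderOf g →
    1 + (A : G → ℂ) g - (B : G → ℂ) g - (E : G → ℂ) g = 0
  sum_v : ∀ g, ¬ 13 ∣ orderOf g → ∀ v : P, v ≠ 1 → ∀ F : ℂ → ℂ → ℂ,
    ∑ χ : IrrCharacter G, F ((χ : G → ℂ) g) ((χ : G → ℂ) 1) * (χ : G → ℂ) v =
      F 1 1 + F ((A : G → ℂ) g) 27 - F ((B : G → ℂ) g) 12 - F ((E : G → ℂ) g) 16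

theorem degree_solutions : ∀ d₁ ∈ ([12, 27] : List ℤ), ∀ d₂ ∈ ([12, 27] : List ℤ),
    ∀ a₁ ∈ ([1, -1] : List ℤ), ∀ a₂ ∈ ([1, -1] : List ℤ),
    (13 : ℤ) ∣ d₁ - a₁ → (13 : ℤ) ∣ d₂ - a₂ →
    2 ≤ (1 + a₁ * d₁ + a₂ * d₂).natAbs → (1 + a₁ * d₁ + a₂ * d₂).natAbs ∣ 5616 →
      a₁ * a₂ = -1 ∧ (a₁ = 1 → d₁ = 27 ∧ d₂ = 12) ∧ (a₁ = -1 → d₁ = 12 ∧ d₂ = 27) := by
  decide +kernel

theorem small_divisors : ∀ d ∈ List.range 75, 2 ≤ d → d ∣ 5616 →
    ((13 : ℤ) ∣ (d : ℤ) - 1 ∨ (13 : ℤ) ∣ (d : ℤ) + 1) → d = 12 ∨ d = 27 := by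
  decide +kernel

variable {G : Type*} [Group G] [Fintype G]

theorem off_of_not_dvd {P : Subgroup G} (hP : Nat.card P = 13) {g : G}
    (hg : ¬ 13 ∣ orderOf g) : SelfCentral.Off P g := by
  intro x hx
  by_contra h1
  have h2 : orderOf (⟨_, hx⟩ : P) ∣ 13 := hP ▸ orderOf_dvd_natCard _
  rw [orderOf_mk] at h2
  rcases (Nat.dvd_prime (by norm_num)).1 h2 with h | h
  · exact h1 (orderOf_eq_one_iff.1 h)
  · rw [show x⁻¹ * g * x = x⁻¹ * g * (x⁻¹)⁻¹ by rw [inv_inv]] at h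
    have : orderOf g = 13 := by
      rw [← h]
      exact (orderOf_injective (MulAut.conj x⁻¹).toMonoidHom (MulAut.conj x⁻¹).injective g).symm
    exact hg (this ▸ dvd_rfl)

theorem degree_sq_le {χ : IrrCharacter G} {d : ℕ} (hd : (χ : G → ℂ) 1 = d) :
    d ^ 2 ≤ Nat.card G := by
  classical
  have h := second_orthogonality_self (G := G) 1
  have hc : ∀ ψ : IrrCharacter G, ∃ k : ℕ, (ψ : G → ℂ) 1 = k := fun ψ =>
    ⟨_, (H83.charDegree_eq ψ.2).1⟩
  choose k hk using hc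
  simp only [hk, Complex.conj_natCast] at h
  have hle : Nat.card (centralizer ({1} : Set G)) ≤ Nat.card G :=
    card_le_card_group _
  have hsum : ∑ ψ, k ψ * k ψ = Nat.card (centralizer ({1} : Set G)) := by exact_mod_cast h
  have hkd : k χ = d := by exact_mod_cast (hk χ).symm.trans hd
  calc d ^ 2 = k χ * k χ := by rw [hkd, pow_two]
    _ ≤ ∑ ψ, k ψ * k ψ := Finset.single_le_sum (f := fun ψ => k ψ * k ψ)
        (fun _ _ => Nat.zero_le _) (Finset.mem_univ χ)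
    _ ≤ _ := hsum.le.trans hle

theorem exists_blk [IsSimpleGroup G] (hG : ¬ IsMulCommutative G) (hn : Nat.card G = 5616) :
    Nonempty (Blk G) := by
  classical
  haveI : Fact (Nat.Prime 13) := ⟨by norm_num⟩
  obtain ⟨P, r, c, hP, hr, hc, hskip⟩ := OrderScreen.exists_of_blockOnly hG (by omega)
    (fun _ => true) (fun _ _ _ _ => rfl) (fun r c => r == 3 && c == 1)
    (by rw [hn]; exact blockOnly_thirteen)
  simp only [Bool.and_eq_true, beq_iff_eq] at hskip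
  obtain ⟨rfl, rfl⟩ := hskip
  have hC := OrderExceptions.centralizer_eq_self hP hc
  rw [hC] at hr
  have hN : Nat.card (normalizer ((P : Subgroup G) : Set G)) = 39 := by
    rw [card_normalizer_eq_mul (P : Subgroup G), hC, hP, hr]
  obtain ⟨O, a, μ₀, s', htO, hμ0, hO, hs', hψO, heq, hsum⟩ :=
    SelfCentral.exists_equation hG hP hC hr (Or.inr rfl) (by norm_num)
  obtain ⟨ψ₁, ψ₂, hne, rfl⟩ := Finset.card_eq_two.1 (show O.card = 2 by omega)
  have hdeg : ∀ ψ ∈ ({ψ₁, ψ₂} : Finset (IrrCharacter G)), ∃ d : ℕ, (d = 12 ∨ d = 27) ∧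
      (ψ : G → ℂ) 1 = d ∧ (13 : ℤ) ∣ (d : ℤ) - a ψ := by
    intro ψ hψ
    obtain ⟨ha, m, hm⟩ := hψO ψ hψ
    obtain ⟨d, hd2, hd, hdvd⟩ :=
      SelfCentral.exists_degree_two_le hG (χ := ψ) (fun h => htO (h ▸ hψ))
    rw [hd] at hm
    have hm' : (d : ℤ) = a ψ + 13 * m := by exact_mod_cast hm
    have hle := degree_sq_le hd
    rw [hn] at hle hdvd
    refine ⟨d, small_divisors d (List.mem_range.2 (by nlinarith)) hd2 hdvd ?_, hd, ⟨m, by omega⟩⟩
    rcases ha with h | h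
    · exact Or.inl ⟨m, by omega⟩
    · exact Or.inr ⟨m, by omega⟩
  obtain ⟨d₁, hd₁, he₁, hr₁⟩ := hdeg ψ₁ (by simp)
  obtain ⟨d₂, hd₂, he₂, hr₂⟩ := hdeg ψ₂ (by simp)
  obtain ⟨x, hx2, hx, hxdvd⟩ := SelfCentral.exists_degree_two_le hG hμ0
  have ha₁ := (hψO ψ₁ (by simp)).1
  have ha₂ := (hψO ψ₂ (by simp)).1
  have e1 := heq 1 (SelfCentral.off_one _)
  rw [Finset.sum_pair hne, he₁, he₂, hx] at e1
  have E1 : 1 + (a ψ₁ * d₁ + a ψ₂ * d₂) + s' * x = 0 := by exact_mod_cast e1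
  have habs : (1 + a ψ₁ * (d₁ : ℤ) + a ψ₂ * d₂).natAbs = x := by
    rw [show 1 + a ψ₁ * (d₁ : ℤ) + a ψ₂ * d₂ = -(s' * x) by linarith, Int.natAbs_neg,
      Int.natAbs_mul]
    rcases hs' with h | h <;> simp [h]
  obtain ⟨hprod, hp, hm⟩ := degree_solutions d₁ (by rcases hd₁ with rfl | rfl <;> simp)
    d₂ (by rcases hd₂ with rfl | rfl <;> simp) (a ψ₁) (by rcases ha₁ with h | h <;> simp [h])
    (a ψ₂) (by rcases ha₂ with h | h <;> simp [h]) hr₁ hr₂ (by rw [habs]; exact hx2)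
    (by rw [habs, ← hn]; exact hxdvd)
  have key : ∀ A B : IrrCharacter G, ({A, B} : Finset (IrrCharacter G)) = {ψ₁, ψ₂} → A ≠ B →
      a A = 1 → a B = -1 → (A : G → ℂ) 1 = 27 → (B : G → ℂ) 1 = 12 → Nonempty (Blk G) := by
    intro A B hO hAB haA haB hA hB
    rw [← hO] at heq hsum
    simp only [Finset.sum_pair hAB, haA, haB, Int.cast_one, Int.cast_neg, one_mul] at heq hsum
    have h1 := heq 1 (SelfCentral.off_one _)
    rw [hA, hB, hx] at h1
    have hs1 : s' = -1 := by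
      rcases hs' with rfl | rfl
      · exfalso
        have : (1 + (27 + -1 * 12) + 1 * (x : ℤ) : ℤ) = 0 := by exact_mod_cast h1
        omega
      · rfl
    subst hs1
    have hx16 : (μ₀ : G → ℂ) 1 = 16 := by
      rw [hx]; push_cast at h1; linear_combination -h1
    refine ⟨⟨P, hP, hN, A, B, μ₀, hA, hB, hx16, fun g hg => ?_, fun g hg v hv F => ?_⟩⟩
    · have := heq g (off_of_not_dvd hP hg)
      push_cast at this
      linear_combination this
    · rw [hsum g (off_of_not_dvd hP hg) v hv F, hA, hB, hx16]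
      push_cast
      ring
  rcases ha₁ with h | h
  · obtain ⟨q₁, q₂⟩ := hp h
    obtain rfl : d₁ = 27 := by exact_mod_cast q₁
    obtain rfl : d₂ = 12 := by exact_mod_cast q₂
    exact key ψ₁ ψ₂ rfl hne h (by rw [h] at hprod; omega) (by rw [he₁]; norm_num)
      (by rw [he₂]; norm_num)
  · obtain ⟨q₁, q₂⟩ := hm h
    obtain rfl : d₁ = 12 := by exact_mod_cast q₁
    obtain rfl : d₂ = 27 := by exact_mod_cast q₂
    exact key ψ₂ ψ₁ (Finset.pair_comm _ _) hne.symm (by rw [h] at hprod; omega) h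
      (by rw [he₂]; norm_num) (by rw [he₁]; norm_num)

end Cfsg.Agent.H79.DegGraphSmall.PSL33
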