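import Cfsg.Agent.H79.DegGraphSmall.CharTools
import Cfsg.Agent.H79.DegGraphSmall.PSL33Block

/-!
# Character values at elements of order 2, 3, 4 in a simple group of order 5616
-/

set_option autoImplicit false
set_option linter.unusedSectionVars false
set_option linter.style.haveILetI false

open scoped ComplexConjugate
open Subgroup Cfsg

namespace Cfsg.Agent.H79.DegGraphSmall.PSL33

open Cfsg.Agent.CharBasic Cfsg.Agent.H36

variable {G : Type*} [Group G] [Fintype G] (D : Blk G) (hn : Nat.card G = 5616)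

include D hn

theorem A_eq_zero {g : G} (h : 3 ∣ orderOf g) : (D.A : G → ℂ) g = 0 := by
  haveI : Fact (Nat.Prime 3) := ⟨Nat.prime_three⟩
  refine H84.apply_eq_zero_of_defect_zero D.A ?_ h
  rw [hn, H84.charDegree_of_eq (n := 27) (by rw [D.degA]; norm_num)]
  norm_num

theorem E_eq_zero {g : G} (h : 2 ∣ orderOf g) : (D.E : G → ℂ) g = 0 := by
  haveI : Fact (Nat.Prime 2) := ⟨Nat.prime_two⟩
  refine H84.apply_eq_zero_of_defect_zero D.E ?_ h
  rw [hn, H84.charDegree_of_eq (n := 16) (by rw [D.degE]; norm_num)]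
  norm_num

/-- The column inequality. -/
theorem column_le (g : G) :
    1 + Complex.normSq ((D.A : G → ℂ) g) + Complex.normSq ((D.B : G → ℂ) g) ≤
      (Nat.card (centralizer ({g} : Set G)) : ℝ) := by
  classical
  have h := congrArg Complex.re (second_orthogonality_self (G := G) g)
  rw [Complex.re_sum, Complex.natCast_re] at h
  simp only [Complex.mul_conj, Complex.ofReal_re] at h
  let T := SelfCentral.triv G
  have h1 : (T : G → ℂ) 1 = 1 := rfl
  have hTA : T ≠ D.A := fun h => by
    have := D.degA; rw [← h, h1] at this; norm_num at this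
  have hTB : T ≠ D.B := fun h => by
    have := D.degB; rw [← h, h1] at this; norm_num at this
  have hAB : D.A ≠ D.B := fun h => by
    have := D.degA; rw [h, D.degB] at this; norm_num at this
  have hle := Finset.sum_le_sum_of_subset_of_nonneg (f := fun χ : IrrCharacter G =>
    Complex.normSq ((χ : G → ℂ) g)) (Finset.subset_univ {T, D.A, D.B})
    fun _ _ _ => Complex.normSq_nonneg _
  rw [Finset.sum_insert (by simp [hTA, hTB]), Finset.sum_pair hAB, h,
    show (T : G → ℂ) g = 1 from rfl, map_one] at hle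
  linarith

theorem exists_v : ∃ v : D.P, v ≠ 1 := by
  haveI : Nontrivial D.P := Finite.one_lt_card_iff_nontrivial.1 (by rw [D.card_P]; norm_num)
  exact exists_ne 1

variable [IsSimpleGroup G] (hG : ¬ IsMulCommutative G)

/-- An involution normalises no subgroup of order 13. -/
theorem not_involution_normalizer {b : G} (hb : orderOf b = 2) :
    b ∉ normalizer (D.P : Set G) := fun h => by
  have := Subgroup.orderOf_dvd_natCard _ h
  rw [hb, D.card_normalizer] at this
  norm_num at this

theorem commute_thirteen {g t : G} (hg : orderOf g = 13) (ht : orderOf t = 2) :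
    ¬ Commute t g := by
  intro hc
  haveI : Fact (Nat.Prime 13) := ⟨by norm_num⟩
  have hf : (5616 : ℕ).factorization 13 = 1 := by
    rw [Nat.factorization_def _ (Fact.out : Nat.Prime 13),
      show (5616 : ℕ) = 13 * 432 from rfl, padicValNat.mul (by norm_num) (by norm_num),
      padicValNat.self (by norm_num), padicValNat.eq_zero_of_not_dvd (by norm_num)]
  let S : Sylow 13 G := Sylow.ofCard D.P (by rw [D.card_P, hn, hf, pow_one])
  let R : Sylow 13 G := Sylow.ofCard (zpowers g) (by rw [Nat.card_zpowers, hg, hn, hf, pow_one])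
  obtain ⟨x, hx⟩ := MulAction.exists_smul_eq G R S
  have hmem : x * g * x⁻¹ ∈ D.P := by
    show x * g * x⁻¹ ∈ (S : Subgroup G)
    rw [← hx, Sylow.coe_subgroup_smul, Subgroup.mem_pointwise_smul_iff_inv_smul_mem]
    show (MulAut.conj x)⁻¹ (x * g * x⁻¹) ∈ zpowers g
    rw [MulAut.conj_inv_apply]
    simp [mul_assoc]
  refine not_involution_normalizer D hn (b := x * t * x⁻¹) ?_
    (SelfCentral.mem_normalizer_of_conj (p := 13) D.card_P hmem ?_ ?_)
  · rw [← ht]; exact orderOf_injective (MulAut.conj x).toMonoidHom (MulAut.conj x).injective t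
  · intro h
    rw [conj_eq_one_iff] at h
    rw [h, orderOf_one] at hg; norm_num at hg
  · rwa [show x * t * x⁻¹ * (x * g * x⁻¹) * (x * t * x⁻¹)⁻¹ = x * (t * g * t⁻¹) * x⁻¹ by group,
      hc.eq, mul_inv_cancel_right]

include hG

theorem involution {t : G} (ht : orderOf t = 2) :
    (D.A : G → ℂ) t = 3 ∧ (D.B : G → ℂ) t = 4 ∧
      Nat.card (centralizer ({t} : Set G)) = 48 := by
  classical
  have ht2 : t * t = 1 := by rw [← pow_two, ← ht, pow_orderOf_eq_one]
  have ht1 : t ≠ 1 := fun h => by rw [h, orderOf_one] at ht; norm_num at ht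
  have h13 : ¬ 13 ∣ orderOf t := by rw [ht]; norm_num
  obtain ⟨a, ha, -⟩ := SelfCentral.exists_int_involution D.A ht2 ht1
    (d := 27) (by rw [D.degA]; norm_num)
  have hE := E_eq_zero D hn (g := t) (by rw [ht])
  have hB : (D.B : G → ℂ) t = ((1 + a : ℤ) : ℂ) := by
    have := D.rel t h13
    rw [ha, hE] at this
    push_cast
    linear_combination -this
  obtain ⟨v, hv⟩ := exists_v D hn
  have hn0 : Nat.card {b : G // IsConj t b ∧ IsConj t (b⁻¹ * (v : G))} = 0 := by
    refine Nat.card_eq_zero.2 (Or.inl ⟨fun ⟨b, hb, hbv⟩ => ?_⟩)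
    have ho : ∀ c, IsConj t c → orderOf c = 2 := fun c hc => by
      obtain ⟨x, rfl⟩ := isConj_iff.1 hc
      rw [← ht]; exact orderOf_injective (MulAut.conj x).toMonoidHom (MulAut.conj x).injective t
    have hbb : b * b = 1 := by rw [← pow_two, ← ho b hb, pow_orderOf_eq_one]
    have h2 : b⁻¹ * (v : G) * (b⁻¹ * (v : G)) = 1 := by
      rw [← pow_two, ← ho _ hbv, pow_orderOf_eq_one]
    haveI : Fact (Nat.Prime 13) := ⟨by norm_num⟩
    refine not_involution_normalizer D hn (ho b hb)
      (SelfCentral.mem_normalizer_of_conj D.card_P v.2 (fun h => hv (Subtype.ext h)) ?_)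
    rw [inv_eq_of_mul_eq_one_right hbb] at h2 ⊢
    rw [eq_inv_of_mul_eq_one_left (show b * (v : G) * b * (v : G) = 1 by simpa [mul_assoc] using h2)]
    exact inv_mem v.2
  have hF := D.sum_v t h13 v hv (fun X d => conj X * conj X / d)
  have hform := H83.card_pairs_mul_card t t (v : G)
  rw [hn0, Finset.sum_congr rfl (g := fun χ : IrrCharacter G =>
    conj ((χ : G → ℂ) t) * conj ((χ : G → ℂ) t) / (χ : G → ℂ) 1 * (χ : G → ℂ) v)
    (fun χ _ => by ring), hF, ha, hB, hE, Nat.cast_zero, mul_zero] at hform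
  have hk : ((centralizer ({t} : Set G)).index : ℂ) ≠ 0 :=
    Nat.cast_ne_zero.2 index_ne_zero_of_finite
  have h0 := (mul_eq_zero.1 hform.symm).resolve_left (mul_ne_zero hk hk)
  simp only [map_one, map_intCast, map_zero, zero_mul, zero_div, sub_zero, mul_one, div_one] at h0
  have h1 : (108 + 4 * a * a - 9 * (1 + a) * (1 + a) : ℤ) = 0 := by
    have h' : ((108 + 4 * a * a - 9 * (1 + a) * (1 + a) : ℤ) : ℂ) = 0 := by
      push_cast at h0 ⊢
      linear_combination 108 * h0
    exact_mod_cast h'
  have ha3 : a = 3 := by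
    have h2 : (a - 3) * (5 * a + 33) = 0 := by linear_combination -h1
    rcases mul_eq_zero.1 h2 with h | h <;> omega
  subst ha3
  refine ⟨by rw [ha]; norm_num, by rw [hB]; norm_num, ?_⟩
  set k := (centralizer ({t} : Set G)).index with hkdef
  set c := Nat.card (centralizer ({t} : Set G)) with hcdef
  have hkc : k * c = 5616 := by rw [hkdef, hcdef, index_mul_card, hn]
  have h9 : (9 : ℤ) ∣ (k : ℤ) := by
    have h := H83.omega_class_isIntegral D.A.2 t
    rw [ha, D.degA] at h
    refine H83.int_dvd_of_isIntegral h (by norm_num) ?_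
    push_cast; ring
  obtain ⟨j, hj⟩ := Int.natCast_dvd_natCast.1 (by exact_mod_cast h9 : ((9 : ℕ) : ℤ) ∣ (k : ℤ))
  have hc26 : 26 ≤ c := by
    have h := column_le D hn t
    rw [ha, hB, ← hcdef] at h
    simp only [Complex.normSq_intCast] at h
    push_cast at h
    exact_mod_cast (show (26 : ℝ) ≤ c by linarith)
  have hc13 : ¬ 13 ∣ c := fun h => by
    haveI : Fact (Nat.Prime 13) := ⟨by norm_num⟩
    obtain ⟨w, hw⟩ := exists_prime_orderOf_dvd_card' 13 h
    exact commute_thirteen D hn (g := (w : G)) (by rw [orderOf_coe, hw]) ht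
      (mem_centralizer_iff.1 w.2 t rfl)
  have hcd : c ∣ 624 := ⟨j, by rw [hj] at hkc; nlinarith⟩
  have key : ∀ x ∈ List.range 625, x ∣ 624 → 26 ≤ x → ¬ 13 ∣ x → x = 48 := by decide +kernel
  exact key c (List.mem_range.2 (by have := Nat.le_of_dvd (by norm_num) hcd; omega)) hcd hc26 hc13

/-- The value of the character of degree 27 at elements of order four with small centraliser. -/
theorem order_four {z : G} (hz : orderOf z = 4)
    (hc : Nat.card (centralizer ({z} : Set G)) ≤ 8) : (D.A : G → ℂ) z = -1 := by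
  obtain ⟨n, ρ, hρ, hA⟩ := D.A.2
  have hn27 : n = 27 := by
    have := D.degA
    rw [← hA, Representation.char_one, Module.finrank_fin_fun] at this
    exact_mod_cast this
  have hdet : ∀ g, LinearMap.det (ρ g) = 1 := fun g => congrArg Units.val
    (DFunLike.congr_fun (hom_comm_eq_one hG (MonoidHom.toHomUnits (LinearMap.det.comp ρ))) g)
  obtain ⟨p, q, S, hval, hsq, hpS, hqS, h4⟩ :=
    CharTools.exists_gaussian ρ hdet (z := z) (hz ▸ pow_orderOf_eq_one z)
  have ht : orderOf (z * z) = 2 := by
    rw [← pow_two, orderOf_pow, hz]; norm_num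
  obtain ⟨hA2, -, -⟩ := involution D hn hG ht
  rw [hA] at hsq hval
  rw [hA2] at hsq
  have hS : S = 15 := by
    have : (3 : ℤ) = 2 * S - n := by exact_mod_cast hsq
    omega
  have hB : (D.B : G → ℂ) z = ((p + 1 : ℤ) : ℂ) + (q : ℂ) * Complex.I := by
    have h := D.rel z (by rw [hz]; norm_num)
    rw [E_eq_zero D hn (by rw [hz]; norm_num), hval] at h
    push_cast
    linear_combination -h
  have hcol := column_le D hn z
  rw [hval, hB] at hcol
  simp [Complex.normSq_apply] at hcol
  have hcR : (Nat.card (centralizer ({z} : Set G)) : ℝ) ≤ 8 := by exact_mod_cast hc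
  have hb : (1 + (p * p + q * q) + ((p + 1) * (p + 1) + q * q) : ℤ) ≤ 8 := by
    have : ((1 + (p * p + q * q) + ((p + 1) * (p + 1) + q * q) : ℤ) : ℝ) ≤ 8 := by
      push_cast; linarith
    exact_mod_cast this
  have hp : -2 ≤ p ∧ p ≤ 2 := by constructor <;> nlinarith
  have hq : -1 ≤ q ∧ q ≤ 1 := by constructor <;> nlinarith
  obtain ⟨rfl, rfl⟩ : p = -1 ∧ q = 0 := by omega
  rw [hval]; simp

/-- No element of order three commutes with a group of order four. -/
theorem not_four_centralizes_three {y : G} (hy : orderOf y = 3) (R : Subgroup G)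
    (hR : Nat.card R = 4) (hcomm : ∀ r ∈ R, Commute r y) : False := by
  classical
  haveI : Fintype R := Fintype.ofFinite R
  have hAy := A_eq_zero D hn (g := y) (by rw [hy])
  have hEr : ∀ r : R, r ≠ 1 → (D.E : G → ℂ) (y * r) = 0 := by
    intro r hr
    have h4 : orderOf (r : G) ∣ 4 := hR ▸ Subgroup.orderOf_dvd_natCard _ r.2
    refine E_eq_zero D hn ?_
    rw [((hcomm r r.2).symm).orderOf_mul_eq_mul_orderOf_of_coprime
      (by rw [hy]; exact Nat.Coprime.coprime_dvd_right h4 (by norm_num))]
    refine dvd_mul_of_dvd_right ?_ _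
    have h1 : orderOf (r : G) ≠ 1 := by rwa [orderOf_coe, Ne, orderOf_eq_one_iff]
    obtain ⟨i, hi, hri⟩ := (Nat.dvd_prime_pow Nat.prime_two).1 (show orderOf (r : G) ∣ 2 ^ 2 from h4)
    rcases Nat.eq_zero_or_pos i with rfl | hi0
    · simp [hri] at h1
    · rw [hri]; exact dvd_pow_self 2 (by omega)
  have hint := CharTools.isIntegral_average (IsIrr.isCharacter D.E.2) y R hcomm
  rw [Finset.sum_eq_single (1 : R) (fun r _ hr => hEr r hr) (fun h => absurd (Finset.mem_univ _) h),
    OneMemClass.coe_one, mul_one, hR] at hint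
  obtain ⟨n, ρ, hρ, hE⟩ := D.E.2
  have hn16 : n = 16 := by
    have := D.degE
    rw [← hE, Representation.char_one, Module.finrank_fin_fun] at this
    exact_mod_cast this
  obtain ⟨M, hM0, hM⟩ := CharTools.exists_eisenstein ρ (y := y) (hy ▸ pow_orderOf_eq_one y)
    (by rw [hn16]; norm_num)
  rw [hE] at hM
  set ε := (D.E : G → ℂ) y with hε
  have h64 : (64 : ℤ) ∣ (M : ℤ) := by
    refine H83.int_dvd_of_isIntegral (hint.mul (map_isIntegral_int (starRingEnd ℂ) hint))
      (by norm_num) ?_
    rw [map_div₀, map_natCast, div_mul_div_comm, Complex.mul_conj]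
    have : ((M : ℝ) : ℂ) = ((4 * Complex.normSq ε : ℝ) : ℂ) := by rw [hM]
    push_cast at this ⊢
    rw [this]; ring
  have hεsq : 16 ≤ Complex.normSq ε := by
    have : (64 : ℤ) ≤ M := Int.le_of_dvd (by omega) h64
    have : (64 : ℝ) ≤ M := by exact_mod_cast this
    linarith
  -- class multiplication with the inverse
  obtain ⟨v, hv⟩ := exists_v D hn
  have h13 : ¬ 13 ∣ orderOf y := by rw [hy]; norm_num
  have hB : (D.B : G → ℂ) y = 1 - ε := by
    have h := D.rel y h13
    rw [hAy, ← hε] at h
    linear_combination -h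
  have hF := D.sum_v y h13 v hv (fun X d => conj X * X / d)
  have hform := H83.card_pairs_mul_card y y⁻¹ (v : G)
  rw [Finset.sum_congr rfl (g := fun χ : IrrCharacter G =>
    conj ((χ : G → ℂ) y) * (χ : G → ℂ) y / (χ : G → ℂ) 1 * (χ : G → ℂ) v)
    (fun χ _ => by
      rw [IsChar.inv_apply (IsIrr.isCharacter χ.2), Complex.conj_conj]; ring), hF, hAy, hB,
    ← hε] at hform
  have h2 := congrArg Complex.re hform
  have hsimp : ∀ x : ℂ, conj x * x = ((Complex.normSq x : ℝ) : ℂ) := fun x => by
    rw [mul_comm]; exact Complex.mul_conj x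
  rw [hsimp, hsimp, hsimp, hsimp] at h2
  simp only [map_one, map_zero, Complex.ofReal_one, Complex.ofReal_zero, zero_div, add_zero,
    Complex.mul_re, Complex.mul_im, Complex.natCast_re, Complex.natCast_im, Complex.sub_re,
    Complex.div_ofNat_re, Complex.one_re, Complex.ofReal_re, mul_zero, zero_mul, sub_zero,
    div_one] at h2
  have hpos : (0 : ℝ) ≤ 1 - Complex.normSq (1 - ε) / 12 - Complex.normSq ε / 16 := by
    have hk : (0 : ℝ) < ((centralizer ({y} : Set G)).index : ℝ) *
        ((centralizer ({y⁻¹} : Set G)).index : ℝ) := by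
      have h1 : (centralizer ({y} : Set G)).index ≠ 0 := index_ne_zero_of_finite
      have h2 : (centralizer ({y⁻¹} : Set G)).index ≠ 0 := index_ne_zero_of_finite
      positivity
    have h0 : (0 : ℝ) ≤ (Nat.card G : ℝ) *
        (Nat.card {a : G // IsConj y a ∧ IsConj y⁻¹ (a⁻¹ * (v : G))} : ℝ) := by positivity
    rw [h2] at h0
    exact nonneg_of_mul_nonneg_right h0 hk
  have hB0 : Complex.normSq (1 - ε) = 0 := by
    have := Complex.normSq_nonneg (1 - ε); linarith
  rw [Complex.normSq_eq_zero, sub_eq_zero] at hB0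
  rw [← hB0, map_one] at hεsq
  norm_num at hεsq

end Cfsg.Agent.H79.DegGraphSmall.PSL33
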