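import Cfsg.Agent.H79.DegGraphSmall.SylowGood
import Cfsg.Agent.Hall.MinimalNormal

/-!
# Solvable groups with a small Sylow number, and the nonabelian section of a small group
-/

set_option autoImplicit false
set_option linter.unusedSectionVars false
set_option linter.style.haveILetI false

open Subgroup

namespace Cfsg.Agent.H79.DegGraphSmall

universe u

/-- In a solvable group a Sylow number `q ^ v`, with no smaller good power, forces an abelian normal
Sylow `q`-subgroup. -/
theorem exists_abelian_of_solvable {p q v : ℕ} [hp : Fact p.Prime] (hq : q.Prime) (hv : v ≠ 0)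
    (hsmall : ∀ j, 0 < j → j < v → q ^ j % p ≠ 1) :
    ∀ (G : Type u) [Group G] [Finite G] [Group.IsSolvable G], p ∣ Nat.card G →
      ¬ p ^ 2 ∣ Nat.card G → ¬ q ^ (v + 1) ∣ Nat.card G → Nat.card (Sylow p G) = q ^ v →
      ∃ V : Subgroup G, V.Normal ∧ (∀ a ∈ V, ∀ b ∈ V, a * b = b * a) ∧ Nat.card V = q ^ v := by
  intro G
  induction hn : Nat.card G using Nat.strong_induction_on generalizing G with
  | _ n ih =>
    intro _ _ _ hpG hp2 hq2 hs
    subst hn
    haveI := Fact.mk hq
    haveI : Nontrivial G := Finite.one_lt_card_iff_nontrivial.1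
      (lt_of_lt_of_le hp.out.one_lt (Nat.le_of_dvd Nat.card_pos hpG))
    obtain ⟨M, r, hM, hMb, hr, hMr, hMc, -⟩ := Hall.exists_minimal_normal_pgroup (G := G)
    haveI := Fact.mk hr
    haveI := hM
    obtain ⟨j, hj⟩ := IsPGroup.iff_card.1 hMr
    have hjpos : 0 < j := by
      by_contra h
      rw [show j = 0 by omega, pow_zero, card_eq_one] at hj
      exact hMb hj
    have hqv : q ^ v ∣ Nat.card G := by
      obtain ⟨P⟩ := Sylow.nonempty (p := p) (G := G)
      rw [← hs]
      exact P.card_dvd_index.trans (index_dvd_card _)
    rcases card_sylow_of_normal hpG hp2 M with ⟨hpM, heq⟩ | ⟨hpM, hpQ, k, hk0, hk, heq⟩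
    · -- the Sylow subgroup is normal
      exfalso
      haveI hcM : IsMulCommutative M := hMc
      obtain ⟨P⟩ := Sylow.nonempty (p := p) (G := M)
      haveI : (P : Subgroup M).Normal :=
        ⟨fun n hn g => by rw [hcM.is_comm.comm g n, mul_inv_cancel_right]; exact hn⟩
      haveI := Sylow.unique_of_normal P inferInstance
      rw [hs, Nat.card_unique (α := Sylow p M)] at heq
      have := Nat.one_lt_pow hv hq.one_lt
      omega
    have hprod : Nat.card G = Nat.card (G ⧸ M) * Nat.card M :=
      card_eq_card_quotient_mul_card_subgroup M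
    obtain ⟨Pb⟩ := Sylow.nonempty (p := p) (G := G ⧸ M)
    have hnb : Nat.card (Sylow p (G ⧸ M)) ∣ Nat.card (G ⧸ M) :=
      Pb.card_dvd_index.trans (index_dvd_card _)
    rw [hs] at heq
    obtain ⟨i, hiv, hi⟩ := (Nat.dvd_prime_pow hq).1 (Dvd.intro_left _ heq.symm : k ∣ q ^ v)
    by_cases hrq : r = q
    · -- a normal subgroup of `q`-power order
      subst hrq
      have hjv : j ≤ v := by
        by_contra h
        exact hq2 ((pow_dvd_pow r (show v + 1 ≤ j by omega)).trans (hj ▸ card_subgroup_dvd_card M))
      rcases eq_or_lt_of_le hjv with h | hlt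
      · exact ⟨M, hM, fun a ha b hb => congrArg Subtype.val (hMc.is_comm.comm (⟨a, ha⟩ : M) ⟨b, hb⟩),
          by rw [hj, h]⟩
      exfalso
      rcases Nat.eq_zero_or_pos i with h0 | hipos
      · rw [hi, h0, pow_zero, mul_one] at heq
        rw [← heq] at hnb
        have : r ^ (v + j) ∣ Nat.card G := by
          rw [hprod, pow_add, hj]; exact mul_dvd_mul_right hnb _
        exact hq2 ((pow_dvd_pow r (show v + 1 ≤ v + j by omega)).trans this)
      · have hg := hk r hr
        rw [hi, hr.factorization_pow, Finsupp.single_eq_same] at hg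
        rcases eq_or_lt_of_le hiv with rfl | hlt'
        · rw [hi] at heq
          have h1 : Nat.card (Sylow p (G ⧸ M)) = 1 :=
            (mul_eq_right₀ (pow_ne_zero _ hr.ne_zero)).1 heq.symm
          obtain ⟨P⟩ := Sylow.nonempty (p := p) (G := G)
          -- the index of the centralizer in `M` is at most `|M|`
          have hb : r ^ i ≤ r ^ j := by
            have hcard : Nat.card (Sylow p G) ≤ Nat.card M := by
              have hK := H78.card_sylow_product M P _ rfl
              have hN : Nat.card (Sylow p M) = 1 := card_sylow_eq_one_of_not_dvd hpM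
              rw [h1, hN, one_mul, one_mul] at hK
              rw [hK]
              set N := ((P : Subgroup G) ⊔ M) ⊓
                normalizer (((P : Subgroup G) ⊓ M : Subgroup G) : Set G)
              obtain ⟨R⟩ := Sylow.nonempty (p := p) (G := N)
              have hd : Nat.card (Sylow p N) ∣ (R : Subgroup N).index := R.card_dvd_index
              have hPN : Nat.card N ∣ Nat.card ((P : Subgroup G) ⊔ M : Subgroup G) :=
                card_dvd_of_le inf_le_left
              have hsup : Nat.card ((P : Subgroup G) ⊔ M : Subgroup G) ∣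
                  Nat.card (P : Subgroup G) * Nat.card M :=
                ⟨_, (Cores.card_sup_mul_card_inf (P : Subgroup G) M).symm⟩
              obtain ⟨a, ha⟩ := IsPGroup.iff_card.1 P.2
              rw [ha, hj] at hsup
              have hidx : (R : Subgroup N).index ∣ r ^ j := by
                have hcop : Nat.Coprime (R : Subgroup N).index (p ^ a) :=
                  Nat.Coprime.pow_right _ ((hp.out.coprime_iff_not_dvd).2 R.not_dvd_index).symm
                exact hcop.dvd_of_dvd_mul_left ((index_dvd_card _).trans (hPN.trans hsup))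
              rw [hj]
              exact Nat.le_of_dvd (pow_pos hr.pos _) (hd.trans hidx)
            rwa [hs, hj] at hcard
          have := (Nat.pow_le_pow_iff_right hr.one_lt).1 hb
          omega
        · exact hsmall i hipos hlt' hg
    · -- `r ≠ q`
      have hqM : ¬ q ∣ Nat.card M := fun h => hrq
        ((Nat.prime_dvd_prime_iff_eq hq hr).1 (hq.dvd_of_dvd_pow (hj ▸ h))).symm
      obtain ⟨P⟩ := Sylow.nonempty (p := p) (G := G)
      have hf : (Nat.card G).factorization p = 1 :=
        le_antisymm (Nat.le_of_lt_succ (by
          by_contra h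
          exact hp2 ((hp.out.pow_dvd_iff_le_factorization Nat.card_pos.ne').2 (by omega))))
          ((hp.out.dvd_iff_one_le_factorization Nat.card_pos.ne').1 hpG)
      have hP : Nat.card (P : Subgroup G) = p := by rw [P.card_eq_multiplicity, hf, pow_one]
      -- the centralizer of `M` contains every Sylow `p`-subgroup
      have hall : ∀ S : Sylow p G, (S : Subgroup G) ≤ centralizer (M : Set G) := by
        intro S
        have hS : Nat.card (S : Subgroup G) = p := by rw [S.card_eq_multiplicity, hf, pow_one]
        have hK := H78.card_sylow_product M S _ rfl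
        rw [hs, card_sylow_eq_one_of_not_dvd hpM, mul_one] at hK
        set N := ((S : Subgroup G) ⊔ M) ⊓
          normalizer (((S : Subgroup G) ⊓ M : Subgroup G) : Set G) with hNdef
        have hbot : (S : Subgroup G) ⊓ M = ⊥ := inf_eq_bot_of_coprime (by
          rw [hS]; exact hp.out.coprime_iff_not_dvd.2 hpM)
        have hNeq : N = (S : Subgroup G) ⊔ M := by
          rw [hNdef, hbot]
          refine inf_of_le_left fun g _ => mem_normalizer_iff.2 fun x => ?_
          simp
        have hSN : (S : Subgroup G) ≤ N := hNeq ▸ le_sup_left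
        have hdq : Nat.card (Sylow p N) ∣ q ^ v := Dvd.intro_left _ hK.symm
        have hdr : Nat.card (Sylow p N) ∣ r ^ j := by
          obtain ⟨R⟩ := Sylow.nonempty (p := p) (G := N)
          have hsup : Nat.card ((S : Subgroup G) ⊔ M : Subgroup G) ∣ p * r ^ j := by
            have := Cores.card_sup_mul_card_inf (S : Subgroup G) M
            rw [hS, hj] at this
            exact ⟨_, this.symm⟩
          have hcop : Nat.Coprime (R : Subgroup N).index p :=
            ((hp.out.coprime_iff_not_dvd).2 R.not_dvd_index).symm
          exact R.card_dvd_index.trans (hcop.dvd_of_dvd_mul_left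
            ((index_dvd_card _).trans ((card_dvd_of_le inf_le_left).trans hsup)))
        have hn1 : Nat.card (Sylow p N) = 1 := Nat.eq_one_of_dvd_coprimes
          ((Nat.coprime_primes hq hr).2 (Ne.symm hrq) |>.pow _ _) hdq hdr
        rw [H78.card_sylow_eq_relIndex_of_le N S hSN, relIndex_eq_one] at hn1
        intro s hs m hm
        have hnorm := hn1 (show m ∈ N by rw [hNeq]; exact mem_sup_right hm)
        have h1 : s * m * s⁻¹ * m⁻¹ ∈ (S : Subgroup G) ⊓ M := by
          refine ⟨?_, M.mul_mem (hM.conj_mem m hm s) (M.inv_mem hm)⟩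
          rw [show s * m * s⁻¹ * m⁻¹ = s * (m * s⁻¹ * m⁻¹) by group]
          exact (S : Subgroup G).mul_mem hs
            ((mem_normalizer_iff.1 hnorm _).1 ((S : Subgroup G).inv_mem hs))
        rw [hbot, mem_bot, mul_inv_eq_one, mul_inv_eq_iff_eq_mul] at h1
        exact h1.symm
      set C := centralizer (M : Set G) with hCdef
      haveI : C.Normal := hCdef ▸ inferInstance
      have hCp : p ∣ Nat.card C := hP ▸ card_dvd_of_le (hall P)
      have hCs : Nat.card (Sylow p C) = q ^ v := by
        rcases card_sylow_of_normal hpG hp2 C with ⟨-, h⟩ | ⟨h, -⟩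
        · rw [← h, hs]
        · exact absurd hCp h
      have hCq : q ^ v ∣ Nat.card C := by
        obtain ⟨R⟩ := Sylow.nonempty (p := p) (G := C)
        rw [← hCs]
        exact R.card_dvd_index.trans (index_dvd_card _)
      -- the image in the quotient
      have hi0 : i = 0 := by
        by_contra h
        obtain ⟨R⟩ := Sylow.nonempty (p := p) (G := G)
        have hK := H78.card_sylow_product M R _ rfl
        rw [card_sylow_eq_one_of_not_dvd hpM, mul_one, hs] at hK
        have hRC := hall R
        have hN1 : Nat.card (Sylow p (((R : Subgroup G) ⊔ M) ⊓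
            normalizer (((R : Subgroup G) ⊓ M : Subgroup G) : Set G) : Subgroup G)) = 1 := by
          set N := ((R : Subgroup G) ⊔ M) ⊓
            normalizer (((R : Subgroup G) ⊓ M : Subgroup G) : Set G) with hNdef
          have hRN : (R : Subgroup G) ≤ N := le_inf le_sup_left (by
            intro g hg
            rw [mem_normalizer_iff]
            intro x
            simp only [Subgroup.mem_inf]
            refine and_congr (mem_normalizer_iff.1 (le_normalizer hg) x) ⟨fun h => hM.conj_mem x h g,
              fun h => by simpa [mul_assoc] using hM.conj_mem _ h g⁻¹⟩)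
          rw [H78.card_sylow_eq_relIndex_of_le N R hRN, relIndex_eq_one]
          refine le_trans inf_le_left (sup_le le_normalizer fun m hm => ?_)
          exact centralizer_le_normalizer _ fun x hx => (hRC hx m hm).symm
        rw [hN1, mul_one] at hK
        rw [← hK, hi] at heq
        exact h ((Nat.pow_eq_one.1 ((mul_eq_left₀ (pow_ne_zero _ hq.ne_zero)).1 heq.symm)).resolve_left
          hq.one_lt.ne')
      rw [hi, hi0, pow_zero, mul_one] at heq
      have hlt : Nat.card (G ⧸ M) < Nat.card G := by
        rw [hprod]
        exact lt_mul_of_one_lt_right Nat.card_pos ((one_lt_card_iff_ne_bot M).2 hMb)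
      obtain ⟨V, hV, hVc, hVcard⟩ := ih _ hlt (G ⧸ M) rfl hpQ
        (fun h => hp2 (h.trans (Dvd.intro _ hprod.symm)))
        (fun h => hq2 (h.trans (Dvd.intro _ hprod.symm))) heq.symm
      haveI := hV
      set W := V.comap (QuotientGroup.mk' M)
      have hMW : M ≤ W := fun m hm => by
        show (m : G ⧸ M) ∈ V
        rw [(QuotientGroup.eq_one_iff m).2 hm]; exact one_mem V
      obtain ⟨Q⟩ := Sylow.nonempty (p := q) (G := W)
      have hWcard : Nat.card W = q ^ v * Nat.card M := by
        have h1 := V.card_mul_index
        have h2 := W.card_mul_index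
        rw [index_comap_of_surjective V (QuotientGroup.mk'_surjective M)] at h2
        rw [hVcard] at h1
        have h0 : V.index ≠ 0 := index_ne_zero_of_finite
        apply Nat.eq_of_mul_eq_mul_right (Nat.pos_of_ne_zero h0)
        rw [h2, hprod, ← h1]; ring
      have hQcard : Nat.card (Q : Subgroup W) = q ^ v := by
        rw [Q.card_eq_multiplicity, hWcard, Nat.factorization_mul (pow_ne_zero _ hq.ne_zero)
          Nat.card_pos.ne', Finsupp.add_apply, hq.factorization_pow, Finsupp.single_eq_same,
          Nat.factorization_eq_zero_of_not_dvd hqM, add_zero]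
      set U := (Q : Subgroup W).map W.subtype
      have hUcard : Nat.card U = q ^ v := by rw [card_map_of_injective W.subtype_injective, hQcard]
      -- `U` centralizes `M`
      have hUC : U ≤ C := by
        have hidx : ¬ q ∣ C.index := fun h => hq2 (by
          rw [← C.card_mul_index, pow_succ]; exact mul_dvd_mul hCq h)
        intro u hu
        rw [← QuotientGroup.eq_one_iff (N := C)]
        apply orderOf_eq_one_iff.1
        have h1 : orderOf (u : G ⧸ C) ∣ q ^ v := by
          refine (orderOf_map_dvd (QuotientGroup.mk' C) u).trans ?_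
          rw [← hUcard]
          exact Subgroup.orderOf_dvd_natCard U hu
        have h2 : orderOf (u : G ⧸ C) ∣ C.index := _root_.orderOf_dvd_natCard _
        exact Nat.eq_one_of_dvd_coprimes
          ((hq.coprime_iff_not_dvd.2 hidx).pow_left _) h1 h2
      have hinf : U ⊓ M = ⊥ := inf_eq_bot_of_coprime (by
        rw [hUcard]; exact (hq.coprime_iff_not_dvd.2 hqM).pow_left _)
      have hUW : U ≤ W := map_subtype_le _
      have hab : ∀ a ∈ U, ∀ b ∈ U, a * b = b * a := by
        intro a ha b hb
        have h1 : a * b * (b * a)⁻¹ ∈ U ⊓ M := by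
          refine ⟨U.mul_mem (U.mul_mem ha hb) (U.inv_mem (U.mul_mem hb ha)), ?_⟩
          show a * b * (b * a)⁻¹ ∈ M
          rw [← QuotientGroup.eq_one_iff (N := M)]
          have h2 := hVc _ (hUW ha) _ (hUW hb)
          simp only [QuotientGroup.mk'_apply] at h2
          rw [QuotientGroup.mk_mul, QuotientGroup.mk_inv, QuotientGroup.mk_mul, QuotientGroup.mk_mul,
            h2, mul_inv_cancel]
        rw [hinf, mem_bot, mul_inv_eq_one] at h1
        exact h1
      -- `U` is the unique Sylow subgroup of `W`
      have hWU : W ≤ normalizer (U : Set G) := by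
        have hsup : U ⊔ M = W := eq_of_le_of_card_ge (sup_le hUW hMW) (by
          have := Cores.card_sup_mul_card_inf U M
          rw [hinf, card_bot, mul_one, hUcard] at this
          rw [this, hWcard])
        rw [← hsup]
        exact sup_le le_normalizer (le_trans (le_centralizer_iff.1 hUC) (centralizer_le_normalizer _))
      haveI : (Q : Subgroup W).Normal := by
        refine ⟨fun n hn g => ?_⟩
        have h := (mem_normalizer_iff.1 (hWU g.2) (n : G)).1 ⟨n, hn, rfl⟩
        obtain ⟨m, hm, hmn⟩ := h
        have : m = g * n * g⁻¹ := Subtype.ext hmn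
        exact this ▸ hm
      haveI := Sylow.characteristic_of_normal Q inferInstance
      exact ⟨U, ConjAct.normal_of_characteristic_of_normal, hab, hUcard⟩

/-- A nonsolvable group has order at least sixty. -/
theorem sixty_le_card : ∀ (G : Type u) [Group G] [Finite G], ¬ Group.IsSolvable G →
    60 ≤ Nat.card G := by
  intro G
  induction hn : Nat.card G using Nat.strong_induction_on generalizing G with
  | _ n ih =>
    intro _ _ hns
    subst hn
    by_contra hlt
    haveI : Nontrivial G := by
      by_contra h
      rw [not_nontrivial_iff_subsingleton] at h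
      exact hns inferInstance
    by_cases hs : IsSimpleGroup G
    · have hna : ¬ IsMulCommutative G := fun h => hns
        ((IsSimpleGroup.comm_iff_isSolvable (G := G)).1 fun a b => h.is_comm.comm a b)
      have := simple_order_cases hna (by omega)
      simp only [Finset.mem_insert, Finset.mem_singleton] at this
      omega
    obtain ⟨K, hK, hKb, hKt⟩ : ∃ K : Subgroup G, K.Normal ∧ K ≠ ⊥ ∧ K ≠ ⊤ := by
      by_contra h
      exact hs ⟨fun H hH => or_iff_not_imp_left.2 fun hb => by_contra fun ht => h ⟨H, hH, hb, ht⟩⟩
    haveI := hK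
    have hKlt : Nat.card K < Nat.card G :=
      lt_of_le_of_ne (card_le_card_group K) fun h => hKt (eq_top_of_card_eq K h)
    have hQlt : Nat.card (G ⧸ K) < Nat.card G := by
      rw [card_eq_card_quotient_mul_card_subgroup K]
      exact lt_mul_of_one_lt_right Nat.card_pos ((one_lt_card_iff_ne_bot K).2 hKb)
    by_cases h1 : Group.IsSolvable K
    · by_cases h2 : Group.IsSolvable (G ⧸ K)
      · exact hns (Group.isSolvable_of_ker_le_range K.subtype (QuotientGroup.mk' K) (by simp))
      · have := ih _ hQlt (G ⧸ K) rfl h2; omega
    · have := ih _ hKlt K rfl h1; omega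

/-- A nonsolvable group of order less than 3600 has a quotient with a simple normal subgroup with
trivial centralizer. -/
theorem exists_almost_simple {G : Type u} [Group G] [Finite G] (hns : ¬ Group.IsSolvable G)
    (hlt : Nat.card G < 3600) :
    ∃ C : Subgroup G, ∃ _ : C.Normal, ∃ H : Subgroup (G ⧸ C), H.Normal ∧ IsSimpleGroup H ∧
      ¬ IsMulCommutative H ∧ centralizer (H : Set (G ⧸ C)) = ⊥ := by
  classical
  obtain ⟨L, hL, hmax⟩ :=
    (Set.toFinite {N : Subgroup G | N.Normal ∧ Group.IsSolvable N}).exists_maximal
      ⟨⊥, inferInstance, inferInstance⟩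
  obtain ⟨hLn, hLs⟩ := hL
  haveI := hLn
  haveI := hLs
  set X := G ⧸ L
  have hrad : ∀ N : Subgroup X, N.Normal → Group.IsSolvable N → N = ⊥ := by
    intro N hN hNs
    haveI := hN
    haveI := hNs
    set W := N.comap (QuotientGroup.mk' L)
    have hLW : L ≤ W := fun x hx => by
      show (x : X) ∈ N
      rw [(QuotientGroup.eq_one_iff x).2 hx]; exact one_mem N
    haveI : Group.IsSolvable W := by
      refine Group.isSolvable_of_ker_le_range (Subgroup.inclusion hLW)
        ((QuotientGroup.mk' L).subgroupComap N) ?_
      intro w hw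
      have h : QuotientGroup.mk' L (w : G) = 1 := congrArg Subtype.val hw
      exact ⟨⟨w, (QuotientGroup.eq_one_iff _).1 h⟩, Subtype.ext rfl⟩
    have hWL : W ≤ L := hmax ⟨inferInstance, ‹_›⟩ hLW
    rw [eq_bot_iff]
    intro x hx
    obtain ⟨g, rfl⟩ := QuotientGroup.mk'_surjective L x
    exact (QuotientGroup.eq_one_iff g).2 (hWL hx)
  haveI : Nontrivial X := by
    by_contra h
    rw [not_nontrivial_iff_subsingleton] at h
    apply hns
    exact Group.isSolvable_of_ker_le_range L.subtype (QuotientGroup.mk' L) (by simp)
  obtain ⟨M, hM, hMb, -, hmin⟩ := Hall.exists_minimal_normal_le (⊤ : Subgroup X) top_ne_bot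
  haveI := hM
  have hMns : ¬ Group.IsSolvable M := fun h => hMb (hrad M hM h)
  haveI : Nontrivial M := (nontrivial_iff_ne_bot M).2 hMb
  have hperf : ∀ N : Subgroup M, N.Characteristic → N = ⊥ ∨ N = ⊤ := by
    intro N hN
    haveI := hN
    rcases hmin (N.map M.subtype) ConjAct.normal_of_characteristic_of_normal (map_subtype_le _)
      with h | h
    · exact Or.inl ((map_eq_bot_iff_of_injective N M.subtype_injective).1 h)
    · exact Or.inr (map_injective M.subtype_injective (h.trans
        (by rw [← MonoidHom.range_eq_map, range_subtype])))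
  have hMcard : Nat.card M < 3600 := lt_of_le_of_lt
    ((card_le_card_group M).trans
      (Nat.le_of_dvd Nat.card_pos (Dvd.intro _ (card_eq_card_quotient_mul_card_subgroup L).symm))) hlt
  have hMsimple : IsSimpleGroup M := by
    refine ⟨fun N hN => ?_⟩
    by_contra hcon
    push Not at hcon
    obtain ⟨hNb, hNt⟩ := hcon
    haveI := hN
    have hNns : ¬ Group.IsSolvable N := by
      intro hNs
      -- otherwise the solvable radical of `M` is nontrivial
      obtain ⟨R, hR, hRmax⟩ :=
        (Set.toFinite {T : Subgroup M | T.Normal ∧ Group.IsSolvable T}).exists_maximal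
          ⟨N, hN, hNs⟩
      obtain ⟨hRn, hRs⟩ := hR
      have htop : ∀ T : Subgroup M, T.Normal → Group.IsSolvable T → T ≤ R := by
        intro T hT hTs
        haveI := hRn; haveI := hT; haveI := hRs; haveI := hTs
        haveI : Group.IsSolvable (R ⊔ T : Subgroup M) := by
          let φ : (R ⊔ T : Subgroup M) →* M ⧸ R := (QuotientGroup.mk' R).comp (R ⊔ T).subtype
          let ψ : T →* M ⧸ R := (QuotientGroup.mk' R).comp T.subtype
          haveI : Group.IsSolvable ψ.range := Group.isSolvable_of_surjective ψ.rangeRestrict_surjective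
          have hran : φ.range ≤ ψ.range := by
            rintro _ ⟨⟨x, hx⟩, rfl⟩
            obtain ⟨a, ha, b, hb, rfl⟩ := mem_sup_of_normal_left.1 hx
            refine ⟨⟨b, hb⟩, ?_⟩
            show (QuotientGroup.mk' R) b = (QuotientGroup.mk' R) (a * b)
            rw [map_mul, show (QuotientGroup.mk' R) a = 1 from (QuotientGroup.eq_one_iff a).2 ha,
              one_mul]
          haveI : Group.IsSolvable φ.range :=
            Group.isSolvable_of_isSolvable_injective (Subgroup.inclusion_injective hran)
          refine Group.isSolvable_of_ker_le_range (Subgroup.inclusion (le_sup_left : R ≤ R ⊔ T))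
            φ.rangeRestrict ?_
          intro w hw
          rw [MonoidHom.ker_rangeRestrict] at hw
          exact ⟨⟨w, (QuotientGroup.eq_one_iff _).1 hw⟩, Subtype.ext rfl⟩
        exact le_sup_right.trans (hRmax ⟨inferInstance, ‹_›⟩ le_sup_left)
      haveI : R.Characteristic := by
        rw [characteristic_iff_map_le]
        intro σ
        haveI := hRn; haveI := hRs
        exact htop _ (Subgroup.Normal.map hRn σ.toMonoidHom σ.surjective)
          (Group.isSolvable_of_surjective (σ.toMonoidHom.subgroupMap_surjective R))
      rcases hperf R inferInstance with h | h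
      · exact hNb (le_bot_iff.1 (h ▸ htop N hN hNs))
      · subst h
        exact hMns (Group.isSolvable_of_surjective
          (f := (⊤ : Subgroup M).subtype) fun m => ⟨⟨m, mem_top m⟩, rfl⟩)
    have hQns : ¬ Group.IsSolvable (M ⧸ N) := by
      intro h
      haveI := h
      rcases hperf (commutator M) inferInstance with hc | hc
      · apply hMns
        rw [_root_.commutator_def, commutator_eq_bot_iff_le_centralizer] at hc
        exact Group.isSolvable_of_comm fun a b =>
          (mem_centralizer_iff.1 (hc (mem_top a)) b (mem_top b)).symm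
      · apply hNt
        haveI : Nontrivial (M ⧸ N) := QuotientGroup.nontrivial_iff.2 hNt
        exfalso
        have hlt := Group.IsSolvable.commutator_lt_top_of_nontrivial (G := M ⧸ N)
        apply hlt.ne
        rw [_root_.commutator_def, ← Subgroup.map_top_of_surjective (QuotientGroup.mk' N)
          (QuotientGroup.mk'_surjective N), ← Subgroup.map_commutator, ← _root_.commutator_def, hc]
    have h1 := sixty_le_card N hNns
    have h2 := sixty_le_card (M ⧸ N) hQns
    have h3 := card_eq_card_quotient_mul_card_subgroup N
    nlinarith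
  haveI := hMsimple
  have hMna : ¬ IsMulCommutative M := fun h => hMns
    ((IsSimpleGroup.comm_iff_isSolvable (G := M)).1 fun a b => h.is_comm.comm a b)
  set D := centralizer (M : Set X)
  haveI : D.Normal := inferInstance
  set C := D.comap (QuotientGroup.mk' L)
  haveI : C.Normal := inferInstance
  let e : G ⧸ C →* X ⧸ D := QuotientGroup.map C D (QuotientGroup.mk' L) le_rfl
  have he : Function.Bijective e := by
    refine ⟨?_, ?_⟩
    · rw [← MonoidHom.ker_eq_bot_iff, eq_bot_iff]
      intro x hx
      obtain ⟨g, rfl⟩ := QuotientGroup.mk'_surjective C x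
      have h : (QuotientGroup.mk' D) (QuotientGroup.mk' L g) = 1 := hx
      exact (QuotientGroup.eq_one_iff g).2
        (show g ∈ C from (QuotientGroup.eq_one_iff (QuotientGroup.mk' L g)).1 h)
    · intro y
      obtain ⟨x, rfl⟩ := QuotientGroup.mk'_surjective D y
      obtain ⟨g, rfl⟩ := QuotientGroup.mk'_surjective L x
      exact ⟨g, rfl⟩
  let ee := MulEquiv.ofBijective e he
  set H' := M.map (QuotientGroup.mk' D)
  have hinj : Function.Injective ((QuotientGroup.mk' D).subgroupMap M) := by
    rw [← MonoidHom.ker_eq_bot_iff, eq_bot_iff]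
    intro m hm
    have h : (QuotientGroup.mk' D) (m : X) = 1 := congrArg Subtype.val hm
    have hmD : (m : X) ∈ D := (QuotientGroup.eq_one_iff _).1 h
    have hz : m ∈ center M := mem_center_iff.2 fun g =>
      Subtype.ext (mem_centralizer_iff.1 hmD g g.2)
    rwa [H36.center_eq_bot_of_simple hMna] at hz
  let iso := MulEquiv.ofBijective _ ⟨hinj, (QuotientGroup.mk' D).subgroupMap_surjective M⟩
  have hH'n : H'.Normal := Subgroup.Normal.map hM _ (QuotientGroup.mk'_surjective D)
  have hH'c : centralizer (H' : Set (X ⧸ D)) = ⊥ := by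
    rw [eq_bot_iff]
    intro y hy
    obtain ⟨x, rfl⟩ := QuotientGroup.mk'_surjective D y
    refine (QuotientGroup.eq_one_iff x).2 fun m hm => ?_
    have h := mem_centralizer_iff.1 hy _ ⟨m, hm, rfl⟩
    rw [← map_mul, ← map_mul, QuotientGroup.mk'_apply, QuotientGroup.mk'_apply,
      QuotientGroup.eq] at h
    have hMm : (m * x)⁻¹ * (x * m) ∈ M := by
      rw [show (m * x)⁻¹ * (x * m) = x⁻¹ * m⁻¹ * x * m by group]
      refine M.mul_mem ?_ hm
      have := hM.conj_mem _ (M.inv_mem hm) x⁻¹
      rwa [inv_inv] at this
    have hz : (⟨_, hMm⟩ : M) ∈ center M := mem_center_iff.2 fun g =>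
      Subtype.ext (mem_centralizer_iff.1 h g g.2)
    rw [H36.center_eq_bot_of_simple hMna, mem_bot] at hz
    exact inv_mul_eq_one.1 (congrArg Subtype.val hz)
  have e2 : (H'.comap ee.toMonoidHom) ≃* M :=
    ((ee.symm.subgroupMap H').trans
      (MulEquiv.subgroupCongr (comap_equiv_eq_map_symm ee H').symm)).symm.trans iso.symm
  refine ⟨C, inferInstance, H'.comap ee.toMonoidHom, hH'n.comap _, ?_, ?_, ?_⟩
  · haveI : Nontrivial (H'.comap ee.toMonoidHom) := e2.toEquiv.nontrivial
    exact IsSimpleGroup.isSimpleGroup_of_surjective e2.symm.toMonoidHom e2.symm.surjective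
  · intro h
    exact hMna ⟨⟨fun a b => e2.symm.injective (by
      rw [map_mul, map_mul]; exact h.is_comm.comm _ _)⟩⟩
  · rw [eq_bot_iff]
    intro y hy
    have : ee y ∈ centralizer (H' : Set (X ⧸ D)) := fun m hm => by
      obtain ⟨z, rfl⟩ := ee.surjective m
      rw [← map_mul, ← map_mul, mem_centralizer_iff.1 hy z hm]
    rw [hH'c, mem_bot] at this
    exact (map_eq_one_iff ee ee.injective).1 this

end Cfsg.Agent.H79.DegGraphSmall
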