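import Cfsg.Agent.H79.DegGraphSmall.Orders
import Cfsg.Agent.H78.SylowCount
import Cfsg.Agent.H36.Basic

/-!
# Sylow numbers for a prime dividing the order once

If `p` divides the order of `G` exactly once and some prime power part of the number of Sylow
`p`-subgroups is not one modulo `p`, then a nonabelian simple composition factor has order divisible
by `p`.
-/

set_option autoImplicit false
set_option linter.unusedSectionVars false
set_option linter.style.haveILetI false

open Subgroup

namespace Cfsg.Agent.H79.DegGraphSmall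

universe u

/-- Every prime power part of `m` is one modulo `p`. -/
def Good (p m : ℕ) : Prop := ∀ q : ℕ, q.Prime → q ^ m.factorization q % p = 1

theorem good_one {p : ℕ} (hp : 1 < p) : Good p 1 := fun q _ => by
  simp [Nat.mod_eq_of_lt hp]

theorem Good.mul {p a b : ℕ} (hp : 1 < p) (ha0 : a ≠ 0) (hb0 : b ≠ 0) (ha : Good p a)
    (hb : Good p b) : Good p (a * b) := fun q hq => by
  rw [Nat.factorization_mul ha0 hb0, Finsupp.add_apply, pow_add, Nat.mul_mod, ha q hq, hb q hq,
    one_mul, Nat.mod_eq_of_lt hp]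

theorem not_good_of_part {p m : ℕ} (q v r : ℕ) (hq : q.Prime) (hm : m = q ^ v * r) (hr : ¬ q ∣ r)
    (h : q ^ v % p ≠ 1) : ¬ Good p m := by
  intro hg
  have hr0 : r ≠ 0 := fun h0 => hr (h0 ▸ dvd_zero q)
  have hf : m.factorization q = v := by
    rw [hm, Nat.factorization_mul (pow_ne_zero _ hq.ne_zero) hr0, Finsupp.add_apply,
      hq.factorization_pow, Finsupp.single_eq_same, Nat.factorization_eq_zero_of_not_dvd hr,
      add_zero]
  exact h (hf ▸ hg q hq)

variable {G : Type u} [Group G] [Finite G] {p : ℕ} [hp : Fact p.Prime]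

/-- Fixed points of `P` on an invariant subgroup. -/
theorem card_modEq_inf_centralizer (P Q : Subgroup G) (hP : IsPGroup p P)
    (hPQ : P ≤ normalizer (Q : Set G)) :
    Nat.card Q ≡ Nat.card (Q ⊓ centralizer (P : Set G) : Subgroup G) [MOD p] := by
  letI : MulAction P Q :=
    { smul := fun g q => ⟨(g : G) * q * (g : G)⁻¹, (mem_normalizer_iff.1 (hPQ g.2) _).1 q.2⟩
      one_smul := fun q => Subtype.ext (show (1 : G) * q * (1 : G)⁻¹ = q by group)
      mul_smul := fun a b q => Subtype.ext
        (show (a : G) * b * q * ((a : G) * b)⁻¹ = a * (b * q * (b : G)⁻¹) * (a : G)⁻¹ by group) }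
  refine (hP.card_modEq_card_fixedPoints Q).trans (Nat.ModEq.of_eq' ?_)
  exact Nat.card_congr
    { toFun := fun q => ⟨q.1, q.1.2, fun g hg => by
        have h : g * (q.1 : G) * g⁻¹ = q.1 := congrArg Subtype.val (q.2 ⟨g, hg⟩)
        exact mul_inv_eq_iff_eq_mul.1 h⟩
      invFun := fun q => ⟨⟨q.1, q.2.1⟩, fun g => Subtype.ext (by
        show (g : G) * q.1 * (g : G)⁻¹ = q.1
        rw [mem_centralizer_iff.1 q.2.2 g g.2, mul_inv_cancel_right])⟩
      left_inv := fun q => rfl
      right_inv := fun q => rfl }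
  where
  Nat.ModEq.of_eq' {a b : ℕ} (h : a = b) : Nat.ModEq p a b := h ▸ Nat.ModEq.refl a

/-- An invariant Sylow `q`-subgroup of `K` containing a given invariant `q`-subgroup. -/
theorem exists_invariant_sylow (P K : Subgroup G) [K.Normal] (hP : IsPGroup p P)
    (hK : ¬ p ∣ Nat.card K) {q : ℕ} (hq : q.Prime) (R₀ : Subgroup G) (hR₀K : R₀ ≤ K)
    (hR₀ : IsPGroup q R₀) (hPR₀ : P ≤ normalizer (R₀ : Set G)) :
    ∃ Q : Subgroup G, R₀ ≤ Q ∧ Q ≤ K ∧ P ≤ normalizer (Q : Set G) ∧
      Nat.card Q = q ^ (Nat.card K).factorization q := by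
  haveI := Fact.mk hq
  set S := {R : Subgroup G | R₀ ≤ R ∧ R ≤ K ∧ IsPGroup q R ∧ P ≤ normalizer (R : Set G)}
  obtain ⟨R, hR, hmax⟩ := (Set.toFinite S).exists_maximal ⟨R₀, le_rfl, hR₀K, hR₀, hPR₀⟩
  obtain ⟨hR0, hRK, hRq, hPR⟩ := hR
  refine ⟨R, hR0, hRK, hPR, ?_⟩
  set M := K ⊓ normalizer (R : Set G) with hM
  have hRM : R ≤ M := le_inf hRK le_normalizer
  have hPM : P ≤ normalizer (M : Set G) := fun g hg => by
    rw [mem_normalizer_iff]
    intro x
    simp only [hM, Subgroup.mem_inf]
    refine and_congr ⟨fun h => Subgroup.Normal.conj_mem inferInstance x h g, fun h => by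
        simpa [mul_assoc] using Subgroup.Normal.conj_mem inferInstance _ h g⁻¹⟩ ?_
    exact mem_normalizer_iff.1 (le_normalizer (hPR hg)) x
  -- `P` fixes a Sylow subgroup of `M`
  let Ω := {T : Subgroup G // T ≤ M ∧ IsPGroup q T ∧ Nat.card T = q ^ (Nat.card M).factorization q}
  have hconj : ∀ (g : P) (T : Subgroup G), T ≤ M →
      T.map (MulAut.conj (g : G)).toMonoidHom ≤ M := by
    rintro g T hT _ ⟨t, ht, rfl⟩
    exact (mem_normalizer_iff.1 (hPM g.2) t).1 (hT ht)
  letI : MulAction P Ω :=
    { smul := fun g T => ⟨T.1.map (MulAut.conj (g : G)).toMonoidHom, hconj g _ T.2.1,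
        T.2.2.1.map _, by
          rw [card_map_of_injective (MulAut.conj (g : G)).injective, T.2.2.2]⟩
      one_smul := fun T => Subtype.ext (by
        show T.1.map (MulAut.conj ((1 : P) : G)).toMonoidHom = T.1
        ext x; simp)
      mul_smul := fun a b T => Subtype.ext (by
        show T.1.map (MulAut.conj ((a * b : P) : G)).toMonoidHom =
          (T.1.map (MulAut.conj (b : G)).toMonoidHom).map (MulAut.conj (a : G)).toMonoidHom
        rw [map_map]
        congr 1
        ext x; simp [mul_assoc]) }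
  let e : Sylow q M ≃ Ω :=
    { toFun := fun T => ⟨(T : Subgroup M).map M.subtype, map_subtype_le _, T.2.map _, by
        rw [card_map_of_injective M.subtype_injective, T.card_eq_multiplicity]⟩
      invFun := fun T => Sylow.ofCard (T.1.subgroupOf M) (by
        rw [Nat.card_congr (subgroupOfEquivOfLe T.2.1).toEquiv, T.2.2.2])
      left_inv := fun T => Sylow.ext (comap_map_eq_self_of_injective M.subtype_injective _)
      right_inv := fun T => Subtype.ext (by
        show (T.1.subgroupOf M).map M.subtype = T.1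
        rw [subgroupOf_map_subtype, inf_of_le_left T.2.1]) }
  have hndvd : ¬ p ∣ Nat.card Ω := by
    rw [← Nat.card_congr e]
    intro h
    obtain ⟨T⟩ := Sylow.nonempty (p := q) (G := M)
    exact hK ((h.trans (T.card_dvd_index.trans (index_dvd_card _))).trans
      (card_dvd_of_le inf_le_left))
  obtain ⟨T, hT⟩ := hP.nonempty_fixed_point_of_prime_not_dvd_card Ω hndvd
  have hTN : P ≤ normalizer (T.1 : Set G) := by
    intro g hg
    rw [mem_normalizer_iff]
    intro x
    have h : T.1.map (MulAut.conj g).toMonoidHom = T.1 := congrArg Subtype.val (hT ⟨g, hg⟩)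
    constructor
    · intro hx; rw [← h]; exact ⟨x, hx, rfl⟩
    · intro hx
      rw [← h] at hx
      obtain ⟨y, hy, hyx⟩ := hx
      rwa [(MulAut.conj g).injective hyx] at hy
  -- it contains `R`
  have hRT : R ≤ T.1 := by
    have hR' : R.subgroupOf M ≤ (e.symm T : Sylow q M).1 := by
      haveI : (R.subgroupOf M).Normal :=
        normal_subgroupOf_iff hRM |>.2 fun a b ha hb => (mem_normalizer_iff.1 hb.2 a).1 ha
      have hp' : IsPGroup q (R.subgroupOf M) :=
        hRq.comap_of_injective M.subtype M.subtype_injective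
      exact hp'.le_sylow_of_normal _
    intro r hr
    exact hR' (show (⟨r, hRM hr⟩ : M) ∈ R.subgroupOf M from hr)
  have hTR : T.1 = R := le_antisymm
    (hmax ⟨hR0.trans hRT, T.2.1.trans inf_le_left, T.2.2.1, hTN⟩ hRT) hRT
  -- so `R` is a Sylow subgroup of `K`
  have hcard : Nat.card R = q ^ (Nat.card M).factorization q := hTR ▸ T.2.2.2
  obtain ⟨U, hU⟩ : ∃ U : Sylow q K, R.subgroupOf K ≤ (U : Subgroup K) :=
    (hRq.comap_of_injective K.subtype K.subtype_injective).exists_le_sylow
  have hUcard := U.card_eq_multiplicity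
  by_contra hne
  have hlt : R.subgroupOf K < (U : Subgroup K) := lt_of_le_of_ne hU fun h => hne (by
    rw [← hUcard, ← h, Nat.card_congr (subgroupOfEquivOfLe hRK).toEquiv])
  haveI : Group.IsNilpotent (U : Subgroup K) := U.2.isNilpotent
  have hlt' : (R.subgroupOf K).subgroupOf U < ⊤ := by
    rw [lt_top_iff_ne_top, Ne, subgroupOf_eq_top]
    exact fun h => hlt.not_ge h
  obtain ⟨n, hnN, hnR⟩ := SetLike.exists_of_lt (normalizerCondition_of_isNilpotent _ hlt')
  -- `n` normalizes `R`
  have hnN' : ((n : K) : G) ∈ normalizer (R : Set G) := by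
    rw [mem_normalizer_iff]
    intro x
    constructor
    · intro hx
      exact (mem_normalizer_iff.1 hnN ⟨⟨x, hRK hx⟩, hU hx⟩).1 hx
    · intro hx
      have hxK : x ∈ K := by
        have := hRK hx
        rw [mul_assoc] at this
        have h2 := mul_mem (mul_mem (K.inv_mem (n : K).2) this) (n : K).2
        simpa [mul_assoc] using h2
      have hxU : (⟨x, hxK⟩ : K) ∈ (U : Subgroup K) := by
        have h1 : (⟨((n : K) : G) * x * ((n : K) : G)⁻¹, hRK hx⟩ : K) ∈ (U : Subgroup K) := hU hx
        have h2 := mul_mem (mul_mem (U.1.inv_mem n.2) h1) n.2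
        convert h2 using 1
        exact Subtype.ext (by simp [mul_assoc])
      exact (mem_normalizer_iff.1 hnN ⟨⟨x, hxK⟩, hxU⟩).2 hx
  have hnM : ((n : K) : G) ∈ M := ⟨(n : K).2, hnN'⟩
  have hbig : IsPGroup q (zpowers ((n : K) : G) ⊔ R : Subgroup G) :=
    ((((U.2.to_le (zpowers_le.2 n.2)).map K.subtype).to_le (by
      rw [MonoidHom.map_zpowers]; exact le_rfl))).to_sup_of_normal_right' hRq
      (zpowers_le.2 hnN')
  have h1 := card_dvd_of_le (sup_le (zpowers_le.2 hnM) hRM)
  obtain ⟨k, hk⟩ := IsPGroup.iff_card.1 hbig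
  rw [hk] at h1
  have h2 : k ≤ (Nat.card M).factorization q :=
    (hq.pow_dvd_iff_le_factorization Nat.card_pos.ne').1 h1
  have h3 : Nat.card (zpowers ((n : K) : G) ⊔ R : Subgroup G) ≤ Nat.card R := by
    rw [hk, hcard]; exact Nat.pow_le_pow_right hq.pos h2
  have h4 := eq_of_le_of_card_ge (le_sup_right : R ≤ _) h3
  exact hnR (show ((n : K) : G) ∈ R by rw [h4]; exact mem_sup_left (mem_zpowers _))

/-- The index of the centraliser of `P` in a normal `p'`-subgroup is good. -/
theorem good_centralizer_index (P K : Subgroup G) [K.Normal] (hP : Nat.card P = p)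
    (hK : ¬ p ∣ Nat.card K) : Good p ((centralizer (P : Set G)).relIndex K) := by
  intro q hq
  haveI := Fact.mk hq
  have hPp : IsPGroup p P := IsPGroup.of_card (n := 1) (by rw [hP, pow_one])
  set C := centralizer (P : Set G) ⊓ K with hC
  obtain ⟨S⟩ := Sylow.nonempty (p := q) (G := C)
  set R₀ := (S : Subgroup C).map C.subtype
  have hR₀C : R₀ ≤ C := map_subtype_le _
  have hPR₀ : P ≤ normalizer (R₀ : Set G) :=
    (le_centralizer_iff.1 (hR₀C.trans inf_le_left)).trans (centralizer_le_normalizer _)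
  obtain ⟨Q, hRQ, hQK, hPQ, hQcard⟩ := exists_invariant_sylow P K hPp hK hq R₀
    (hR₀C.trans inf_le_right) (S.2.map _) hPR₀
  have hfix := card_modEq_inf_centralizer P Q hPp hPQ
  have hQC : Q ⊓ centralizer (P : Set G) = R₀ := by
    refine (eq_of_le_of_card_ge (le_inf hRQ (hR₀C.trans inf_le_left)) ?_).symm
    have hq' : IsPGroup q (Q ⊓ centralizer (P : Set G) : Subgroup G) :=
      (IsPGroup.of_card hQcard).to_le inf_le_left
    obtain ⟨k, hk⟩ := IsPGroup.iff_card.1 hq'
    have h1 : q ^ k ∣ Nat.card C :=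
      hk ▸ card_dvd_of_le (le_inf inf_le_right (inf_le_left.trans hQK))
    rw [hk, card_map_of_injective C.subtype_injective, S.card_eq_multiplicity]
    exact Nat.pow_le_pow_right hq.pos ((hq.pow_dvd_iff_le_factorization Nat.card_pos.ne').1 h1)
  rw [hQC, hQcard, card_map_of_injective C.subtype_injective, S.card_eq_multiplicity] at hfix
  set r := (centralizer (P : Set G)).relIndex K
  have hmul : Nat.card C * r = Nat.card K := by
    rw [hC, ← relIndex_bot_left, ← relIndex_bot_left]
    rw [show r = (centralizer (P : Set G) ⊓ K).relIndex K from (inf_relIndex_right _ _).symm]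
    exact relIndex_mul_relIndex ⊥ _ K bot_le inf_le_right
  have hr0 : r ≠ 0 := fun h => by
    rw [h, mul_zero] at hmul; exact Nat.card_pos.ne' hmul.symm
  have hf : (Nat.card K).factorization q =
      (Nat.card C).factorization q + r.factorization q := by
    rw [← hmul, Nat.factorization_mul Nat.card_pos.ne' hr0, Finsupp.add_apply]
  rw [hf, pow_add] at hfix
  have hcop : Nat.gcd p (q ^ (Nat.card C).factorization q) = 1 := by
    have hdvd : q ^ (Nat.card C).factorization q ∣ Nat.card K :=
      (Nat.ordProj_dvd _ _).trans (card_dvd_of_le inf_le_right)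
    exact (hp.out.coprime_iff_not_dvd).2 fun h => hK (h.trans hdvd)
  have h1 : q ^ (Nat.card C).factorization q * q ^ r.factorization q ≡
      q ^ (Nat.card C).factorization q * 1 [MOD p] := by rwa [mul_one]
  have h2 := Nat.ModEq.cancel_left_of_coprime hcop h1
  rw [Nat.ModEq, Nat.mod_eq_of_lt hp.out.one_lt] at h2
  exact h2

theorem card_sylow_eq_one_of_not_dvd {H : Type*} [Group H] [Finite H] (h : ¬ p ∣ Nat.card H) :
    Nat.card (Sylow p H) = 1 := by
  have hbot : ∀ P : Sylow p H, (P : Subgroup H) = ⊥ := fun P => by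
    rw [← card_eq_one, P.card_eq_multiplicity, Nat.factorization_eq_zero_of_not_dvd h, pow_zero]
  rw [Nat.card_eq_one_iff_unique]
  exact ⟨⟨fun P Q => Sylow.ext ((hbot P).trans (hbot Q).symm)⟩, inferInstance⟩

/-- The Sylow number of `G` in terms of a normal subgroup. -/
theorem card_sylow_of_normal (hpG : p ∣ Nat.card G) (hp2 : ¬ p ^ 2 ∣ Nat.card G) (K : Subgroup G)
    [K.Normal] :
    (p ∣ Nat.card K ∧ Nat.card (Sylow p G) = Nat.card (Sylow p K)) ∨
      (¬ p ∣ Nat.card K ∧ p ∣ Nat.card (G ⧸ K) ∧ ∃ r, r ≠ 0 ∧ Good p r ∧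
        Nat.card (Sylow p G) = Nat.card (Sylow p (G ⧸ K)) * r) := by
  obtain ⟨P⟩ := Sylow.nonempty (p := p) (G := G)
  have hf : (Nat.card G).factorization p = 1 :=
    le_antisymm (Nat.le_of_lt_succ (by
      by_contra h
      exact hp2 ((hp.out.pow_dvd_iff_le_factorization Nat.card_pos.ne').2 (by omega))))
      ((hp.out.dvd_iff_one_le_factorization Nat.card_pos.ne').1 hpG)
  have hP : Nat.card (P : Subgroup G) = p := by rw [P.card_eq_multiplicity, hf, pow_one]
  have hprod := H78.card_sylow_product K P _ rfl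
  have hcard : Nat.card G = Nat.card (G ⧸ K) * Nat.card K := card_eq_card_quotient_mul_card_subgroup K
  by_cases hK : p ∣ Nat.card K
  · left
    refine ⟨hK, ?_⟩
    have h1 : ¬ p ∣ Nat.card (G ⧸ K) := fun h => hp2 (by
      rw [hcard, pow_two]; exact mul_dvd_mul h hK)
    rw [hprod, card_sylow_eq_one_of_not_dvd h1, one_mul]
    obtain ⟨Q, hQ⟩ := H78.exists_sylow_inf_normal K P
    have hPK : (P : Subgroup G) ≤ K := by
      have h2 : (P : Subgroup G) ⊓ K = P := eq_of_le_of_card_ge inf_le_left (by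
        rw [hP, ← hQ, card_map_of_injective K.subtype_injective]
        exact Nat.le_of_dvd Nat.card_pos (Q.dvd_card_of_dvd_card hK))
      exact inf_eq_left.1 h2
    set N := ((P : Subgroup G) ⊔ K) ⊓
      normalizer (((P : Subgroup G) ⊓ K : Subgroup G) : Set G) with hN
    have hPN : (P : Subgroup G) ≤ N := le_inf le_sup_left (by rw [inf_of_le_left hPK]; exact le_normalizer)
    have hn1 : Nat.card (Sylow p N) = 1 := by
      haveI : ((P.subtype hPN : Sylow p N) : Subgroup N).Normal := by
        rw [Sylow.coe_subtype]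
        refine (normal_subgroupOf_iff hPN).2 fun a b ha hb => ?_
        have hb' := hb.2
        rw [inf_of_le_left hPK] at hb'
        exact (mem_normalizer_iff.1 hb' a).1 ha
      haveI := Sylow.unique_of_normal (P.subtype hPN) inferInstance
      exact Nat.card_unique
    rw [hn1, mul_one]
  · right
    have hquot : p ∣ Nat.card (G ⧸ K) :=
      (hp.out.dvd_mul.1 (hcard ▸ hpG)).resolve_right hK
    refine ⟨hK, hquot, _, ?_, good_centralizer_index (P : Subgroup G) K hP hK, ?_⟩
    · exact index_ne_zero_of_finite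
    rw [hprod, card_sylow_eq_one_of_not_dvd hK, mul_one]
    congr 1
    set N := ((P : Subgroup G) ⊔ K) ⊓
      normalizer (((P : Subgroup G) ⊓ K : Subgroup G) : Set G) with hN
    have hbot : (P : Subgroup G) ⊓ K = ⊥ := inf_eq_bot_of_coprime (by
      rw [hP]; exact hp.out.coprime_iff_not_dvd.2 hK)
    have hNeq : N = (P : Subgroup G) ⊔ K := by
      rw [hN, hbot]
      refine inf_of_le_left fun g _ => mem_normalizer_iff.2 fun x => ?_
      simp
    have hfac := H78.relIndex_eq_of_factor (B := (P : Subgroup G) ⊔ K)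
      (A := normalizer ((P : Subgroup G) : Set G) ⊓ ((P : Subgroup G) ⊔ K)) (M := K) inf_le_right
      le_sup_right (fun b hb => by
        rw [sup_comm] at hb
        obtain ⟨y, hy, x, hx, rfl⟩ := mem_sup_of_normal_left.mp hb
        exact ⟨y, hy, x, ⟨le_normalizer hx, mem_sup_left hx⟩, rfl⟩)
    rw [inf_relIndex_right] at hfac
    rw [H78.card_sylow_eq_relIndex_of_le N P (hNeq ▸ le_sup_left), hNeq, hfac]
    rw [← inf_relIndex_right (centralizer ((P : Subgroup G) : Set G)) K,
      ← inf_relIndex_right (normalizer ((P : Subgroup G) : Set G) ⊓ _) K]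
    congr 1
    refine le_antisymm (fun x hx => ?_) (fun x hx => ?_)
    · obtain ⟨⟨hxN, -⟩, hxK⟩ := hx
      refine ⟨fun y hy => ?_, hxK⟩
      have h1 : y * x * y⁻¹ * x⁻¹ ∈ (P : Subgroup G) ⊓ K := by
        refine ⟨?_, mul_mem (Subgroup.Normal.conj_mem inferInstance x hxK y) (K.inv_mem hxK)⟩
        rw [show y * x * y⁻¹ * x⁻¹ = y * (x * y⁻¹ * x⁻¹) by group]
        exact mul_mem hy ((mem_normalizer_iff.1 hxN _).1 ((P : Subgroup G).inv_mem hy))
      rw [hbot, mem_bot, mul_inv_eq_one, mul_inv_eq_iff_eq_mul] at h1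
      exact h1
    · exact ⟨⟨centralizer_le_normalizer _ hx.1, mem_sup_right hx.2⟩, hx.2⟩

/-- A bad Sylow number comes from a simple composition factor. -/
theorem exists_factor_of_not_good : ∀ (G : Type u) [Group G] [Finite G], Nat.card G < 6000 →
    p ∣ Nat.card G → ¬ p ^ 2 ∣ Nat.card G → ¬ Good p (Nat.card (Sylow p G)) →
    ¬ Group.IsSolvable G ∧ (IsSimpleGroup G ∨
      ∃ m ∈ ({60, 168, 360, 504, 660, 1092, 2448, 2520, 3420, 4080, 5616} : Finset ℕ),
        m < Nat.card G ∧ m ∣ Nat.card G ∧ p ∣ m) := by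
  intro G
  induction hn : Nat.card G using Nat.strong_induction_on generalizing G with
  | _ n ih =>
    intro _ _ hlt hpG hp2 hbad
    subst hn
    by_cases hs : IsSimpleGroup G
    · refine ⟨fun hsol => ?_, Or.inl hs⟩
      haveI := hs
      have hab : ∀ a b : G, a * b = b * a :=
        fun a b => (IsSimpleGroup.comm_iff_isSolvable.2 hsol) a b
      apply hbad
      have h1 : Nat.card (Sylow p G) = 1 := by
        obtain ⟨P⟩ := Sylow.nonempty (p := p) (G := G)
        haveI : (P : Subgroup G).Normal :=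
          ⟨fun n hn g => by rw [hab g n, mul_inv_cancel_right]; exact hn⟩
        haveI := Sylow.unique_of_normal P inferInstance
        exact Nat.card_unique
      rw [h1]; exact good_one hp.out.one_lt
    haveI : Nontrivial G := Finite.one_lt_card_iff_nontrivial.1
      (lt_of_lt_of_le hp.out.one_lt (Nat.le_of_dvd Nat.card_pos hpG))
    obtain ⟨K, hK, hKb, hKt⟩ : ∃ K : Subgroup G, K.Normal ∧ K ≠ ⊥ ∧ K ≠ ⊤ := by
      by_contra h
      exact hs ⟨fun H hH => or_iff_not_imp_left.2 fun hb => by_contra fun ht => h ⟨H, hH, hb, ht⟩⟩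
    haveI := hK
    have hKlt : Nat.card K < Nat.card G :=
      lt_of_le_of_ne (card_le_card_group K) fun h => hKt (eq_top_of_card_eq K h)
    have hcard : Nat.card G = Nat.card (G ⧸ K) * Nat.card K :=
      card_eq_card_quotient_mul_card_subgroup K
    have hQlt : Nat.card (G ⧸ K) < Nat.card G := by
      have h1 : 1 < Nat.card K := (one_lt_card_iff_ne_bot K).2 hKb
      have h2 : 0 < Nat.card (G ⧸ K) := Nat.card_pos
      rw [hcard]
      exact lt_mul_of_one_lt_right h2 h1
    have hstep : ∀ (H : Type u) [Group H] [Finite H], Nat.card H < Nat.card G →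
        Nat.card H ∣ Nat.card G → p ∣ Nat.card H → ¬ Good p (Nat.card (Sylow p H)) →
        ¬ Group.IsSolvable H ∧
          ∃ m ∈ ({60, 168, 360, 504, 660, 1092, 2448, 2520, 3420, 4080, 5616} : Finset ℕ),
            m < Nat.card G ∧ m ∣ Nat.card G ∧ p ∣ m := by
      intro H _ _ hHlt hHdvd hpH hb
      obtain ⟨h1, h2⟩ := ih _ hHlt H rfl (by omega) hpH (fun h => hp2 (h.trans hHdvd)) hb
      refine ⟨h1, ?_⟩
      rcases h2 with hsimp | ⟨m, hm, hml, hmd, hpm⟩
      · haveI := hsimp
        have hna : ¬ IsMulCommutative H := fun h => h1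
          ((IsSimpleGroup.comm_iff_isSolvable (G := H)).1 fun a b => h.is_comm.comm a b)
        exact ⟨_, simple_order_cases hna (by omega), hHlt, hHdvd, hpH⟩
      · exact ⟨m, hm, hml.trans hHlt, hmd.trans hHdvd, hpm⟩
    rcases card_sylow_of_normal hpG hp2 K with ⟨hpK, heq⟩ | ⟨-, hpQ, r, hr0, hr, heq⟩
    · obtain ⟨h1, h2⟩ := hstep K hKlt (card_subgroup_dvd_card K) hpK (heq ▸ hbad)
      exact ⟨fun hsol => h1 (haveI := hsol; inferInstance), Or.inr h2⟩
    · obtain ⟨h1, h2⟩ := hstep (G ⧸ K) hQlt (Dvd.intro _ hcard.symm) hpQ (fun hg => hbad (by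
        rw [heq]
        exact hg.mul hp.out.one_lt Nat.card_pos.ne' hr0 hr))
      exact ⟨fun hsol => h1 (haveI := hsol; inferInstance), Or.inr h2⟩

end Cfsg.Agent.H79.DegGraphSmall
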